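import Cfsg.Agent.Lib.UThreeLocal.Cand.Dat
import Cfsg.Agent.Lib.UThreeLocal.Cand.Symp
import Cfsg.Agent.Lib.UThreeLocal.Loc.KNormal

/-!
# The groups `P`, `B` and `A` when a Sylow three-subgroup of `C(Z)` has order `3⁷`

`P` is the set of elements fixing both flag classes, `B = C_P(y)` is elementary of order `243` and the only
Sylow subgroup of `C(Z) ∩ C(y)`, and `A = B ∩ C(r)` is elementary of order `81`.
-/

set_option autoImplicit false
set_option linter.unusedSectionVars false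
set_option linter.style.haveILetI false

namespace Cfsg.Agent.UThreeLocal.Big.Local

open Subgroup
open scoped commutatorElement
open Cfsg.Agent.UThreeLocal.Cand (mem_sup_zpowers cube_cent flag_change zp_cases)

universe u

variable {G : Type u} [Group G] [Finite G]

/-- The data of the big case at `r = t2`. -/
structure BigData (Z Q Q1 Q2 L1 L2 P : Subgroup G) (t1 t2 z y g d a : G) : Prop where
  frame : Frame Z Q Q1 Q2 L1 L2 t1 t2
  z_mem : z ∈ Z
  z_ne : z ≠ 1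
  pt : IsPt Z y
  y_cent : y ∈ centralizer (Z : Set G)
  y_not : y ∉ Z
  y_t2 : t2 * y = y * t2
  y_g : y ∈ cj g Z
  P_pgroup : IsPGroup 3 ↥P
  P_le : P ≤ centralizer (Z : Set G)
  P_card : Nat.card ↥P = 2187
  y_P : y ∈ P
  flag1 : Flag Z Q1 P d
  flag2 : Flag Z Q2 P a
  d_rad : d ∈ cj g Q
  a_rad : a ∈ cj g Q
  a_inv : t2 * a * t2⁻¹ = a⁻¹
  sig : ∀ K : Subgroup G, (Nat.card ↥K).Coprime 3 → Fx Q y ⊔ zpowers y ≤ normalizer (K : Set G) → K = ⊥

theorem exists_bigData {Z Q Q1 Q2 L1 L2 : Subgroup G} {t1 t2 y0 : G} (F : Frame Z Q Q1 Q2 L1 L2 t1 t2)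
    (hpt : IsPt Z y0) (hyC : y0 ∈ centralizer (Z : Set G)) (hyZ : y0 ∉ Z) (P0 : Subgroup G)
    (hP0 : IsPGroup 3 ↥P0) (hP0C : P0 ≤ centralizer (Z : Set G)) (hP0c : Nat.card ↥P0 = 2187) :
    ∃ (P : Subgroup G) (z y g d a : G), BigData Z Q Q1 Q2 L1 L2 P t1 t2 z y g d a := by
  classical
  haveI : Fact (Nat.Prime 3) := ⟨Nat.prime_three⟩
  obtain ⟨E, z, y, b1, b2, hc⟩ := F.exists_core hpt hyC hyZ
  have h := F.set
  obtain ⟨g, hyg, hzp, -, hy3, hzside, -, -⟩ := F.pt_side hc.pt hc.y_cent hc.y_not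
  set C := centralizer (Z : Set G) with hC
  obtain ⟨S, hS⟩ := ((F.pgroup_zpowers hy3).of_equiv
    (subgroupOfEquivOfLe (zpowers_le.2 hc.y_cent : zpowers y ≤ C)).symm).exists_le_sylow
  obtain ⟨S', hS'⟩ := (hP0.of_equiv (subgroupOfEquivOfLe hP0C).symm).exists_le_sylow
  set P := (S : Subgroup ↥C).map C.subtype with hP
  have hPC : P ≤ C := map_subtype_le _
  have hPp : IsPGroup 3 ↥P := S.2.map _
  have hPc : Nat.card ↥P = 2187 := by
    refine le_antisymm (Nat.le_of_dvd (by norm_num) (F.card_three_le hPp hPC)) ?_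
    rw [← hP0c, hP, card_subtype, S.card_eq_multiplicity, ← S'.card_eq_multiplicity,
      ← Nat.card_congr (subgroupOfEquivOfLe hP0C).toEquiv]
    exact Subgroup.card_le_of_le hS'
  have hyP : y ∈ P := ⟨⟨y, hc.y_cent⟩, hS (mem_subgroupOf.2 (mem_zpowers y)), rfl⟩
  obtain ⟨a1, h1⟩ := F.exists_flag' hPp hPC
  obtain ⟨a2, h2⟩ := F.symm.exists_flag' hPp hPC
  have hgood := F.good hc.pt hc.y_cent hc.y_not hPp hPC hyP h1 h2
  set W := Fx Q y with hW
  set D := W ⊓ cj g Q with hD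
  have hzQ' : z ∉ cj g Q := (hzside z hc.z_mem hc.z_ne).2.2.1
  have hDZ : D ⊓ Z = ⊥ := by
    refine eq_bot_iff.2 fun x hx => ?_
    by_contra hx1
    rw [mem_bot] at hx1
    exact hzQ' ((zpowers_le.2 (mem_inf.1 (mem_inf.1 hx).1).2)
      (by rw [zpowers_eq_of_prime h.Z_card hx.2 hx1]; exact hc.z_mem))
  have hcomm : ∀ x ∈ D, ∀ w ∈ Z, w * x = x * w := fun x hx w hw => h.comm_Z (mem_inf.1 (mem_inf.1 hx).1).1 hw
  have hDn : Z ≤ normalizer (D : Set G) := fun w hw => Subgroup.mem_normalizer_fintype fun x hx => by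
    rw [SetLike.mem_coe, hcomm x hx w hw, mul_inv_cancel_right]; exact hx
  have hDZW : D ⊔ Z = W := by
    refine Subgroup.eq_of_le_of_card_ge (sup_le inf_le_left (h.Z_le_Fx hc.y_cent)) ?_
    have hcd := card_sup_mul_inf (A := D) (B := Z) hDn
    rw [hDZ, card_bot, mul_one, h.Z_card] at hcd
    have h9 : 9 ≤ Nat.card ↥D := F.card_radical hc.pt hc.y_cent hc.y_not hyg
    rw [F.card_Fx_pt hc.pt hc.y_cent hc.y_not, hcd]
    omega
  have hget : ∀ x ∈ W, ∃ u ∈ D, x⁻¹ * u ∈ Z := by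
    intro x hx
    rw [← hDZW, ← SetLike.mem_coe, Subgroup.coe_mul_of_right_le_normalizer_left D Z hDn, Set.mem_mul] at hx
    obtain ⟨u, hu, w, hw, rfl⟩ := hx
    refine ⟨u, hu, ?_⟩
    rw [mul_inv_rev, inv_mul_cancel_right]; exact inv_mem hw
  obtain ⟨d, hdD, hd⟩ := hget a1 (hgood.ge (mem_sup_left (mem_sup_right (mem_zpowers a1))))
  obtain ⟨a, haD, ha⟩ := hget a2 (hgood.ge (mem_sup_right (mem_sup_right (mem_zpowers a2))))
  have f1 := flag_change h F.pair.le1 F.pair.Z1 hPC h1 hd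
  have f2 := flag_change h F.pair.le2 F.pair.Z2 hPC h2 ha
  refine ⟨P, z, y, g, d, a, F, hc.z_mem, hc.z_ne, hc.pt, hc.y_cent, hc.y_not, hc.y_t2, hyg, hPp, hPC, hPc, hyP,
    f1, f2, (mem_inf.1 hdD).2, (mem_inf.1 haD).2, ?_, hc.E_eq ▸ hc.sig⟩
  have hrZ' : t2 ∈ centralizer ((cj g Z : Subgroup G) : Set G) := by
    refine mem_centralizer_iff.2 fun w hw => ?_
    rw [← hzp] at hw
    obtain ⟨m, rfl⟩ := mem_zpowers_iff.1 hw
    exact ((show Commute y t2 from hc.y_t2.symm).zpow_left m).eq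
  have hrD : t2 * a * t2⁻¹ ∈ D := by
    refine mem_inf.2 ⟨?_, (mem_normalizer_iff.1 ((F.conj g).set.Q_norm hrZ') _).1 (mem_inf.1 haD).2⟩
    obtain ⟨haQ, hay⟩ := mem_Fx.1 (mem_inf.1 haD).1
    refine mem_Fx.2 ⟨h.conj_mem (F.L2_le F.t2_mem) haQ, ?_⟩
    calc y * (t2 * a * t2⁻¹) * y⁻¹ = (y * t2) * a * (y * t2)⁻¹ := by group
      _ = t2 * (y * a * y⁻¹) * t2⁻¹ := by rw [← hc.y_t2]; group
      _ = _ := by rw [hay]
  have h0 : t2 * a * t2⁻¹ * a ∈ D ⊓ Z := mem_inf.2 ⟨mul_mem hrD haD, F.t2_inv a f2.mem⟩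
  rw [hDZ, mem_bot] at h0
  exact eq_inv_of_mul_eq_one_left h0

namespace BigData

variable {Z Q Q1 Q2 L1 L2 P : Subgroup G} {t1 t2 z y g d a : G} (D : BigData Z Q Q1 Q2 L1 L2 P t1 t2 z y g d a)
include D

theorem set : Setting Z Q := D.frame.set

theorem W_eq : Fx Q y = (Z ⊔ zpowers d) ⊔ (Z ⊔ zpowers a) :=
  D.frame.good D.pt D.y_cent D.y_not D.P_pgroup D.P_le D.y_P D.flag1 D.flag2

theorem d_W : d ∈ Fx Q y := D.W_eq.ge (mem_sup_left (mem_sup_right (mem_zpowers d)))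

theorem a_W : a ∈ Fx Q y := D.W_eq.ge (mem_sup_right (mem_sup_right (mem_zpowers a)))

theorem d_cube : d ^ 3 = 1 := D.frame.cube d (D.frame.pair.le1 D.flag1.mem)

theorem a_cube : a ^ 3 = 1 := D.frame.cube a (D.frame.pair.le2 D.flag2.mem)

theorem d_ne : d ≠ 1 := fun e => D.flag1.notZ (e ▸ one_mem Z)

theorem a_ne : a ≠ 1 := fun e => D.flag2.notZ (e ▸ one_mem Z)

theorem y_notQ : y ∉ Q := fun h => D.y_not (D.set.pt_mem D.pt h)

theorem y_cube : y ^ 3 = 1 := by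
  obtain ⟨-, -, -, -, h3, -⟩ := D.frame.pt_side D.pt D.y_cent D.y_not
  exact h3

theorem nontriv : ¬ Triv Z Q1 y ∧ ¬ Triv Z Q2 y := D.frame.nontriv D.pt D.y_cent D.y_not

theorem zpowers_y : zpowers y = cj g Z :=
  zpowers_eq_of_prime (by rw [card_cj, D.set.Z_card]) D.y_g D.pt.ne_one

theorem cent_y : centralizer ({y} : Set G) = centralizer ((cj g Z : Subgroup G) : Set G) := by
  rw [← D.zpowers_y, zpowers_eq_closure, centralizer_closure]

theorem z_cent {c : G} (hc : c ∈ centralizer (Z : Set G)) : c * z = z * c :=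
  (mem_centralizer_iff.1 hc z D.z_mem).symm

theorem mem_CZ {c : G} (hc : c * z = z * c) : c ∈ centralizer (Z : Set G) := mem_centralizer_iff.2 fun w hw => by
  obtain ⟨n, rfl⟩ := mem_zpowers_iff.1 ((zpowers_eq_of_prime D.set.Z_card D.z_mem D.z_ne).ge hw)
  exact ((show Commute z c from hc.symm).zpow_left n).eq

theorem t2_cent : t2 ∈ centralizer (Z : Set G) := D.frame.L2_le D.frame.t2_mem

theorem t2_sq : t2 * t2 = 1 := by rw [← pow_two, ← D.frame.t2_two, pow_orderOf_eq_one]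

theorem t2_ne : t2 ≠ 1 := fun e => by
  have := D.frame.t2_two
  rw [e, orderOf_one] at this
  omega

theorem t2_fix {x : G} (hx : x ∈ Q1) : t2 * x = x * t2 :=
  (mem_centralizer_iff.1 (D.frame.L2_cent D.frame.t2_mem) x hx).symm

/-- A point of `C(Z)` in the other radical is a generator of the other point. -/
theorem pt_rad {p : G} (hp : IsPt Z p) (hpQ : p ∈ cj g Q) : p ∈ zpowers y := by
  rw [D.zpowers_y]
  exact (D.set.conj g).pt_mem ((IsPt.cj_iff g).2 hp) hpQ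

theorem Q_inf_y {x : G} (hx : x ∈ Q) (hxy : x ∈ zpowers y) : x = 1 := by
  obtain ⟨g', -, hzp, -, -, -, hinf, -⟩ := D.frame.pt_side D.pt D.y_cent D.y_not
  exact hinf x hx (hzp ▸ hxy)

theorem z_notQ' : z ∉ cj g Q := fun hq => by
  have h1 := D.pt_rad (IsPt.of_mem D.z_mem D.z_ne) hq
  exact D.z_ne (D.Q_inf_y (D.set.Z_le D.z_mem) h1)

theorem rad_inf_Z {x : G} (hx : x ∈ cj g Q) (hxZ : x ∈ Z) : x = 1 := by
  by_contra hx1
  exact D.z_notQ' ((zpowers_le.2 hx)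
    (by rw [zpowers_eq_of_prime D.set.Z_card hxZ hx1]; exact D.z_mem))

/-- `y u` is no point for `u` in both radicals. -/
theorem not_pt_rad {u : G} (hu : u ∈ Q) (hu' : u ∈ cj g Q) (hu1 : u ≠ 1) : ¬ IsPt Z (y * u) := fun hp => by
  have h1 := D.pt_rad hp (mul_mem ((D.set.conj g).Z_le D.y_g) hu')
  exact hu1 (D.Q_inf_y hu ((mul_mem_cancel_left (mem_zpowers y)).1 h1))

/-- Conjugates of `y` under a factor. -/
theorem exists_shift1 : ∃ q ∈ Q1, ∃ u ∈ zpowers d, u ≠ 1 ∧ ∃ w ∈ Z, q * y * q⁻¹ = y * u * w := by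
  obtain ⟨b, hb, h1, -, h3, -, -⟩ := D.frame.shifts D.pt D.y_cent D.y_not D.P_pgroup D.P_le D.y_P D.flag1
  set s := y⁻¹ * (b * y * b⁻¹) with hs
  clear_value s
  rw [sup_comm] at h1
  have hn : Z ≤ normalizer ((zpowers d : Subgroup G) : Set G) := fun w hw =>
    Subgroup.mem_normalizer_fintype fun x hx => by
      have hxQ : x ∈ Q := (zpowers_le.2 (D.frame.pair.le1 D.flag1.mem)) hx
      rw [SetLike.mem_coe, D.set.comm_Z hxQ hw, mul_inv_cancel_right]; exact hx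
  rw [← SetLike.mem_coe, Subgroup.coe_mul_of_right_le_normalizer_left _ _ hn, Set.mem_mul] at h1
  obtain ⟨u, hu, w, hw, e⟩ := h1
  refine ⟨b, hb, u, hu, fun e1 => h3 (by rw [← e, e1, one_mul]; exact hw), w, hw, ?_⟩
  rw [mul_assoc y u w, e, hs, mul_inv_cancel_left]

/-- The same in the second factor. -/
theorem exists_shift2 : ∃ q ∈ Q2, ∃ u ∈ zpowers a, u ≠ 1 ∧ ∃ w ∈ Z, q * y * q⁻¹ = y * u * w := by
  obtain ⟨b, hb, h1, -, h3, -, -⟩ := D.frame.symm.shifts D.pt D.y_cent D.y_not D.P_pgroup D.P_le D.y_P D.flag2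
  set s := y⁻¹ * (b * y * b⁻¹) with hs
  clear_value s
  rw [sup_comm] at h1
  have hn : Z ≤ normalizer ((zpowers a : Subgroup G) : Set G) := fun w hw =>
    Subgroup.mem_normalizer_fintype fun x hx => by
      have hxQ : x ∈ Q := (zpowers_le.2 (D.frame.pair.le2 D.flag2.mem)) hx
      rw [SetLike.mem_coe, D.set.comm_Z hxQ hw, mul_inv_cancel_right]; exact hx
  rw [← SetLike.mem_coe, Subgroup.coe_mul_of_right_le_normalizer_left _ _ hn, Set.mem_mul] at h1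
  obtain ⟨u, hu, w, hw, e⟩ := h1
  refine ⟨b, hb, u, hu, fun e1 => h3 (by rw [← e, e1, one_mul]; exact hw), w, hw, ?_⟩
  rw [mul_assoc y u w, e, hs, mul_inv_cancel_left]

/-- The only point of `y Z` is `y`. -/
theorem pt_coset {c : G} (hc : c ∈ Z) (hp : IsPt Z (y * c)) : c = 1 := by
  by_contra hc1
  have h := D.set
  have F := D.frame
  have hc3 := h.Z_cube hc
  obtain ⟨q1, hq1, u1, hu1, hu1n, w1, hw1, e1⟩ := D.exists_shift1
  obtain ⟨q2, hq2, u2, hu2, hu2n, w2, hw2, e2⟩ := D.exists_shift2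
  have hu1Q : u1 ∈ Q1 := (zpowers_le.2 D.flag1.mem) hu1
  have hu2Q : u2 ∈ Q2 := (zpowers_le.2 D.flag2.mem) hu2
  have hu1g : u1 ∈ cj g Q := (zpowers_le.2 D.d_rad) hu1
  have hu2g : u2 ∈ cj g Q := (zpowers_le.2 D.a_rad) hu2
  have hq1C := h.Q_le (F.pair.le1 hq1)
  have hq2C := h.Q_le (F.pair.le2 hq2)
  have hne : ∀ {u w : G}, u ∈ Q → u ∈ cj g Q → u ≠ 1 → ∀ {q : G}, q ∈ centralizer (Z : Set G) → w ∈ Z →
      q * y * q⁻¹ = y * u * w → w = c := by
    intro u w huQ hug hu q hqC hw e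
    rcases zp_cases h.Z_card hc hc1 hw with e0 | e0 | e0
    · exfalso
      refine D.not_pt_rad huQ hug hu ?_
      have := D.pt.conj q
      rwa [e, e0, mul_one] at this
    · exact e0
    · exfalso
      refine D.not_pt_rad huQ hug hu ?_
      have := hp.conj q
      rw [show q * (y * c) * q⁻¹ = (q * y * q⁻¹) * (q * c * q⁻¹) by group, h.conj_Z hqC hc, e, e0,
        inv_mul_cancel_right] at this
      exact this
  have hw1c := hne (F.pair.le1 hu1Q) hu1g hu1n hq1C hw1 e1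
  have hw2c := hne (F.pair.le2 hu2Q) hu2g hu2n hq2C hw2 e2
  rw [hw1c] at e1
  rw [hw2c] at e2
  have hcq : q1 * u2 * q1⁻¹ = u2 := by rw [F.pair.comm q1 hq1 u2 hu2Q, mul_inv_cancel_right]
  have e3 : q1 * q2 * (y * c) * (q1 * q2)⁻¹ = y * (u1 * u2) := by
    calc q1 * q2 * (y * c) * (q1 * q2)⁻¹ = q1 * ((q2 * y * q2⁻¹) * (q2 * c * q2⁻¹)) * q1⁻¹ := by group
      _ = q1 * (y * u2 * c * c) * q1⁻¹ := by rw [e2, h.conj_Z hq2C hc]
      _ = (q1 * y * q1⁻¹) * (q1 * u2 * q1⁻¹) * (q1 * c * q1⁻¹) * (q1 * c * q1⁻¹) := by group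
      _ = y * u1 * (c * u2) * c * c := by rw [e1, hcq, h.conj_Z hq1C hc]; group
      _ = y * (u1 * u2) * (c * c * c) := by rw [h.comm_Z (F.pair.le2 hu2Q) hc]; group
      _ = y * (u1 * u2) := by rw [← pow_two, ← pow_succ, hc3, mul_one]
  refine D.not_pt_rad (mul_mem (F.pair.le1 hu1Q) (F.pair.le2 hu2Q)) (mul_mem hu1g hu2g) (fun e => ?_)
    (e3 ▸ hp.conj _)
  have h1 : u1 ∈ Z := F.not_swap_both hu1Q (by rw [eq_inv_of_mul_eq_one_left e]; exact inv_mem hu2Q)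
  exact hu1n (D.rad_inf_Z hu1g h1)

/-- An element of `C(Z)` fixing both flag classes lies in `P`. -/
theorem mem_P {c : G} (hc : c ∈ centralizer (Z : Set G)) (h1 : d⁻¹ * (c * d * c⁻¹) ∈ Z)
    (h2 : a⁻¹ * (c * a * c⁻¹) ∈ Z) : c ∈ P := by
  have h := D.set
  have F := D.frame
  haveI : Fact (Nat.Prime 3) := ⟨Nat.prime_three⟩
  let K : Subgroup G :=
    { carrier := {x | x ∈ centralizer (Z : Set G) ∧ d⁻¹ * (x * d * x⁻¹) ∈ Z ∧ a⁻¹ * (x * a * x⁻¹) ∈ Z}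
      one_mem' := ⟨one_mem _, by simp, by simp⟩
      mul_mem' := by
        rintro u v ⟨hu, hu1, hu2⟩ ⟨hv, hv1, hv2⟩
        refine ⟨mul_mem hu hv, ?_, ?_⟩ <;> rw [shift_mul]
        · rw [h.conj_Z hu hv1]; exact mul_mem hu1 hv1
        · rw [h.conj_Z hu hv2]; exact mul_mem hu2 hv2
      inv_mem' := by
        rintro u ⟨hu, hu1, hu2⟩
        have e : ∀ x : G, x⁻¹ * (u⁻¹ * x * u⁻¹⁻¹) = u⁻¹ * (x⁻¹ * (u * x * u⁻¹))⁻¹ * u⁻¹⁻¹ := fun x => by group
        refine ⟨inv_mem hu, ?_, ?_⟩ <;> rw [e]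
        · rw [h.conj_Z (inv_mem hu) (inv_mem hu1)]; exact inv_mem hu1
        · rw [h.conj_Z (inv_mem hu) (inv_mem hu2)]; exact inv_mem hu2 }
  have hle : P ≤ K := fun x hx => ⟨D.P_le hx, D.flag1.fix x hx, D.flag2.fix x hx⟩
  have hp : IsPGroup 3 ↥K := by
    rintro ⟨x, hx, hx1, hx2⟩
    refine ⟨2, Subtype.ext ?_⟩
    have hm : x ^ 3 ∈ Z := by
      rw [← h.cent]
      refine mem_centralizer_iff.2 fun v hv => ?_
      obtain ⟨p, hp, q, hq, rfl⟩ := F.pair.dec v hv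
      rw [mul_assoc, mem_centralizer_iff.1 (cube_cent F.symm hx D.flag2.mem D.flag2.notZ hx2) q hq, ← mul_assoc,
        mem_centralizer_iff.1 (cube_cent F hx D.flag1.mem D.flag1.notZ hx1) p hp, mul_assoc]
    show x ^ (3 ^ 2) = 1
    rw [show (3 : ℕ) ^ 2 = 3 * 3 from rfl, pow_mul, h.Z_cube hm]
  have hd := F.card_three_le hp fun x hx => hx.1
  have he : P = K := Subgroup.eq_of_le_of_card_ge hle (by rw [D.P_card]; exact Nat.le_of_dvd (by norm_num) hd)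
  exact he.ge ⟨hc, h1, h2⟩

theorem Q_le_P : Q ≤ P := D.frame.Q_le_three D.P_pgroup D.P_le D.P_card

/-- `P` meets `Q(L₁ × L₂)` in `Q`. -/
theorem P_inf_QL {x : G} (hx : x ∈ P) (hxK : x ∈ Q ⊔ (L1 ⊔ L2)) : x ∈ Q := by
  haveI : Fact (Nat.Prime 3) := ⟨Nat.prime_three⟩
  set K := (Q ⊔ (L1 ⊔ L2)) ⊓ P with hK
  obtain ⟨k, hk⟩ := IsPGroup.iff_card.1 (D.P_pgroup.to_le (inf_le_right : K ≤ P))
  have h1 : Nat.card ↥K ∣ 243 * 64 := D.frame.card_QL ▸ card_dvd_of_le inf_le_left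
  have hdvd : Nat.card ↥K ∣ 243 := by
    rw [hk] at h1 ⊢
    exact ((Nat.Coprime.pow_left k (by norm_num : Nat.Coprime 3 64))).dvd_of_dvd_mul_right h1
  exact (Subgroup.eq_of_le_of_card_ge (le_inf le_sup_left D.Q_le_P)
    (by rw [D.set.Q_card]; exact Nat.le_of_dvd (by norm_num) hdvd)).ge (mem_inf.2 ⟨hxK, hx⟩)

theorem card_Fxy : Nat.card ↥(Fx Q y) = 27 := D.frame.card_Fx_pt D.pt D.y_cent D.y_not

end BigData

/-- `B = C_P(y)`. -/
abbrev BB (P : Subgroup G) (y : G) : Subgroup G := P ⊓ centralizer ({y} : Set G)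

/-- `A = B ∩ C(r)`. -/
abbrev AA (P : Subgroup G) (y r : G) : Subgroup G := BB P y ⊓ centralizer ({r} : Set G)

namespace BigData

variable {Z Q Q1 Q2 L1 L2 P : Subgroup G} {t1 t2 z y g d a : G} (D : BigData Z Q Q1 Q2 L1 L2 P t1 t2 z y g d a)
include D

theorem W_le_B : Fx Q y ≤ BB P y := fun x hx => mem_inf.2 ⟨D.Q_le_P (mem_inf.1 hx).1, (mem_inf.1 hx).2⟩

theorem y_B : y ∈ BB P y := mem_inf.2 ⟨D.y_P, mem_centralizer_singleton_iff.2 rfl⟩

theorem E_le_B : Fx Q y ⊔ zpowers y ≤ BB P y := sup_le D.W_le_B (zpowers_le.2 D.y_B)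

theorem B_le_C' : BB P y ≤ centralizer ((cj g Z : Subgroup G) : Set G) := D.cent_y ▸ inf_le_right

/-- A three-element of `C(Z) ∩ C(y)` fixes the generators of the flags exactly. -/
theorem fix_flag {c : G} (hc : c ∈ centralizer (Z : Set G)) (hcy : c * y = y * c) {k : ℕ} (hk : c ^ 3 ^ k = 1) :
    c * d = d * c ∧ c * a = a * c := by
  have F := D.frame
  have hc' : c ∈ centralizer ((cj g Z : Subgroup G) : Set G) := D.cent_y ▸ mem_centralizer_singleton_iff.2 hcy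
  obtain ⟨hn1, hn2⟩ := F.normal_of_three hc hk
  have hcW : ∀ w ∈ Fx Q y, c * w * c⁻¹ ∈ Fx Q y := fun w hw => by
    obtain ⟨hwQ, hwy⟩ := mem_Fx.1 hw
    refine mem_Fx.2 ⟨D.set.conj_mem hc hwQ, ?_⟩
    calc y * (c * w * c⁻¹) * y⁻¹ = (y * c) * w * (y * c)⁻¹ := by group
      _ = c * (y * w * y⁻¹) * c⁻¹ := by rw [← hcy]; group
      _ = _ := by rw [hwy]
  have key : ∀ {R R' : Subgroup G} {x x' : G}, Flag Z R P x → Flag Z R' P x' →
      Fx Q y = (Z ⊔ zpowers x) ⊔ (Z ⊔ zpowers x') → (∀ w, w ∈ R → w ∈ R' → w ∈ Z) → Z ≤ R → Z ≤ R' → R ≤ Q →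
      (∀ u ∈ R, ∀ v ∈ R', u * v = v * u) → (∀ w, w ∈ R ↔ c * w * c⁻¹ ∈ R) → x ∈ cj g Q → x ^ 3 = 1 →
      c * x = x * c := by
    intro R R' x x' f f' hW hinf hZR hZR' hRQ hRR' hn hxg hx3
    set S := Fx Q y ⊓ R ⊓ cj g Q with hS
    have hSx : S ≤ zpowers x := by
      intro w hw
      have hwW : w ∈ Fx Q y := (mem_inf.1 (mem_inf.1 hw).1).1
      have hwR : w ∈ R := (mem_inf.1 (mem_inf.1 hw).1).2
      have hwg : w ∈ cj g Q := (mem_inf.1 hw).2
      have hA : Z ⊔ zpowers x ≤ R := sup_le hZR (zpowers_le.2 f.mem)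
      have hA' : Z ⊔ zpowers x' ≤ R' := sup_le hZR' (zpowers_le.2 f'.mem)
      rw [hW, ← SetLike.mem_coe, Subgroup.coe_mul_of_right_le_normalizer_left (Z ⊔ zpowers x) _
        (fun v hv => Subgroup.mem_normalizer_fintype fun u hu => by
          rw [SetLike.mem_coe, ← hRR' u (hA hu) v (hA' hv), mul_inv_cancel_right]; exact hu), Set.mem_mul] at hwW
      obtain ⟨u, hu, v, hv, rfl⟩ := hwW
      have hvZ : v ∈ Z := hinf v ((mul_mem_cancel_left (hA hu)).1 hwR) (hA' hv)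
      have huv : u * v ∈ zpowers x ⊔ Z := by rw [sup_comm]; exact mul_mem hu (mem_sup_left hvZ)
      have hnx : Z ≤ normalizer ((zpowers x : Subgroup G) : Set G) := fun z' hz' =>
        Subgroup.mem_normalizer_fintype fun e he => by
          rw [SetLike.mem_coe, D.set.comm_Z (hRQ ((zpowers_le.2 f.mem) he)) hz', mul_inv_cancel_right]; exact he
      rw [← SetLike.mem_coe, Subgroup.coe_mul_of_right_le_normalizer_left _ _ hnx, Set.mem_mul] at huv
      obtain ⟨e, he, z', hz', ee⟩ := huv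
      have hz1 : z' = 1 := D.rad_inf_Z
        ((mul_mem_cancel_left ((zpowers_le.2 hxg) he)).1 (ee ▸ hwg)) hz'
      rw [← ee, hz1, mul_one]; exact he
    have hxS : x ∈ S := ⟨⟨hW.ge (mem_sup_left (mem_sup_right (mem_zpowers x))), f.mem⟩, hxg⟩
    have hcS : c * x * c⁻¹ ∈ zpowers x := hSx
      ⟨⟨hcW x hxS.1.1, (hn x).1 f.mem⟩, (mem_normalizer_iff.1 ((F.conj g).set.Q_norm hc') x).1 hxg⟩
    have hx1 : x ≠ 1 := fun e => f.notZ (e ▸ one_mem Z)
    haveI : Fact (Nat.Prime 3) := ⟨Nat.prime_three⟩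
    have hord : Nat.card ↥(zpowers x) = 3 := by rw [Nat.card_zpowers, orderOf_eq_prime hx3 hx1]
    rcases zp_cases hord (mem_zpowers x) hx1 hcS with e | e | e
    · exact absurd (conj_eq_one_iff.1 e) hx1
    · exact mul_inv_eq_iff_eq_mul.1 e
    · exfalso
      have hpow : ∀ n : ℕ, c ^ (2 * n + 1) * x * (c ^ (2 * n + 1))⁻¹ = x⁻¹ := by
        intro n
        induction n with
        | zero => simpa using e
        | succ n ih =>
          rw [show 2 * (n + 1) + 1 = (2 * n + 1) + 1 + 1 by ring, pow_succ', pow_succ',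
            show c * (c * c ^ (2 * n + 1)) * x * (c * (c * c ^ (2 * n + 1)))⁻¹ =
              c * (c * (c ^ (2 * n + 1) * x * (c ^ (2 * n + 1))⁻¹) * c⁻¹) * c⁻¹ by group, ih, ← conj_inv, e,
            inv_inv, e]
      obtain ⟨n, hn'⟩ : Odd (3 ^ k) := Odd.pow ⟨1, rfl⟩
      have := hpow n
      rw [← hn', hk, one_mul, inv_one, mul_one] at this
      have h2 : x * x = 1 := by nth_rewrite 1 [this]; exact inv_mul_cancel x
      rw [pow_succ, pow_two, h2, one_mul] at hx3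
      exact hx1 hx3
  have hW' : Fx Q y = (Z ⊔ zpowers a) ⊔ (Z ⊔ zpowers d) := by rw [sup_comm, ← D.W_eq]
  exact ⟨key D.flag1 D.flag2 D.W_eq (fun w h1 h2 => F.not_swap_both h1 h2) F.pair.Z1 F.pair.Z2 F.pair.le1
      F.pair.comm hn1 D.d_rad D.d_cube,
    key D.flag2 D.flag1 hW' (fun w h1 h2 => F.not_swap_both h2 h1) F.pair.Z2 F.pair.Z1 F.pair.le2
      (fun u hu v hv => (F.pair.comm v hv u hu).symm) hn2 D.a_rad D.a_cube⟩

/-- `B` centralises `W = C_Q(y)`. -/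
theorem B_cent_W {b : G} (hb : b ∈ BB P y) {w : G} (hw : w ∈ Fx Q y) : b * w = w * b := by
  obtain ⟨k, hk⟩ := D.P_pgroup ⟨b, (mem_inf.1 hb).1⟩
  obtain ⟨h1, h2⟩ := D.fix_flag (D.P_le (mem_inf.1 hb).1) (mem_centralizer_singleton_iff.1 (mem_inf.1 hb).2)
    (k := k) (by simpa using congrArg Subtype.val hk)
  have hle : Fx Q y ≤ centralizer ({b} : Set G) := by
    rw [D.W_eq]
    refine sup_le (sup_le ?_ (zpowers_le.2 ?_)) (sup_le ?_ (zpowers_le.2 ?_))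
    all_goals first
      | exact fun v hv => mem_centralizer_singleton_iff.2 (mem_centralizer_iff.1 (D.P_le (mem_inf.1 hb).1) v hv)
      | exact mem_centralizer_singleton_iff.2 h1.symm
      | exact mem_centralizer_singleton_iff.2 h2.symm
  exact (mem_centralizer_singleton_iff.1 (hle hw)).symm

theorem B_inf_Q : BB P y ⊓ Q = Fx Q y :=
  le_antisymm (fun x hx => mem_inf.2 ⟨hx.2, hx.1.2⟩) (le_inf D.W_le_B inf_le_left)

theorem mem_B_Q {x : G} (hx : x ∈ BB P y) (hq : x ∈ Q) : x ∈ Fx Q y := D.B_inf_Q.le (mem_inf.2 ⟨hx, hq⟩)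

/-- `|B| ≥ 243`: the orbit of `y` meets each coset of `Z` once. -/
theorem card_B_ge : 243 ≤ Nat.card ↥(BB P y) := by
  classical
  have h := D.set
  have F := D.frame
  have hPW : ∀ p ∈ P, ∀ w ∈ Fx Q y, p * w * p⁻¹ ∈ Fx Q y := by
    intro p hp
    have hle : Fx Q y ≤ (Fx Q y).comap (MulAut.conj p).toMonoidHom := by
      conv_lhs => rw [D.W_eq]
      have hx : ∀ {R : Subgroup G} {x : G}, Flag Z R P x → x ∈ Fx Q y →
          Z ⊔ zpowers x ≤ (Fx Q y).comap (MulAut.conj p).toMonoidHom := fun {R x} f hxW => sup_le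
        (fun v hv => by
          show p * v * p⁻¹ ∈ Fx Q y
          rw [h.conj_Z (D.P_le hp) hv]; exact h.Z_le_Fx D.y_cent hv)
        (zpowers_le.2 (by
          show p * x * p⁻¹ ∈ Fx Q y
          rw [← mul_inv_cancel_left x (p * x * p⁻¹)]
          exact mul_mem hxW (h.Z_le_Fx D.y_cent (f.fix p hp))))
      exact sup_le (hx D.flag1 D.d_W) (hx D.flag2 D.a_W)
    exact fun w hw => hle hw
  have hshift : ∀ p ∈ P, y⁻¹ * (p * y * p⁻¹) ∈ Fx Q y := by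
    intro p hp
    have hq : y⁻¹ * (p * y * p⁻¹) ∈ Q := by
      have := F.comm_mem_Q D.P_pgroup D.P_le (inv_mem D.y_P) hp
      rw [commutatorElement_def, inv_inv] at this
      rwa [show y⁻¹ * (p * y * p⁻¹) = y⁻¹ * p * y * p⁻¹ by group]
    refine F.cent_Fx D.pt D.y_cent D.y_not hq fun w hw => ?_
    have h1 : Commute y⁻¹ w := ((show Commute w y from mem_centralizer_singleton_iff.1 hw.2).symm).inv_left
    have hw' := hPW _ (inv_mem hp) w hw
    rw [inv_inv] at hw'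
    have h2 : Commute (p * y * p⁻¹) w := by
      have h3 := ((show Commute (p⁻¹ * w * p) y from mem_centralizer_singleton_iff.1 hw'.2).symm).map
        (MulAut.conj p).toMonoidHom
      simpa [mul_assoc] using h3
    exact (h1.mul_left h2).eq
  set W := Fx Q y with hW
  have hZW : Z ≤ W := h.Z_le_Fx D.y_cent
  let f : ↥P ⧸ (BB P y).subgroupOf P → ↥W ⧸ Z.subgroupOf W := fun q =>
    QuotientGroup.mk ⟨y⁻¹ * (((Quotient.out q : ↥P) : G) * y * ((Quotient.out q : ↥P) : G)⁻¹),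
      hshift _ (Quotient.out q).2⟩
  have hf : Function.Injective f := by
    intro q q' e
    rw [← Quotient.out_eq q, ← Quotient.out_eq q']
    refine QuotientGroup.eq.2 ?_
    have e' := QuotientGroup.eq.1 e
    rw [mem_subgroupOf] at e'
    simp only [Subgroup.coe_mul, Subgroup.coe_inv] at e'
    rw [mem_subgroupOf]
    simp only [Subgroup.coe_mul, Subgroup.coe_inv]
    set u := ((Quotient.out q : ↥P) : G) with hu
    set v := ((Quotient.out q' : ↥P) : G) with hv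
    set c := (y⁻¹ * (u * y * u⁻¹))⁻¹ * (y⁻¹ * (v * y * v⁻¹)) with hc
    have hcu : u⁻¹ * c * u⁻¹⁻¹ = c := h.conj_Z (inv_mem (D.P_le (Quotient.out q).2)) e'
    have e2 : (u⁻¹ * v) * y * (u⁻¹ * v)⁻¹ = y * c := by
      calc (u⁻¹ * v) * y * (u⁻¹ * v)⁻¹ = u⁻¹ * ((u * y * u⁻¹) * c) * u⁻¹⁻¹ := by rw [hc]; group
        _ = y * (u⁻¹ * c * u⁻¹⁻¹) := by group
        _ = y * c := by rw [hcu]
    have hc1 : c = 1 := D.pt_coset e' (e2 ▸ D.pt.conj _)
    rw [hc1, mul_one] at e2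
    exact mem_inf.2 ⟨mul_mem (inv_mem (Quotient.out q).2) (Quotient.out q').2,
      mem_centralizer_singleton_iff.2 (mul_inv_eq_iff_eq_mul.1 e2)⟩
  have h1 := Nat.card_le_card_of_injective f hf
  have hWc : Nat.card (↥W ⧸ Z.subgroupOf W) = 9 := by
    have := card_eq_card_quotient_mul_card_subgroup (Z.subgroupOf W)
    rw [Nat.card_congr (subgroupOfEquivOfLe hZW).toEquiv, h.Z_card] at this
    have h27 : Nat.card ↥W = 27 := D.card_Fxy
    omega
  have h2 := card_eq_card_quotient_mul_card_subgroup ((BB P y).subgroupOf P)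
  rw [Nat.card_congr (subgroupOfEquivOfLe (inf_le_left : BB P y ≤ P)).toEquiv, D.P_card] at h2
  rw [hWc] at h1
  nlinarith

theorem card_B : Nat.card ↥(BB P y) = 243 := by
  refine le_antisymm ?_ D.card_B_ge
  have h := D.set
  have hc := card_sup_mul_inf (A := Q) (B := BB P y) (inf_le_left.trans (D.P_le.trans h.Q_norm))
  rw [inf_comm, D.B_inf_Q, D.card_Fxy, h.Q_card] at hc
  have := Subgroup.card_le_of_le (sup_le D.Q_le_P inf_le_left : Q ⊔ BB P y ≤ P)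
  rw [D.P_card] at this
  nlinarith

theorem B_exp {b : G} (hb : b ∈ BB P y) : b ^ 3 = 1 := by
  have h := D.set
  have F := D.frame
  have hbP := (mem_inf.1 hb).1
  have hm : b ^ 3 ∈ Z := by
    rw [← h.cent]
    refine mem_centralizer_iff.2 fun v hv => ?_
    obtain ⟨p, hp, q, hq, rfl⟩ := F.pair.dec v hv
    rw [mul_assoc,
      mem_centralizer_iff.1 (cube_cent F.symm (D.P_le hbP) D.flag2.mem D.flag2.notZ (D.flag2.fix b hbP)) q hq,
      ← mul_assoc,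
      mem_centralizer_iff.1 (cube_cent F (D.P_le hbP) D.flag1.mem D.flag1.notZ (D.flag1.fix b hbP)) p hp,
      mul_assoc]
  have F' := F.conj g
  have hBp : IsPGroup 3 ↥(BB P y) := D.P_pgroup.to_le inf_le_left
  obtain ⟨χ, hχ⟩ := F'.exists_char hBp D.B_le_C'
  obtain ⟨ψ, hψ⟩ := F'.symm.exists_char hBp D.B_le_C'
  have h3 : ∀ x : Multiplicative (ZMod 3), x ^ 3 = 1 := by decide
  have hg : b ^ 3 ∈ cj g Q := F'.mem_Q_of_triv (pow_mem (D.B_le_C' hb) 3)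
    ((Subgroup.coe_pow _ ⟨b, hb⟩ 3) ▸ (hχ (⟨b, hb⟩ ^ 3)).1 (by rw [map_pow, h3]) : Triv _ _ (b ^ 3))
    ((Subgroup.coe_pow _ ⟨b, hb⟩ 3) ▸ (hψ (⟨b, hb⟩ ^ 3)).1 (by rw [map_pow, h3]) : Triv _ _ (b ^ 3))
  exact D.rad_inf_Z hg hm

theorem B_comm {u v : G} (hu : u ∈ BB P y) (hv : v ∈ BB P y) : u * v = v * u := by
  classical
  haveI : Fact (Nat.Prime 3) := ⟨Nat.prime_three⟩
  set B := BB P y with hB
  set E := Fx Q y ⊔ zpowers y with hE
  have hEc : E ≤ centralizer (B : Set G) := sup_le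
    (fun w hw => mem_centralizer_iff.2 fun b hb => D.B_cent_W hb hw)
    (zpowers_le.2 (mem_centralizer_iff.2 fun b hb => mem_centralizer_singleton_iff.1 (mem_inf.1 hb).2))
  have hE81 : Nat.card ↥E = 81 := D.frame.card_E D.pt D.y_cent D.y_not
  obtain ⟨b, hb, hbE⟩ : ∃ b ∈ B, b ∉ E := by
    by_contra hc
    push Not at hc
    have := Subgroup.card_le_of_le (show B ≤ E from hc)
    rw [D.card_B, hE81] at this
    omega
  have hEn : zpowers b ≤ normalizer (E : Set G) := zpowers_le.2 (Subgroup.mem_normalizer_fintype fun e he => by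
    rw [SetLike.mem_coe, mem_centralizer_iff.1 (hEc he) b hb, mul_inv_cancel_right]; exact he)
  have hord : Nat.card ↥(zpowers b) = 3 := by
    rw [Nat.card_zpowers, orderOf_eq_prime (D.B_exp hb) fun e => hbE (e ▸ one_mem _)]
  have hc := card_sup_mul_inf (A := E) (B := zpowers b) hEn
  have hi : E ⊓ zpowers b = ⊥ := eq_bot_iff.2 fun x hx => by
    by_contra hx1
    rw [mem_bot] at hx1
    exact hbE ((zpowers_le.2 hx.1) (by rw [zpowers_eq_of_prime hord hx.2 hx1]; exact mem_zpowers b))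
  rw [hi, card_bot, mul_one, hE81, hord] at hc
  have heq : E ⊔ zpowers b = B :=
    Subgroup.eq_of_le_of_card_ge (sup_le D.E_le_B (zpowers_le.2 hb)) (by rw [D.card_B, hc])
  have hbc : B ≤ centralizer ({b} : Set G) := heq.ge.trans (sup_le
    (fun e he => mem_centralizer_singleton_iff.2 (mem_centralizer_iff.1 (hEc he) b hb).symm)
    (zpowers_le.2 (mem_centralizer_singleton_iff.2 rfl)))
  have hBc : B ≤ centralizer (B : Set G) := heq.ge.trans (sup_le hEc (zpowers_le.2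
    (mem_centralizer_iff.2 fun x hx => mem_centralizer_singleton_iff.1 (hbc hx))))
  exact mem_centralizer_iff.1 (hBc hv) u hu

/-- `B` is the only Sylow subgroup of `C(Z) ∩ C(y)`. -/
theorem mem_B {c : G} (hc : c ∈ centralizer (Z : Set G)) (hcy : c * y = y * c) {k : ℕ} (hk : c ^ 3 ^ k = 1) :
    c ∈ BB P y := by
  obtain ⟨h1, h2⟩ := D.fix_flag hc hcy hk
  refine mem_inf.2 ⟨D.mem_P hc ?_ ?_, mem_centralizer_singleton_iff.2 hcy⟩
  · rw [h1, mul_inv_cancel_right, inv_mul_cancel]; exact one_mem _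
  · rw [h2, mul_inv_cancel_right, inv_mul_cancel]; exact one_mem _

theorem norm_B {c : G} (hc : c ∈ centralizer (Z : Set G)) (hcy : c * y = y * c) :
    c ∈ normalizer (BB P y : Set G) := Subgroup.mem_normalizer_fintype fun b hb => by
  refine D.mem_B (k := 1) (mul_mem (mul_mem hc (D.P_le (mem_inf.1 hb).1)) (inv_mem hc)) ?_ ?_
  · have h1 : Commute c y := hcy
    have h2 : Commute b y := mem_centralizer_singleton_iff.1 (mem_inf.1 hb).2
    exact ((h1.mul_left h2).mul_left h1.inv_left).eq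
  · rw [pow_one, conj_pow, D.B_exp hb, mul_one, mul_inv_cancel]

theorem z_A : z ∈ AA P y t2 := mem_inf.2 ⟨D.W_le_B (D.set.Z_le_Fx D.y_cent D.z_mem),
  mem_centralizer_singleton_iff.2 (D.z_cent D.t2_cent).symm⟩

theorem y_A : y ∈ AA P y t2 := mem_inf.2 ⟨D.y_B, mem_centralizer_singleton_iff.2 D.y_t2.symm⟩

theorem d_A : d ∈ AA P y t2 := mem_inf.2 ⟨D.W_le_B D.d_W,
  mem_centralizer_singleton_iff.2 (D.t2_fix D.flag1.mem).symm⟩

theorem a_notA : a ∉ AA P y t2 := fun h => by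
  have h1 := D.a_inv
  rw [← mem_centralizer_singleton_iff.1 (mem_inf.1 h).2, mul_inv_cancel_right] at h1
  refine D.a_ne ?_
  have h3 := D.a_cube
  rwa [pow_succ, pow_two, show a * a = 1 by nth_rewrite 1 [h1]; exact inv_mul_cancel a, one_mul] at h3

theorem A_comm {u v : G} (hu : u ∈ AA P y t2) (hv : v ∈ AA P y t2) : u * v = v * u :=
  D.B_comm (mem_inf.1 hu).1 (mem_inf.1 hv).1

theorem A_exp {u : G} (hu : u ∈ AA P y t2) : u ^ 3 = 1 := D.B_exp (mem_inf.1 hu).1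

theorem A_le_P : AA P y t2 ≤ P := inf_le_left.trans inf_le_left

theorem A_le_C : AA P y t2 ≤ centralizer (Z : Set G) := D.A_le_P.trans D.P_le

theorem A_t2 {u : G} (hu : u ∈ AA P y t2) : u * t2 = t2 * u := mem_centralizer_singleton_iff.1 (mem_inf.1 hu).2

/-- `r` normalises `P`. -/
theorem t2_norm_P : t2 ∈ normalizer (P : Set G) := by
  have h := D.set
  have hd : ∀ c, c ∈ P → t2 * c * t2⁻¹ ∈ P := by
    intro c hc
    have hcC := D.P_le hc
    have hti : t2⁻¹ = t2 := inv_eq_of_mul_eq_one_right D.t2_sq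
    refine D.mem_P (mul_mem (mul_mem D.t2_cent hcC) (inv_mem D.t2_cent)) ?_ ?_
    · rw [show d⁻¹ * (t2 * c * t2⁻¹ * d * (t2 * c * t2⁻¹)⁻¹) =
        t2 * ((t2⁻¹ * d * t2)⁻¹ * (c * (t2⁻¹ * d * t2) * c⁻¹)) * t2⁻¹ by group,
        show t2⁻¹ * d * t2 = d by rw [mul_assoc, ← D.t2_fix D.flag1.mem, inv_mul_cancel_left],
        h.conj_Z D.t2_cent (D.flag1.fix c hc)]
      exact D.flag1.fix c hc
    · have e : t2⁻¹ * a * t2 = a⁻¹ := by rw [hti]; nth_rewrite 2 [← hti]; exact D.a_inv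
      have hc2 : a⁻¹⁻¹ * (c * a⁻¹ * c⁻¹) ∈ Z := by
        have e2 : a⁻¹⁻¹ * (c * a⁻¹ * c⁻¹) = a * (a⁻¹ * (c * a * c⁻¹))⁻¹ * a⁻¹ := by group
        rw [e2, ← h.comm_Z (D.frame.pair.le2 D.flag2.mem) (inv_mem (D.flag2.fix c hc)), mul_inv_cancel_right]
        exact inv_mem (D.flag2.fix c hc)
      rw [show a⁻¹ * (t2 * c * t2⁻¹ * a * (t2 * c * t2⁻¹)⁻¹) =
        t2 * ((t2⁻¹ * a * t2)⁻¹ * (c * (t2⁻¹ * a * t2) * c⁻¹)) * t2⁻¹ by group, e, h.conj_Z D.t2_cent hc2]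
      exact hc2
  exact Subgroup.mem_normalizer_fintype hd

/-- The elements of `W` inverted by `r`. -/
theorem inv_W {x : G} (hx : x ∈ Fx Q y) (hr : t2 * x * t2⁻¹ = x⁻¹) : x ∈ zpowers a := by
  have h := D.set
  have F := D.frame
  have hA1 : Z ⊔ zpowers d ≤ Q1 := sup_le F.pair.Z1 (zpowers_le.2 D.flag1.mem)
  have hn : zpowers a ≤ normalizer ((Z ⊔ zpowers d : Subgroup G) : Set G) := fun v hv =>
    Subgroup.mem_normalizer_fintype fun u hu => by
      rw [SetLike.mem_coe, ← F.pair.comm u (hA1 hu) v ((zpowers_le.2 D.flag2.mem) hv), mul_inv_cancel_right]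
      exact hu
  have hW : Fx Q y = (Z ⊔ zpowers d) ⊔ zpowers a := by
    rw [D.W_eq, ← sup_assoc, sup_eq_left.2 (le_sup_left : Z ≤ Z ⊔ zpowers d)]
  rw [hW, ← SetLike.mem_coe, Subgroup.coe_mul_of_right_le_normalizer_left _ _ hn, Set.mem_mul] at hx
  obtain ⟨u, hu, v, hv, rfl⟩ := hx
  obtain ⟨m, rfl⟩ := mem_zpowers_iff.1 hv
  have hu1 : t2 * u * t2⁻¹ = u := by rw [D.t2_fix (hA1 hu), mul_inv_cancel_right]
  have hv1 : t2 * a ^ m * t2⁻¹ = (a ^ m)⁻¹ := by rw [← conj_zpow, D.a_inv, inv_zpow]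
  rw [show t2 * (u * a ^ m) * t2⁻¹ = (t2 * u * t2⁻¹) * (t2 * a ^ m * t2⁻¹) by group, hu1, hv1, mul_inv_rev,
    ← mul_inv_rev u (a ^ m), F.pair.comm u (hA1 hu) (a ^ m) ((zpowers_le.2 D.flag2.mem) hv), mul_inv_rev] at hr
  have h2 : u = u⁻¹ := mul_right_cancel hr
  have h3 : u ^ 3 = 1 := F.cube u (F.pair.le1 (hA1 hu))
  rw [pow_succ, pow_two, show u * u = 1 by nth_rewrite 1 [h2]; exact inv_mul_cancel u, one_mul] at h3
  rw [h3, one_mul]; exact hv

theorem card_A : Nat.card ↥(AA P y t2) = 81 := by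
  classical
  haveI : Fact (Nat.Prime 3) := ⟨Nat.prime_three⟩
  set B := BB P y with hB
  have hrB : ∀ b ∈ B, t2 * b * t2⁻¹ ∈ B :=
    fun b hb => (mem_normalizer_iff.1 (D.norm_B D.t2_cent D.y_t2) b).1 hb
  let φ : ↥B →* ↥B :=
    MonoidHom.mk' (fun b => ⟨(b : G)⁻¹ * (t2 * b * t2⁻¹), mul_mem (inv_mem b.2) (hrB b b.2)⟩) fun b c => by
      apply Subtype.ext
      show ((b : G) * c)⁻¹ * (t2 * (b * c) * t2⁻¹) = _
      calc ((b : G) * c)⁻¹ * (t2 * (b * c) * t2⁻¹) =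
          (c : G)⁻¹ * (((b : G)⁻¹ * (t2 * b * t2⁻¹)) * (t2 * c * t2⁻¹)) := by group
        _ = ((b : G)⁻¹ * (t2 * b * t2⁻¹)) * ((c : G)⁻¹ * (t2 * c * t2⁻¹)) := by
          rw [← mul_assoc, D.B_comm (inv_mem c.2) (mul_mem (inv_mem b.2) (hrB b b.2)), mul_assoc]
  have hrange : φ.range.map B.subtype ≤ zpowers a := by
    rintro _ ⟨_, ⟨b, rfl⟩, rfl⟩
    show (b : G)⁻¹ * (t2 * b * t2⁻¹) ∈ _
    have hq : (b : G)⁻¹ * (t2 * b * t2⁻¹) ∈ Q := by
      refine D.P_inf_QL (mul_mem (inv_mem b.2.1) ((mem_normalizer_iff.1 D.t2_norm_P _).1 b.2.1)) ?_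
      have ht : t2 ∈ Q ⊔ (L1 ⊔ L2) := mem_sup_right (mem_sup_right D.frame.t2_mem)
      have h1 := (mem_normalizer_iff.1 (D.frame.norm_L (inv_mem (D.P_le b.2.1))) t2).1 ht
      rw [inv_inv] at h1
      rw [show (b : G)⁻¹ * (t2 * b * t2⁻¹) = ((b : G)⁻¹ * t2 * b) * t2⁻¹ by group]
      exact mul_mem h1 (inv_mem ht)
    refine D.inv_W (D.mem_B_Q (mul_mem (inv_mem b.2) (hrB b b.2)) hq) ?_
    have hti : t2⁻¹ = t2 := inv_eq_of_mul_eq_one_right D.t2_sq
    calc t2 * ((b : G)⁻¹ * (t2 * b * t2⁻¹)) * t2⁻¹ = (t2 * b * t2⁻¹)⁻¹ * (t2 * t2 * b * (t2 * t2)⁻¹) := by group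
      _ = ((b : G)⁻¹ * (t2 * b * t2⁻¹))⁻¹ := by rw [D.t2_sq]; group
  have hker : φ.ker.map B.subtype = AA P y t2 := by
    ext x
    constructor
    · rintro ⟨b, hb, rfl⟩
      have h1 : (b : G)⁻¹ * (t2 * b * t2⁻¹) = 1 := congrArg Subtype.val hb
      exact mem_inf.2 ⟨b.2, mem_centralizer_singleton_iff.2
        (mul_inv_eq_iff_eq_mul.1 (inv_mul_eq_one.1 h1).symm).symm⟩
    · intro hx
      refine ⟨⟨x, (mem_inf.1 hx).1⟩, Subtype.ext ?_, rfl⟩
      show x⁻¹ * (t2 * x * t2⁻¹) = 1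
      rw [← D.A_t2 hx, mul_inv_cancel_right, inv_mul_cancel]
  have h1 := φ.ker.card_mul_index
  rw [index_ker, D.card_B, ← card_subtype B φ.ker, hker, ← card_subtype B φ.range] at h1
  have h2 := Subgroup.card_le_of_le hrange
  rw [Nat.card_zpowers, orderOf_eq_prime D.a_cube D.a_ne] at h2
  have h4 : Nat.card ↥(AA P y t2) ≠ 243 := fun e => D.a_notA
    ((Subgroup.eq_of_le_of_card_ge (inf_le_left : AA P y t2 ≤ B) (by rw [D.card_B, e])).ge (D.W_le_B D.a_W))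
  have hpos : 0 < Nat.card ↥(φ.range.map B.subtype) := Nat.card_pos
  interval_cases hr : Nat.card ↥(φ.range.map B.subtype) <;> omega

/-- An element of `A` trivial on `Q₂/Z` centralises `Q₂`. -/
theorem cent_of_triv {x : G} (hx : x ∈ AA P y t2) (ht : Triv Z Q2 x) {u : G} (hu : u ∈ Q2) : x * u = u * x := by
  have h := D.set
  have F := D.frame
  have huQ := F.pair.le2 hu
  have hxC := D.A_le_C hx
  set ζ := u⁻¹ * (x * u * x⁻¹) with hζ
  have hζZ : ζ ∈ Z := ht u hu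
  set η := t2 * u * t2⁻¹ * u with hη
  have hηZ : η ∈ Z := F.t2_inv u hu
  have e1 : x * u * x⁻¹ = u * ζ := by rw [hζ, mul_inv_cancel_left]
  have e2 : t2 * u * t2⁻¹ = η * u⁻¹ := by rw [hη, mul_inv_cancel_right]
  clear_value ζ η
  have e3 : η * u⁻¹ * ζ = η * (ζ⁻¹ * u⁻¹) := by
    calc η * u⁻¹ * ζ = (t2 * u * t2⁻¹) * (t2 * ζ * t2⁻¹) := by rw [h.conj_Z D.t2_cent hζZ, e2]
      _ = t2 * (x * u * x⁻¹) * t2⁻¹ := by rw [e1]; group
      _ = (t2 * x) * u * (t2 * x)⁻¹ := by group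
      _ = x * (t2 * u * t2⁻¹) * x⁻¹ := by rw [← D.A_t2 hx]; group
      _ = (x * η * x⁻¹) * (x * u * x⁻¹)⁻¹ := by rw [e2]; group
      _ = _ := by rw [h.conj_Z hxC hηZ, e1, mul_inv_rev]
  rw [mul_assoc] at e3
  have e4 := mul_left_cancel e3
  rw [← h.comm_Z (inv_mem huQ) hζZ] at e4
  have h2 : ζ * ζ = 1 := by
    have e5 := mul_right_cancel e4
    nth_rewrite 1 [e5]
    exact inv_mul_cancel ζ
  have h3 := h.Z_cube hζZ
  rw [pow_succ, pow_two, h2, one_mul] at h3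
  rw [h3, mul_one] at e1
  exact mul_inv_eq_iff_eq_mul.1 e1

theorem mem_A {c : G} (hc : c ∈ centralizer (Z : Set G)) (hcy : c * y = y * c) (hct : c * t2 = t2 * c)
    {k : ℕ} (hk : c ^ 3 ^ k = 1) : c ∈ AA P y t2 :=
  mem_inf.2 ⟨D.mem_B hc hcy hk, mem_centralizer_singleton_iff.2 hct⟩

end BigData

end Cfsg.Agent.UThreeLocal.Big.Local
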