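import Mathlib
import Cfsg.Agent.Lib.SelfThree.Main
import Cfsg.Agent.Lib.SelfThree.Sixty
import Cfsg.Agent.Lib.Transfer.Fusion
import Cfsg.Agent.Lib.PLocal.Cores

/-!
# Groups with a Sylow three-subgroup of order nine and no invariant subgroup of order prime to three

`top_of_self_nine`: a self-centralising inverted element; `burnside_nine`: a self-normalising one.
-/

set_option autoImplicit false
set_option linter.unusedSectionVars false
set_option linter.style.haveILetI false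

namespace Cfsg.Agent.UThreeLocal.Big

open Subgroup

universe u

variable {X : Type u} [Group X] [Finite X]

/-- The conjugation action on the Sylow subgroups of a normal subgroup. -/
theorem exists_invariant_sylow {p : ℕ} [Fact p.Prime] (T : Subgroup X) (hT : IsPGroup 3 ↥T) (N : Subgroup X)
    [N.Normal] (h3 : ¬ 3 ∣ Nat.card (Sylow p ↥N)) :
    ∃ P : Sylow p ↥N, T ≤ normalizer (((P : Subgroup ↥N).map N.subtype : Subgroup X) : Set X) := by
  haveI : Fact (Nat.Prime 3) := ⟨Nat.prime_three⟩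
  letI : MulAction ↥T (Sylow p ↥N) :=
    MulAction.compHom (Sylow p ↥N) ((MulAut.conjNormal : X →* MulAut ↥N).comp T.subtype)
  obtain ⟨P, hP⟩ := hT.nonempty_fixed_point_of_prime_not_dvd_card (α := Sylow p ↥N) h3
  refine ⟨P, fun t ht => ?_⟩
  have h := congrArg (fun Q : Sylow p ↥N => ((Q : Subgroup ↥N) : Set ↥N))
    (MulAction.mem_fixedPoints.1 hP (⟨t, ht⟩ : ↥T))
  refine Subgroup.mem_normalizer_fintype fun w hw => ?_
  obtain ⟨a, ha, rfl⟩ := hw
  have : MulAut.conjNormal t a ∈ ((P : Subgroup ↥N) : Set ↥N) := by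
    rw [← h]
    exact Subgroup.smul_mem_pointwise_smul a (MulAut.conjNormal t) _ ha
  exact ⟨_, this, MulAut.conjNormal_apply t a⟩

/-- A Sylow three-subgroup of order nine whose normaliser is `T⟨s⟩`. -/
theorem sylow_of_normalizer {T : Subgroup X} (h9 : Nat.card ↥T = 9) {s : X} (hs : s * s = 1)
    (hN : normalizer (T : Set X) ≤ T ⊔ zpowers s) (hsN : s ∈ normalizer (T : Set X)) :
    ∃ P : Sylow 3 X, (P : Subgroup X) = T := by
  haveI : Fact (Nat.Prime 3) := ⟨Nat.prime_three⟩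
  have hT : IsPGroup 3 ↥T := IsPGroup.of_card (n := 2) (by rw [h9]; norm_num)
  obtain ⟨P, hP⟩ := hT.exists_le_sylow
  refine ⟨P, hP.antisymm' ?_⟩
  by_contra hle
  have hlt : T < (P : Subgroup X) := lt_of_le_not_ge hP hle
  haveI : Group.IsNilpotent ↥(P : Subgroup X) := P.2.isNilpotent
  have hlt' : T.subgroupOf P < normalizer ((T.subgroupOf P : Subgroup ↥(P : Subgroup X)) : Set ↥(P : Subgroup X)) := by
    refine Group.normalizerCondition_of_isNilpotent _ ?_
    rw [lt_top_iff_ne_top, Ne, subgroupOf_eq_top]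
    exact hlt.not_ge
  obtain ⟨x, hx, hxT⟩ := SetLike.exists_of_lt hlt'
  have hxN : (x : X) ∈ normalizer (T : Set X) := Subgroup.mem_normalizer_fintype fun w hw =>
    (mem_normalizer_iff.1 hx ⟨w, hP hw⟩).1 hw
  -- `(T ⊔ ⟨s⟩)` has index at most two over `T`
  have hcos : ∀ g ∈ T ⊔ zpowers s, g * g ∈ T := by
    intro g hg
    rw [← SetLike.mem_coe, Subgroup.coe_mul_of_right_le_normalizer_left _ _ (zpowers_le.2 hsN), Set.mem_mul] at hg
    obtain ⟨a, ha, b, hb, rfl⟩ := hg
    have hb' : b ∈ normalizer (T : Set X) := zpowers_le.2 hsN hb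
    have hbb : b * b = 1 := by
      obtain ⟨n, rfl⟩ := mem_zpowers_iff.1 hb
      rw [← ((Commute.refl s).mul_zpow n), hs, one_zpow]
    rw [show a * b * (a * b) = a * (b * a * b⁻¹) * (b * b) by group, hbb, mul_one]
    exact mul_mem ha ((mem_normalizer_iff.1 hb' a).1 ha)
  obtain ⟨k, hk⟩ := P.2 x
  refine hxT (mem_subgroupOf.2 ?_)
  have h2 : (x : X) * x ∈ T := hcos _ (hN hxN)
  have hodd : Odd (3 ^ k) := Odd.pow (by decide)
  obtain ⟨r, hr⟩ := hodd
  have e : (x : X) ^ 3 ^ k = 1 := by rw [← SubgroupClass.coe_pow, hk, OneMemClass.coe_one]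
  rw [hr, pow_succ, pow_mul, pow_two] at e
  rw [eq_inv_of_mul_eq_one_right e]
  exact inv_mem (pow_mem h2 r)

/-- THEOREM: a self-centralising inverted element in a Sylow subgroup of order nine. -/
theorem top_of_self_nine (T : Subgroup X) (h9 : Nat.card ↥T = 9) (hcomm : ∀ a ∈ T, ∀ b ∈ T, a * b = b * a)
    (hexp : ∀ a ∈ T, a ^ 3 = 1)
    (hsig : ∀ K : Subgroup X, (Nat.card ↥K).Coprime 3 → T ≤ normalizer (K : Set X) → K = ⊥)
    {u v s : X} (hu : u ∈ T) (hu1 : u ≠ 1) (hcu : centralizer ({u} : Set X) ≤ T) (hs : s * s = 1)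
    (hsu : s * u * s⁻¹ = u⁻¹) (hv : v ∈ T) (hvu : v ∉ zpowers u) (hsv : s * v = v * s)
    (hN : normalizer (T : Set X) ≤ T ⊔ zpowers s) : T ⊔ zpowers s = ⊤ := by
  classical
  haveI : Fact (Nat.Prime 3) := ⟨Nat.prime_three⟩
  have huo : orderOf u = 3 := orderOf_eq_prime (hexp u hu) hu1
  have hUT : zpowers u ≤ T := zpowers_le.2 hu
  have hUrel : (zpowers u).relIndex T = 3 := by
    have h := relIndex_mul_relIndex ⊥ (zpowers u) T bot_le hUT
    rw [relIndex_bot_left, relIndex_bot_left, Nat.card_zpowers, huo, h9] at h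
    omega
  -- `u` and `v` generate
  have hgen : ∀ x ∈ T, ∀ D : Subgroup X, u ∈ D → v ∈ D → x ∈ D := by
    intro x hx D hDu hDv
    have hle : zpowers u ≤ D ⊓ T := zpowers_le.2 (mem_inf.2 ⟨hDu, hu⟩)
    have h1 := relIndex_mul_relIndex (zpowers u) (D ⊓ T) T hle inf_le_right
    rw [hUrel] at h1
    rcases (Nat.dvd_prime Nat.prime_three).1 (Dvd.intro _ h1) with e | e
    · exact absurd (relIndex_eq_one.1 e (mem_inf.2 ⟨hDv, hv⟩)) hvu
    · rw [e] at h1
      exact (mem_inf.1 (relIndex_eq_one.1 (show (D ⊓ T).relIndex T = 1 by omega) hx)).1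
  have hsN : s ∈ normalizer (T : Set X) := by
    refine Subgroup.mem_normalizer_fintype fun w hw => ?_
    have : w ∈ T.comap (MulAut.conj s).toMonoidHom := hgen w hw _
      (show s * u * s⁻¹ ∈ T by rw [hsu]; exact inv_mem hu)
      (show s * v * s⁻¹ ∈ T by rw [hsv, mul_inv_cancel_right]; exact hv)
    exact this
  obtain ⟨P, hP⟩ := sylow_of_normalizer h9 hs hN hsN
  -- the focal subgroup is `⟨u⟩`
  have hfocal : commutator X ⊓ (P : Subgroup X) ≤ zpowers u := by
    refine Transfer.Fusion.focal_le_of_fusion P fun x hx g hgx => ?_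
    have hxT : x ∈ T := hP ▸ hx
    have hcentP : ∀ y ∈ (P : Subgroup X), y ∈ centralizer ((P : Subgroup X) : Set X) := by
      intro y hy
      refine mem_centralizer_iff.2 fun w hw => ?_
      rw [SetLike.mem_coe, hP] at hw
      exact hcomm w hw y (hP ▸ hy)
    obtain ⟨n, hn, e⟩ := Sylow.conj_eq_normalizer_conj_of_mem_centralizer P x g⁻¹
      (hcentP x hx) (by rw [inv_inv]; exact hcentP _ hgx)
    rw [inv_inv] at e
    refine ⟨n⁻¹, by rw [e, inv_inv], ?_⟩
    replace hn : n ∈ normalizer ((P : Subgroup X) : Set X) := hn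
    rw [hP] at hn
    have hn' : n⁻¹ ∈ T ⊔ zpowers s := hN (inv_mem hn)
    have hcom : ∀ w ∈ T, s * w * s⁻¹ * w⁻¹ ∈ zpowers u ∧ w * s * w⁻¹ * s⁻¹ ∈ zpowers u := by
      intro w hw
      have hd : ∀ a ∈ T, ∀ b ∈ T, s * (a * b) * s⁻¹ * (a * b)⁻¹ =
          (s * a * s⁻¹ * a⁻¹) * (a * (s * b * s⁻¹ * b⁻¹) * a⁻¹) := fun a _ b _ => by group
      let D : Subgroup X :=
        { carrier := {w | w ∈ T ∧ s * w * s⁻¹ * w⁻¹ ∈ zpowers u}
          one_mem' := ⟨one_mem _, by simp⟩
          mul_mem' := fun {a b} ha hb => ⟨mul_mem ha.1 hb.1, by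
            rw [hd a ha.1 b hb.1, hcomm a ha.1 _ (hUT hb.2), mul_inv_cancel_right]
            exact mul_mem ha.2 hb.2⟩
          inv_mem' := fun {a} ha => ⟨inv_mem ha.1, by
            have h' := inv_mem ha.2
            have hc := hcomm (a⁻¹) (inv_mem ha.1) _ (hUT h')
            rw [show s * a⁻¹ * s⁻¹ * a⁻¹⁻¹ = a⁻¹ * (s * a * s⁻¹ * a⁻¹)⁻¹ * a by group, hc, inv_mul_cancel_right]
            exact h'⟩ }
      have hwD : w ∈ D := hgen w hw D
        ⟨hu, by rw [hsu]; exact mul_mem (inv_mem (mem_zpowers u)) (inv_mem (mem_zpowers u))⟩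
        ⟨hv, by rw [hsv, mul_inv_cancel_right, mul_inv_cancel]; exact one_mem _⟩
      refine ⟨hwD.2, ?_⟩
      rw [show w * s * w⁻¹ * s⁻¹ = (s * w * s⁻¹ * w⁻¹)⁻¹ by group]
      exact inv_mem hwD.2
    rw [← SetLike.mem_coe, Subgroup.coe_mul_of_right_le_normalizer_left _ _ (zpowers_le.2 hsN), Set.mem_mul] at hn'
    obtain ⟨a, ha, b, hb, eab⟩ := hn'
    have hb' : b = 1 ∨ b = s := by
      obtain ⟨k, rfl⟩ := mem_zpowers_iff.1 hb
      rcases Int.even_or_odd' k with ⟨i, rfl | rfl⟩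
      · left; rw [zpow_mul, zpow_two, hs, one_zpow]
      · right; rw [zpow_add, zpow_mul, zpow_two, hs, one_zpow, one_mul, zpow_one]
    rw [← eab, commutatorElement_def]
    rcases hb' with eb | eb <;> rw [eb]
    · rw [mul_one, hcomm x hxT a ha, mul_inv_cancel_right, mul_inv_cancel]
      exact one_mem _
    · have e1 : x * (a * s) * x⁻¹ * (a * s)⁻¹ = a * (x * s * x⁻¹ * s⁻¹) * a⁻¹ := by
        rw [show x * (a * s) = x * a * s by group, hcomm x hxT a ha]
        group
      rw [e1, hcomm a ha _ (hUT (hcom x hxT).2), mul_inv_cancel_right]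
      exact (hcom x hxT).2
  obtain ⟨N, hNn, hNT, hNsup⟩ := Transfer.Fusion.exists_normal_inf_eq_focal P
  rw [hP] at hfocal hNT hNsup
  haveI := hNn
  have huN : u ∈ N := by
    have h1 : s * u⁻¹ * s⁻¹ * u ∈ commutator X := by
      have := commutator_mem_commutator (mem_top s) (mem_top u⁻¹)
      rwa [commutatorElement_def, inv_inv] at this
    rw [show s * u⁻¹ * s⁻¹ = (s * u * s⁻¹)⁻¹ by group, hsu, inv_inv] at h1
    have h2 : u = (u * u)⁻¹ := by
      rw [eq_inv_iff_mul_eq_one, ← mul_assoc]; exact by simpa [pow_succ] using hexp u hu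
    exact (mem_inf.1 (hNT.ge (mem_inf.2 ⟨by rw [h2]; exact inv_mem h1, hu⟩))).1
  have hinf : N ⊓ T = zpowers u :=
    le_antisymm (hNT ▸ hfocal) (zpowers_le.2 (mem_inf.2 ⟨huN, hu⟩))
  have hidx : N.index = 3 := by
    rw [← relIndex_top_right, ← hNsup, sup_comm, relIndex_sup_right, ← inf_relIndex_right, hinf, hUrel]
  -- the self-centralising element of `N`
  have hx : SelfThree.Self (⟨u, huN⟩ : ↥N) := by
    refine ⟨by rw [orderOf_mk]; exact huo, fun g hg => ?_⟩
    have h1 : (g : X) ∈ N ⊓ T :=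
      mem_inf.2 ⟨g.2, hcu (mem_centralizer_singleton_iff.2 (congrArg Subtype.val hg).symm)⟩
    rw [hinf] at h1
    obtain ⟨i, hi⟩ := mem_zpowers_iff.1 h1
    exact mem_zpowers_iff.2 ⟨i, Subtype.ext (by simpa using hi)⟩
  have hcore : Cfsg.pPrimeCore 3 ↥N = ⊥ := by
    haveI := PLocal.Cores.pPrimeCore_characteristic (p := 3) (G := ↥N)
    have h1 := hsig ((Cfsg.pPrimeCore 3 ↥N).map N.subtype)
      (by rw [card_map_of_injective N.subtype_injective]; exact PLocal.Cores.coprime_card_pPrimeCore)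
      (by rw [normalizer_eq_top]; exact le_top)
    exact (map_eq_bot_iff_of_injective _ N.subtype_injective).1 h1
  have hT3 : IsPGroup 3 ↥T := IsPGroup.of_card (n := 2) (by rw [h9]; norm_num)
  have hno : ∀ {p : ℕ} [Fact p.Prime], p ≠ 3 → p ∣ Nat.card ↥N → ¬ 3 ∣ Nat.card (Sylow p ↥N) → False := by
    intro p _ hp hdvd h3
    obtain ⟨Q, hQ⟩ := exists_invariant_sylow T hT3 N h3
    have hcop : (Nat.card ↥((Q : Subgroup ↥N).map N.subtype)).Coprime 3 := by
      rw [card_map_of_injective N.subtype_injective, SmallSimple.Basic.card_sylow_eq Q]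
      exact Nat.Coprime.pow_left _ ((Nat.coprime_primes Fact.out Nat.prime_three).2 hp)
    exact Q.ne_bot_of_dvd_card hdvd ((map_eq_bot_iff_of_injective _ N.subtype_injective).1 (hsig _ hcop hQ))
  obtain ⟨M, hM, h3M, hshape⟩ := SelfThree.shape_of_self _ hx rfl
  haveI := hM
  have hMbot : M = ⊥ :=
    le_bot_iff.1 (hcore ▸ PLocal.Cores.le_pPrimeCore ((Nat.prime_three.coprime_iff_not_dvd.2 h3M).symm))
  subst hMbot
  have hcardX := N.card_mul_index
  rw [hidx] at hcardX
  rcases hshape with h | hA | ⟨-, hs168, h168⟩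
  · rw [index_bot] at h
    refine eq_top_of_card_eq _ (le_antisymm (Nat.le_of_dvd Nat.card_pos (card_subgroup_dvd_card _)) ?_)
    have hsT : s ∉ T := fun h' => hu1 (by
      have h2 : s * u * s⁻¹ = u := by rw [hcomm s h' u hu, mul_inv_cancel_right]
      rw [hsu] at h2
      have h3 := hexp u hu
      rw [pow_succ, pow_two] at h3
      rwa [show u * u = 1 by nth_rw 1 [← h2]; exact inv_mul_cancel u, one_mul] at h3)
    have h18 : 18 ≤ Nat.card ↥(T ⊔ zpowers s : Subgroup X) := by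
      have hr := relIndex_mul_relIndex ⊥ T (T ⊔ zpowers s) bot_le le_sup_left
      rw [relIndex_bot_left, relIndex_bot_left, h9] at hr
      have hne : T.relIndex (T ⊔ zpowers s) ≠ 1 := fun e =>
        hsT (relIndex_eq_one.1 e (mem_sup_right (mem_zpowers s)))
      have hpos : 0 < Nat.card ↥(T ⊔ zpowers s : Subgroup X) := Nat.card_pos
      rcases Nat.lt_or_ge (T.relIndex (T ⊔ zpowers s)) 2 with hlt | hge
      · interval_cases T.relIndex (T ⊔ zpowers s) <;> omega
      · nlinarith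
    omega
  · haveI hs60 : IsSimpleGroup ↥N := by
      haveI := hA.simple
      exact (QuotientGroup.quotientBot (G := ↥N)).isSimpleGroup_congr.1 inferInstance
    have h60 : Nat.card ↥N = 60 := by have := hA.index; rwa [index_bot] at this
    exfalso
    haveI : Fact (Nat.Prime 2) := ⟨Nat.prime_two⟩
    refine hno (p := 2) (by norm_num) (by rw [h60]; norm_num) fun h3 => ?_
    obtain ⟨R₁, R₂, hne, hR⟩ := hx.two_fours h60
    have hp : IsPGroup 3 ↥(zpowers (⟨u, huN⟩ : ↥N)) :=
      IsPGroup.of_card (n := 1) (by rw [Nat.card_zpowers, hx.order, pow_one])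
    have hmod := hp.card_modEq_card_fixedPoints (Sylow 2 ↥N)
    have hfix : MulAction.fixedPoints ↥(zpowers (⟨u, huN⟩ : ↥N)) (Sylow 2 ↥N) = {R₁, R₂} := by
      ext R
      rw [MulAction.mem_fixedPoints, Set.mem_insert_iff, Set.mem_singleton_iff, ← hR R]
      refine ⟨fun h => Sylow.smul_eq_iff_mem_normalizer.1 (h ⟨_, mem_zpowers _⟩), fun h g => ?_⟩
      exact Sylow.smul_eq_iff_mem_normalizer.2 (zpowers_le.2 h g.2)
    rw [hfix, Nat.card_coe_set_eq, Set.ncard_pair hne] at hmod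
    rw [Nat.ModEq] at hmod
    omega
  · exfalso
    haveI : Fact (Nat.Prime 7) := ⟨by norm_num⟩
    refine hno (p := 7) (by norm_num) (by rw [h168]; norm_num) fun h3 => ?_
    have P7 : Sylow 7 ↥N := default
    have h1 := P7.card_dvd_index
    have h2 := card_mul_index (P7 : Subgroup ↥N)
    rw [SmallSimple.Basic.card_sylow_eq_pow (p := 7) (a := 1) (m := 24) (by rw [h168]; norm_num)
      (by norm_num) P7, h168] at h2
    have hi : (P7 : Subgroup ↥N).index = 24 := by omega
    rw [hi] at h1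
    have hle := Nat.le_of_dvd (by norm_num) h1
    have hmod := card_sylow_modEq_one 7 ↥N
    rw [Nat.ModEq] at hmod
    generalize Nat.card (Sylow 7 ↥N) = n at h1 h3 hle hmod
    interval_cases n <;> omega

/-- THEOREM: a self-normalising Sylow subgroup of order nine has a normal complement. -/
theorem burnside_nine (T : Subgroup X) (h9 : Nat.card ↥T = 9) (hcomm : ∀ a ∈ T, ∀ b ∈ T, a * b = b * a)
    (hN : normalizer (T : Set X) ≤ T) :
    ∃ O : Subgroup X, O.Normal ∧ (Nat.card ↥O).Coprime 3 ∧ O ⊔ T = ⊤ := by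
  haveI : Fact (Nat.Prime 3) := ⟨Nat.prime_three⟩
  obtain ⟨P, hP⟩ := sylow_of_normalizer (s := 1) h9 (one_mul 1) (hN.trans le_sup_left) (one_mem _)
  have hPc : normalizer ((P : Subgroup X) : Set X) ≤ centralizer ((P : Subgroup X) : Set X) := by
    rw [hP]
    exact fun g hg => mem_centralizer_iff.2 fun w hw => hcomm w hw g (hN hg)
  refine ⟨(MonoidHom.transferSylow P hPc).ker, inferInstance, ?_, ?_⟩
  · exact ((Nat.prime_three.coprime_iff_not_dvd).2 (MonoidHom.not_dvd_card_ker_transferSylow P hPc)).symm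
  · rw [← hP]
    exact (MonoidHom.ker_transferSylow_isComplement' P hPc).sup_eq_top

end Cfsg.Agent.UThreeLocal.Big
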