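import Cfsg.Agent.Lib.UThreeLocal.Big.Local.HyperCoord
import Cfsg.Agent.Lib.UThreeLocal.Big.Local.Nine

/-!
# The centralizers of `A` and of the hyperplane `H` in `C(r)`

`cent_A` and `cent_H`: in `C(H)/H` the group `B/H` has order nine, the image of `u` is self-centralising and
`N(B)` induces only `r`, because a linear map of `B` fixing `H` and permuting the points keeps `A`.
-/

set_option autoImplicit false
set_option linter.unusedSectionVars false
set_option linter.style.haveILetI false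

namespace Cfsg.Agent.UThreeLocal.Big.Local

open Subgroup
open Cfsg.Agent.UThreeLocal.Cand (mem_sup_zpowers)

universe u

/-- The generators of `H` beside `sg`. -/
def hv1 : Ex := ![1, -1, 0, 0]

/-- The second. -/
def hv2 : Ex := ![0, 0, 1, -1]

/-- The point to be moved to `z`. -/
def iOf (m : ZMod 3) : Fin 4 := if m = 1 then 2 else 1

/-- The power of the cycle moving it. -/
def jOf (m : ZMod 3) : ℕ := if m = 1 then 2 else 0

/-- The image in the coordinates at `z`. -/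
def mvH (m : ZMod 3) (v : Ex) : Ex := pm (Equiv.swap 0 1) ((pm cyc)^[jOf m] v)

theorem formH_span : ∀ v : Ex, formH v = 0 → ∃ c1 c2 c3 : ZMod 3, v = c1 • sg + c2 • hv1 + c3 • hv2 := by
  decide +kernel

theorem card_formH : Fintype.card {v : Ex // formH v = 0} = 27 := by decide +kernel

theorem move_table : ∀ m : ZMod 3, m ≠ 0 →
    formH (zt (iOf m)) = m ∧ mvH m (zt (iOf m)) = zt 0 ∧ mvH m (zt 0) = zt 1 ∧
    mvH m ![0, 1, 1, 0] 0 ≠ 0 ∧
    ∀ v : Ex, ∃ c0 c1 c2 c3 : ZMod 3,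
      v = c0 • zt 0 + c1 • mvH m ![0, 1, 1, 0] + c2 • mvH m ![0, 1, 0, 1] + c3 • (m • zt 1) := by
  decide +kernel

theorem point_table : ∀ m : ZMod 3, m ≠ 0 → ∀ Z0 ∈ ptList m, ∀ P1 ∈ ptList m,
    (∀ x ∈ ptList m, lmapB m Z0 P1 x ∈ ptList m) → Z0.2 = 0 := by
  decide +kernel

theorem act_table : ∀ (ε : ZMod 3) (π : Equiv.Perm (Fin 4)), (ε • pm π sg = sg ∧ ε • pm π hv1 = hv1 ∧
    ε • pm π hv2 = hv2) → ε = 1 ∧ π = 1 := by
  decide +kernel

theorem formH_neg_zt : formH (-zt 0) ≠ 0 := by decide +kernel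

theorem two_ne : ∀ k : ZMod 3, k + k = 0 → k = 0 := by decide

variable {G : Type u} [Group G] [Finite G] {Z Q Q1 Q2 L1 L2 P W : Subgroup G} {t1 t2 z y g d a n b : G}
  {ψ : Ex → G}

/-- An element fixing `x` shifting a factor nontrivially fixes the flag line. -/
theorem flag_line (F : Frame Z Q Q1 Q2 L1 L2 t1 t2) {R : Subgroup G} {e : G} (hf : Flag Z Q1 R e) {x : G}
    (hxR : x ∈ R) (hxC : x ∈ centralizer (Z : Set G)) (hxn : ¬ Triv Z Q1 x) {k : G}
    (hkC : k ∈ centralizer (Z : Set G)) (hkQ : ∀ w ∈ Q1, k * w * k⁻¹ ∈ Q1) (hkx : k * x = x * k) :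
    ∃ w ∈ Z, k * e * k⁻¹ = w * e ∨ k * e * k⁻¹ = w * e⁻¹ := by
  have h := F.set
  have he := F.pair.le1 hf.mem
  have hs : (k * e * k⁻¹)⁻¹ * (x * (k * e * k⁻¹) * x⁻¹) ∈ Z := by
    rw [show (k * e * k⁻¹)⁻¹ * (x * (k * e * k⁻¹) * x⁻¹) = k * e⁻¹ * k⁻¹ * ((x * k) * e * (x * k)⁻¹) by group,
      ← hkx, show k * e⁻¹ * k⁻¹ * ((k * x) * e * (k * x)⁻¹) = k * (e⁻¹ * (x * e * x⁻¹)) * k⁻¹ by group,
      h.conj_Z hkC (hf.fix x hxR)]
    exact hf.fix x hxR
  have hm := F.mem_flag hf hxR hxC hxn (hkQ e hf.mem) hs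
  have hn : zpowers e ≤ normalizer (Z : Set G) :=
    (zpowers_le.2 (h.Q_le he)).trans (Subgroup.centralizer_le_normalizer _)
  have he3 : e ^ 3 = 1 := F.cube e he
  obtain ⟨w, hw, i, ei⟩ := mem_sup_zpowers hn he3 hm
  refine ⟨w, hw, ?_⟩
  fin_cases i
  · exfalso
    simp only [pow_zero, mul_one] at ei
    refine hf.notZ ?_
    have : e = k⁻¹ * w * k⁻¹⁻¹ := by rw [← ei]; group
    rw [this, h.conj_Z (inv_mem hkC) hw]; exact hw
  · left; simpa using ei
  · right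
    rw [ei]
    congr 1
    refine eq_inv_of_mul_eq_one_left ?_
    rw [← pow_succ]; exact he3

namespace BigData

variable (D : BigData Z Q Q1 Q2 L1 L2 P t1 t2 z y g d a)
include D

/-- An element of `C(z, y, d)` lies in `B` or in `r B`. -/
theorem mem_B_or {k : G} (hz : k * z = z * k) (hy : k * y = y * k) (hd : k * d = d * k) :
    k ∈ BB P y ∨ t2 * k ∈ BB P y := by
  have h := D.set
  have F := D.frame
  have hC := D.mem_CZ hz
  have hd1 : d⁻¹ * (k * d * k⁻¹) ∈ Z := by rw [hd, mul_inv_cancel_right, inv_mul_cancel]; exact one_mem _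
  obtain ⟨-, hN2⟩ : (∀ x, x ∈ Q1 ↔ k * x * k⁻¹ ∈ Q1) ∧ ∀ x, x ∈ Q2 ↔ k * x * k⁻¹ ∈ Q2 := by
    refine (F.perm k hC).resolve_right fun hs => D.flag1.notZ (F.not_swap_both D.flag1.mem ?_)
    have := (hs.1 d).1 D.flag1.mem
    rwa [hd, mul_inv_cancel_right] at this
  obtain ⟨w, hw, e⟩ := flag_line F.symm D.flag2 D.y_P D.y_cent D.nontriv.2 hC (fun x hx => (hN2 x).1 hx) hy
  have hwa : a⁻¹ * (w * a) = w := by rw [h.comm_Z (F.pair.le2 D.flag2.mem) hw, inv_mul_cancel_left]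
  rcases e with e | e
  · refine Or.inl (mem_inf.2 ⟨D.mem_P hC hd1 ?_, mem_centralizer_singleton_iff.2 hy⟩)
    rw [e, hwa]; exact hw
  · refine Or.inr (mem_inf.2 ⟨D.mem_P (mul_mem D.t2_cent hC) ?_ ?_, mem_centralizer_singleton_iff.2 ?_⟩)
    · rw [show d⁻¹ * (t2 * k * d * (t2 * k)⁻¹) = d⁻¹ * (t2 * (k * d * k⁻¹) * t2⁻¹) by group, hd,
        mul_inv_cancel_right, D.t2_fix D.flag1.mem, mul_inv_cancel_right, inv_mul_cancel]
      exact one_mem _
    · rw [show a⁻¹ * (t2 * k * a * (t2 * k)⁻¹) = a⁻¹ * (t2 * (k * a * k⁻¹) * t2⁻¹) by group, e,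
        show t2 * (w * a⁻¹) * t2⁻¹ = (t2 * w * t2⁻¹) * (t2 * a * t2⁻¹)⁻¹ by group, h.conj_Z D.t2_cent hw,
        D.a_inv, inv_inv, hwa]
      exact hw
    · rw [mul_assoc, hy, ← mul_assoc, D.y_t2, mul_assoc]

end BigData

/-- THEOREM: the centralizer of `A` in `C(r)`. -/
theorem cent_A (D : BigData Z Q Q1 Q2 L1 L2 P t1 t2 z y g d a) :
    centralizer ((AA P y t2 : Subgroup G) : Set G) ⊓ centralizer ({t2} : Set G) ≤ AA P y t2 ⊔ zpowers t2 := by
  intro k hk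
  obtain ⟨hkA, hkr⟩ := mem_inf.1 hk
  have hc : ∀ x ∈ AA P y t2, k * x = x * k := fun x hx => (mem_centralizer_iff.1 hkA x hx).symm
  rcases D.mem_B_or (hc z D.z_A) (hc y D.y_A) (hc d D.d_A) with h | h
  · exact mem_sup_left (mem_inf.2 ⟨h, hkr⟩)
  · rw [show k = t2⁻¹ * (t2 * k) by group]
    exact mul_mem (mem_sup_right (inv_mem (mem_zpowers t2)))
      (mem_sup_left (mem_inf.2 ⟨h, mul_mem (mem_centralizer_singleton_iff.2 rfl) hkr⟩))

namespace Coord

variable (U : Duo Z Q Q1 Q2 L1 L2 P W t1 t2 z y g d a n) (C : Crd Z Q1 Q2 W (AA P y t2) t2 z y d n b ψ)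
  {q u : G} {m : ZMod 3} (S : Shift Q2 a ψ q u m)
include U C S

theorem triv1_psB (x : ExB) : Triv Z Q1 (psB ψ u x) ↔ x.1 1 + x.1 2 + x.1 3 = 0 := by
  have D := U.data
  have F := D.frame
  have hψ : ψ x.1 ∈ centralizer (Z : Set G) := D.A_le_C (mem_A C _)
  have hT : Triv Z Q1 (powB u x.2) := F.triv_Q
    (F.pair.le2 (pow_mem (u_facts D C S.u_mem S.u_ne).2.2.2.2.1 _)) F.pair.le1
  rw [← C.triv1]
  constructor
  · intro h v hv
    have h1 := h v hv
    rw [psB, shift_mul, D.set.conj_Z hψ (hT v hv)] at h1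
    exact (Subgroup.mul_mem_cancel_right Z (hT v hv)).1 h1
  · intro h v hv
    rw [psB, shift_mul, D.set.conj_Z hψ (hT v hv)]
    exact mul_mem (h v hv) (hT v hv)

theorem triv2_psB (x : ExB) : Triv Z Q2 (psB ψ u x) ↔ x.1 0 = 0 := by
  have D := U.data
  have F := D.frame
  have hψ : ψ x.1 ∈ centralizer (Z : Set G) := D.A_le_C (mem_A C _)
  have hT : Triv Z Q2 (powB u x.2) := F.triv_Q
    (F.pair.le2 (pow_mem (u_facts D C S.u_mem S.u_ne).2.2.2.2.1 _)) F.pair.le2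
  rw [← C.triv2]
  constructor
  · intro h v hv
    have h1 := h v hv
    rw [psB, shift_mul, D.set.conj_Z hψ (hT v hv)] at h1
    exact (Subgroup.mul_mem_cancel_right Z (hT v hv)).1 h1
  · intro h v hv
    rw [psB, shift_mul, D.set.conj_Z hψ (hT v hv)]
    exact mul_mem (h v hv) (hT v hv)

/-- An element of `P` centralising some `α ∈ A` moving the second flag is in `Q₁ (Z⟨a⟩) A`. -/
theorem P_dec {p : G} (hp : p ∈ P) {v : Ex} (hv : v 0 ≠ 0) (hc : p * ψ v = ψ v * p) :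
    ∃ q1 ∈ Q1, ∃ q2 ∈ Z ⊔ zpowers a, ∃ α ∈ AA P y t2, p = q1 * q2 * α := by
  classical
  haveI : Fact (Nat.Prime 3) := ⟨Nat.prime_three⟩
  have D := U.data
  have F := D.frame
  have h := D.set
  have hAN : AA P y t2 ≤ normalizer (Q : Set G) := D.A_le_C.trans h.Q_norm
  have hQA : Q ⊔ AA P y t2 = P := by
    refine Subgroup.eq_of_le_of_card_ge (sup_le D.Q_le_P D.A_le_P) ?_
    have hcd := card_sup_mul_inf (A := Q) (B := AA P y t2) hAN
    rw [h.Q_card, D.card_A] at hcd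
    have hle : Q ⊓ AA P y t2 ≤ Fx Q y := fun x hx =>
      D.mem_B_Q (mem_inf.1 (mem_inf.1 hx).2).1 (mem_inf.1 hx).1
    obtain ⟨j, hj, ej⟩ := (Nat.dvd_prime_pow Nat.prime_three).1
      (show Nat.card ↥(Q ⊓ AA P y t2) ∣ 3 ^ 3 by
        rw [show (3 : ℕ) ^ 3 = Nat.card ↥(Fx Q y) by rw [D.card_Fxy]; norm_num]
        exact card_dvd_of_le hle)
    have hj3 : j ≠ 3 := fun e3 => D.a_notA (mem_inf.1
      ((Subgroup.eq_of_le_of_card_ge hle (by rw [ej, e3, D.card_Fxy]; norm_num)).ge D.a_W)).2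
    rw [D.P_card]
    interval_cases j <;> simp_all <;> omega
  have hp' := hQA.ge hp
  rw [← SetLike.mem_coe, Subgroup.coe_mul_of_right_le_normalizer_left _ _ hAN, Set.mem_mul] at hp'
  obtain ⟨q', hq', α, hα, rfl⟩ := hp'
  obtain ⟨q1, hq1, q2, hq2, rfl⟩ := F.pair.dec q' hq'
  refine ⟨q1, hq1, q2, ?_, α, hα, rfl⟩
  set x := ψ v with hx
  have hxA : x ∈ AA P y t2 := mem_A C v
  have hxP := D.A_le_P hxA
  have hc' : x * (q1 * q2) * x⁻¹ = q1 * q2 := by
    have h1 : α * x = x * α := D.A_comm hα hxA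
    rw [mul_assoc _ α x, h1, ← mul_assoc, ← mul_assoc x] at hc
    rw [← mul_right_cancel hc, mul_inv_cancel_right]
  have h1 := F.conj_mem1 D.P_pgroup D.P_le hxP hq1
  have h2 := F.symm.conj_mem1 D.P_pgroup D.P_le hxP hq2
  have e : (x * q2 * x⁻¹) * q2⁻¹ = (x * q1 * x⁻¹)⁻¹ * q1 := by
    calc (x * q2 * x⁻¹) * q2⁻¹ = (x * q1 * x⁻¹)⁻¹ * (x * (q1 * q2) * x⁻¹) * q2⁻¹ := by group
      _ = _ := by rw [hc']; group
  have hζ : (x * q2 * x⁻¹) * q2⁻¹ ∈ Z := F.not_swap_both (e ▸ mul_mem (inv_mem h1) hq1)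
    (mul_mem h2 (inv_mem hq2))
  refine F.symm.mem_flag D.flag2 hxP (D.A_le_C hxA) (fun hT => hv ((C.triv2 v).1 hT)) hq2 ?_
  rw [show q2⁻¹ * (x * q2 * x⁻¹) = q2⁻¹ * ((x * q2 * x⁻¹) * q2⁻¹) * q2⁻¹⁻¹ by group,
    h.conj_Z (h.Q_le (F.pair.le2 (inv_mem hq2))) hζ]
  exact hζ

/-- An element of `C(z)` centralising a hyperplane of `B` off `A` and off `u` lies in `B`. -/
theorem mem_B_of_fix {k : G} (hz : k * z = z * k) (hall : ∀ v, ∃ s, Commute k (psB ψ u (v, s))) {v0 : Ex}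
    (hv0 : v0 0 ≠ 0) (h0 : Commute k (ψ v0)) {vT : Ex} {sT : ZMod 3} (hsT : sT ≠ 0)
    (hT : Commute k (psB ψ u (vT, sT))) : k ∈ BB P y := by
  have D := U.data
  have F := D.frame
  have h := D.set
  obtain ⟨h3, hzu, hinv, huB, huQ2, -⟩ := u_facts D C S.u_mem S.u_ne
  have hkC := D.mem_CZ hz
  obtain ⟨vA, hvA0, hvA1⟩ : ∃ v : Ex, v 0 = 0 ∧ v 1 + v 2 + v 3 ≠ 0 :=
    ⟨![0, 1, 0, 0], by decide +kernel, by decide +kernel⟩
  obtain ⟨sA, hA⟩ := hall vA
  set x := psB ψ u (vA, sA) with hx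
  have hxB := psB_mem D C S.u_mem S.u_ne (vA, sA)
  have hxC := D.P_le (mem_inf.1 hxB).1
  have hxn : ¬ Triv Z Q1 x := fun hT' => hvA1 ((triv1_psB U C S _).1 hT')
  have hxt : Triv Z Q2 x := (triv2_psB U C S _).2 hvA0
  obtain ⟨hN1, hN2⟩ : (∀ w, w ∈ Q1 ↔ k * w * k⁻¹ ∈ Q1) ∧ ∀ w, w ∈ Q2 ↔ k * w * k⁻¹ ∈ Q2 := by
    refine (F.perm k hkC).resolve_right fun hs => hxn fun w hw => ?_
    have h1 := hxt _ ((hs.1 w).1 hw)
    have h2 := h.conj_Z (inv_mem hkC) h1
    rw [← h2] at h1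
    have e : k⁻¹ * ((k * w * k⁻¹)⁻¹ * (x * (k * w * k⁻¹) * x⁻¹)) * k⁻¹⁻¹ =
        w⁻¹ * ((k⁻¹ * x * k) * w * (k⁻¹ * x * k)⁻¹) := by group
    rw [e, show k⁻¹ * x * k = x by rw [mul_assoc, ← hA.eq, inv_mul_cancel_left]] at h1
    exact h1
  obtain ⟨w1, hw1, e1⟩ := flag_line F D.flag1 (mem_inf.1 hxB).1 hxC hxn hkC (fun w hw => (hN1 w).1 hw) hA.eq
  have hv0P := D.A_le_P (mem_A C v0)
  obtain ⟨w2, hw2, e2⟩ := flag_line F.symm D.flag2 hv0P (D.P_le hv0P)
    (fun hT' => hv0 ((C.triv2 v0).1 hT')) hkC (fun w hw => (hN2 w).1 hw) h0.eq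
  -- the sign on the first line
  have hd1 : d⁻¹ * (k * d * k⁻¹) ∈ Z := by
    obtain ⟨vd, hvd⟩ := (C.mem d).1 D.d_A
    obtain ⟨s, hs⟩ := hall vd
    rw [psB, hvd] at hs
    rcases e1 with e1 | e1
    · rw [e1, h.comm_Z (F.pair.le1 D.flag1.mem) hw1, inv_mul_cancel_left]; exact hw1
    exfalso
    have hu2 : k * powB u s * k⁻¹ ∈ Q2 := (hN2 _).1 (pow_mem huQ2 _)
    have hdd : d⁻¹ * (k * d * k⁻¹) = powB u s * (k * powB u s * k⁻¹)⁻¹ := by
      calc d⁻¹ * (k * d * k⁻¹) = d⁻¹ * (k * (d * powB u s) * k⁻¹) * (k * powB u s * k⁻¹)⁻¹ := by group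
        _ = _ := by rw [hs.eq]; group
    have h12 : d⁻¹ * (k * d * k⁻¹) ∈ Z := F.not_swap_both
      (mul_mem (inv_mem D.flag1.mem) ((hN1 d).1 D.flag1.mem))
      (hdd ▸ mul_mem (pow_mem huQ2 _) (inv_mem hu2))
    rw [e1, h.comm_Z (inv_mem (F.pair.le1 D.flag1.mem)) hw1, ← mul_assoc, Subgroup.mul_mem_cancel_right Z hw1]
      at h12
    refine D.flag1.notZ ?_
    have h3d := D.d_cube
    rw [show d = d ^ 3 * (d⁻¹ * d⁻¹) by group, h3d, one_mul]
    exact h12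
  have hwa : a⁻¹ * (w2 * a) = w2 := by rw [h.comm_Z (F.pair.le2 D.flag2.mem) hw2, inv_mul_cancel_left]
  have hkB : Commute (powB u sA) (ψ vA) := D.B_comm (pow_mem huB _) (mem_inf.1 (mem_A C _)).1
  have hZaB : ∀ w ∈ Z ⊔ zpowers a, w ∈ BB P y := fun w hw =>
    (sup_le ((h.Z_le_Fx D.y_cent).trans D.W_le_B) (zpowers_le.2 (D.W_le_B D.a_W))) hw
  rcases e2 with e2 | e2
  · -- `k ∈ P`
    have hkP : k ∈ P := D.mem_P hkC hd1 (by rw [e2, hwa]; exact hw2)
    obtain ⟨q1, hq1, q2, hq2, α, hα, ek⟩ := P_dec U C S hkP hv0 h0.eq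
    have hq2B := hZaB q2 hq2
    have hαB := (mem_inf.1 hα).1
    have hq1x : x * q1 * x⁻¹ = q1 := by
      have e := hA.eq
      rw [ek, mul_assoc _ α x, D.B_comm hαB hxB, ← mul_assoc, ← mul_assoc x, ← mul_assoc x,
        mul_assoc q1 q2 x, D.B_comm hq2B hxB, ← mul_assoc] at e
      rw [← mul_right_cancel (mul_right_cancel e), mul_inv_cancel_right]
    have hq1W : q1 ∈ Z ⊔ zpowers d := F.mem_flag D.flag1 (mem_inf.1 hxB).1 hxC hxn hq1
      (by rw [hq1x, inv_mul_cancel]; exact one_mem _)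
    have hq1B : q1 ∈ BB P y := (sup_le ((h.Z_le_Fx D.y_cent).trans D.W_le_B)
      (zpowers_le.2 (D.W_le_B D.d_W))) hq1W
    rw [ek]
    exact mul_mem (mul_mem hq1B hq2B) hαB
  · exfalso
    have hpP : t2 * k ∈ P := D.mem_P (mul_mem D.t2_cent hkC)
      (by
        rw [show d⁻¹ * (t2 * k * d * (t2 * k)⁻¹) = t2 * ((t2⁻¹ * d * t2)⁻¹ * (k * d * k⁻¹)) * t2⁻¹ by group,
          show t2⁻¹ * d * t2 = d by rw [mul_assoc, ← D.t2_fix D.flag1.mem, inv_mul_cancel_left],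
          h.conj_Z D.t2_cent hd1]
        exact hd1)
      (by
        rw [show a⁻¹ * (t2 * k * a * (t2 * k)⁻¹) = a⁻¹ * (t2 * (k * a * k⁻¹) * t2⁻¹) by group, e2,
          show t2 * (w2 * a⁻¹) * t2⁻¹ = (t2 * w2 * t2⁻¹) * (t2 * a * t2⁻¹)⁻¹ by group, h.conj_Z D.t2_cent hw2,
          D.a_inv, inv_inv, hwa]
        exact hw2)
    have hpv : t2 * k * ψ v0 = ψ v0 * (t2 * k) := by
      rw [mul_assoc, h0.eq, ← mul_assoc, ← D.A_t2 (mem_A C _), mul_assoc]
    obtain ⟨q1, hq1, q2, hq2, α, hα, ep⟩ := P_dec U C S hpP hv0 hpv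
    have hq2B := hZaB q2 hq2
    have hαB := (mem_inf.1 hα).1
    set X := psB ψ u (vT, sT) with hX
    have hXB := psB_mem D C S.u_mem S.u_ne (vT, sT)
    have ht2X : t2 * X * t2⁻¹ = q1 * X * q1⁻¹ := by
      calc t2 * X * t2⁻¹ = t2 * (k * X * k⁻¹) * t2⁻¹ := by rw [hT.eq, mul_inv_cancel_right]
        _ = (t2 * k) * X * (t2 * k)⁻¹ := by group
        _ = q1 * (q2 * (α * X * α⁻¹) * q2⁻¹) * q1⁻¹ := by rw [ep]; group
        _ = _ := by rw [D.B_comm hαB hXB, mul_inv_cancel_right, D.B_comm hq2B hXB, mul_inv_cancel_right]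
    rw [hX, psB_t2 D C S.u_mem S.u_ne] at ht2X
    simp only [psB, powB_neg h3] at ht2X
    set o := powB u sT with ho
    have hoQ : o ∈ Q2 := pow_mem huQ2 _
    have hq1o : q1 * o = o * q1 := F.pair.comm q1 hq1 o hoQ
    have hsplit : (ψ vT)⁻¹ * q1 * ψ vT * q1⁻¹ = o⁻¹ * o⁻¹ := by
      calc (ψ vT)⁻¹ * q1 * ψ vT * q1⁻¹ = (ψ vT)⁻¹ * (q1 * (ψ vT * o) * q1⁻¹) * (q1 * o⁻¹ * q1⁻¹) := by group
        _ = o⁻¹ * (q1 * o⁻¹ * q1⁻¹) := by rw [← ht2X, inv_mul_cancel_left]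
        _ = _ := by
          rw [show q1 * o⁻¹ * q1⁻¹ = (q1 * o * q1⁻¹)⁻¹ by group, hq1o, mul_inv_cancel_right]
    have hm : o⁻¹ * o⁻¹ ∈ Z := F.not_swap_both (hsplit ▸ mul_mem (by
      have := F.conj_mem1 D.P_pgroup D.P_le (inv_mem (D.A_le_P (mem_A C vT))) hq1
      rwa [inv_inv] at this) (inv_mem hq1)) (mul_mem (inv_mem hoQ) (inv_mem hoQ))
    have hoA : o * o ∈ AA P y t2 := by
      have hm' := inv_mem hm
      rw [mul_inv_rev, inv_inv] at hm'
      exact mem_inf.2 ⟨mul_mem (pow_mem huB _) (pow_mem huB _),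
        mem_centralizer_singleton_iff.2 (mem_centralizer_iff.1 D.t2_cent _ hm')⟩
    rw [ho, ← powB_add h3] at hoA
    exact hsT (two_ne _ (pow_A D C S.u_mem S.u_ne hoA))

/-- An element of `H`'s centralizer commuting with `u` lies in `B`. -/
theorem cent_M {k : G} (hH : ∀ v, formH v = 0 → k * ψ v = ψ v * k) (hku : k * u = u * k) : k ∈ BB P y := by
  have D := U.data
  obtain ⟨h3, -, hinv, huB, -⟩ := u_facts D C S.u_mem S.u_ne
  obtain ⟨hform, hm0, hm1, hmv, hspan⟩ := move_table m S.m_ne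
  -- everything that `q` moves into `⟨H, u⟩`
  have hk1 : ∀ x : ExB, formH (qmap m x).1 = 0 → Commute (q⁻¹ * k * q) (psB ψ u x) := by
    intro x hx
    have hc : Commute k (psB ψ u (qmap m x)) :=
      (show Commute k (ψ (qmap m x).1) from hH _ hx).mul_right ((show Commute k u from hku).pow_right _)
    rw [← S.conj] at hc
    show q⁻¹ * k * q * psB ψ u x = psB ψ u x * (q⁻¹ * k * q)
    calc q⁻¹ * k * q * psB ψ u x = q⁻¹ * (k * (q * psB ψ u x * q⁻¹)) * q := by group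
      _ = _ := by rw [hc.eq]; group
  have hn : n ∈ normalizer (BB P y : Set G) := Subgroup.mem_normalizer_fintype fun x hx => by
    have hxy : x * y = y * x := D.B_comm hx D.y_B
    have hxz : x * z = z * x := D.z_cent (D.P_le (mem_inf.1 hx).1)
    refine D.mem_B (k := 1) (D.mem_CZ ?_) ?_ (by rw [pow_one, conj_pow, D.B_exp hx, mul_one, mul_inv_cancel])
    · rw [← U.n_y]
      calc n * x * n⁻¹ * (n * y * n⁻¹) = n * (x * y) * n⁻¹ := by group
        _ = _ := by rw [hxy]; group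
    · rw [← U.n_z]
      calc n * x * n⁻¹ * (n * z * n⁻¹) = n * (x * z) * n⁻¹ := by group
        _ = _ := by rw [hxz]; group
  have hbu : b * u * b⁻¹ = u := by
    rw [D.frame.pair.comm b C.b_mem u (u_facts D C S.u_mem S.u_ne).2.2.2.2.1, mul_inv_cancel_right]
  have hb : b ∈ normalizer (BB P y : Set G) := Subgroup.mem_normalizer_fintype fun x hx => by
    obtain ⟨w, rfl⟩ := psB_surj D C S.u_mem S.u_ne hx
    rw [show b * psB ψ u w * b⁻¹ = (b * ψ w.1 * b⁻¹) * (b * powB u w.2 * b⁻¹) by rw [psB]; group, C.b_act, powB,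
      ← conj_pow, hbu]
    exact mul_mem (mem_inf.1 (mem_A C _)).1 (pow_mem huB _)
  obtain ⟨e, he⟩ := inv_B D C S.u_mem S.u_ne ((mem_normalizer_iff.1 hn u).1 huB) (by
    calc t2 * (n * u * n⁻¹) * t2⁻¹ = (t2 * n) * u * (t2 * n)⁻¹ := by group
      _ = n * (t2 * u * t2⁻¹) * n⁻¹ := by rw [← U.n_t2]; group
      _ = _ := by rw [hinv]; group)
  have he0 : e ≠ 0 := fun h0 => S.u_ne (conj_eq_one_iff.1 (he.trans (by rw [h0, powB_zero])))
  set c := n * b ^ jOf m with hc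
  have hbj : ∀ (j : ℕ) v, b ^ j * ψ v * (b ^ j)⁻¹ = ψ ((pm cyc)^[j] v) := by
    intro j
    induction j with
    | zero => intro v; simp
    | succ j ih =>
      intro v
      rw [Function.iterate_succ_apply', ← C.b_act, ← ih, pow_succ']
      group
  have hbju : ∀ j : ℕ, b ^ j * u * (b ^ j)⁻¹ = u := by
    intro j
    induction j with
    | zero => simp
    | succ j ih =>
      rw [pow_succ', show b * b ^ j * u * (b * b ^ j)⁻¹ = b * (b ^ j * u * (b ^ j)⁻¹) * b⁻¹ by group, ih, hbu]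
  have hcψ : ∀ v, c * ψ v * c⁻¹ = ψ (mvH m v) := fun v => by
    rw [hc, show n * b ^ jOf m * ψ v * (n * b ^ jOf m)⁻¹ = n * (b ^ jOf m * ψ v * (b ^ jOf m)⁻¹) * n⁻¹ by group,
      hbj, C.n_act]
    rfl
  have hcu : c * u * c⁻¹ = powB u e := by
    rw [hc, show n * b ^ jOf m * u * (n * b ^ jOf m)⁻¹ = n * (b ^ jOf m * u * (b ^ jOf m)⁻¹) * n⁻¹ by group,
      hbju, he]
  set k' := c * (q⁻¹ * k * q) * c⁻¹ with hk'
  have hk2 : ∀ x : ExB, formH (qmap m x).1 = 0 → Commute k' (c * psB ψ u x * c⁻¹) := fun x hx => by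
    have := (hk1 x hx).map (MulAut.conj c).toMonoidHom
    simpa [hk'] using this
  have hk0 : ∀ v : Ex, formH (qmap m (v, 0)).1 = 0 → Commute k' (psB ψ u (mvH m v, 0)) := fun v hv => by
    have := hk2 (v, 0) hv
    simp only [psB, powB_zero, mul_one] at this ⊢
    rwa [hcψ] at this
  have hz0 : Commute k' (psB ψ u (zt 0, 0)) := by
    rw [← hm0]
    refine hk0 _ ?_
    show formH (zt (iOf m) + (m * zt (iOf m) 0 - m * 0) • zt 0) = 0
    rw [formH_add, formH_smul, hform, show zt (iOf m) 0 = 1 by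
      rcases (by decide : ∀ i : Fin 4, i = 0 ∨ zt i 0 = 1) (iOf m) with e0 | e0
      · exfalso; revert e0; unfold iOf; split_ifs <;> decide
      · exact e0, show formH (zt 0) = -1 by decide +kernel]
    ring
  have hH0 : ∀ v : Ex, v 0 = 0 → formH v = 0 → Commute k' (psB ψ u (mvH m v, 0)) := fun v h0 hf => hk0 v (by
    show formH (v + (m * v 0 - m * 0) • zt 0) = 0
    rw [h0, formH_add, formH_smul, hf]; ring)
  have hX : Commute k' (psB ψ u (m • zt 1, e)) := by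
    have h1 := hk2 (m • zt 0, 1) (by
      show formH (m • zt 0 + (m * (m • zt 0 : Ex) 0 - m * 1) • zt 0) = 0
      have h00 : (m • zt 0 : Ex) 0 = 0 := by simp [zt]
      rw [h00, formH_add, formH_smul, formH_smul]; ring)
    rw [show c * psB ψ u (m • zt 0, 1) * c⁻¹ = psB ψ u (m • zt 1, e) by
      simp only [psB, powB_one]
      rw [show c * (ψ (m • zt 0) * u) * c⁻¹ = (c * ψ (m • zt 0) * c⁻¹) * (c * u * c⁻¹) by group, hcu,
        psi_smul C, ← conj_pow, hcψ, hm1, psi_smul C]] at h1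
    exact h1
  have hcombo : ∀ (c0 : ZMod 3) (x : ExB), Commute k' (psB ψ u x) → Commute k' (psB ψ u (c0 • x)) := fun c0 x hx => by
    rw [psB_smul D C S.u_mem S.u_ne]; exact hx.pow_right _
  have h1 := hH0 ![0, 1, 1, 0] rfl (by decide +kernel)
  have h2 := hH0 ![0, 1, 0, 1] rfl (by decide +kernel)
  have hall : ∀ v, ∃ s, Commute k' (psB ψ u (v, s)) := fun v => by
    obtain ⟨c0, c1, c2, c3, hv⟩ := hspan v
    refine ⟨c3 * e, ?_⟩
    rw [show ((v, c3 * e) : ExB) = c0 • (zt 0, 0) + c1 • (mvH m ![0, 1, 1, 0], 0) + c2 • (mvH m ![0, 1, 0, 1], 0) +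
      c3 • (m • zt 1, e) by rw [hv]; ext <;> simp,
      psB_add D C S.u_mem S.u_ne, psB_add D C S.u_mem S.u_ne, psB_add D C S.u_mem S.u_ne]
    exact (((hcombo _ _ hz0).mul_right (hcombo _ _ h1)).mul_right (hcombo _ _ h2)).mul_right (hcombo _ _ hX)
  have hk'B : k' ∈ BB P y := mem_B_of_fix U C S
    (by simpa [psB, powB_zero, C.z_eq] using hz0.eq) hall hmv (by simpa [psB, powB_zero] using h1) he0 hX
  have hcN : c ∈ normalizer (BB P y : Set G) := mul_mem hn (pow_mem hb _)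
  have hk1B : q⁻¹ * k * q ∈ BB P y := (mem_normalizer_iff.1 hcN _).2 hk'B
  have := (mem_normalizer_iff.1 (q_norm D C S) _).1 hk1B
  rwa [show q * (q⁻¹ * k * q) * q⁻¹ = k by group] at this

/-- An element of `N(B)` centralising `H` lies in `B` or in `r B`. -/
theorem norm_B_or {k : G} (hH : ∀ v, formH v = 0 → k * ψ v = ψ v * k) (hk : k ∈ normalizer (BB P y : Set G)) :
    k ∈ BB P y ∨ t2 * k ∈ BB P y := by
  classical
  have D := U.data
  have hu := S.u_mem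
  have hu1 := S.u_ne
  have hB : ∀ x : ExB, ∃ w : ExB, psB ψ u w = k * psB ψ u x * k⁻¹ := fun x =>
    psB_surj D C hu hu1 ((mem_normalizer_iff.1 hk _).1 (psB_mem D C hu hu1 x))
  choose L hL using hB
  have hLadd : ∀ x w, L (x + w) = L x + L w := fun x w => psB_inj D C hu hu1 (by
    rw [hL, psB_add D C hu hu1 (L x), hL, hL, psB_add D C hu hu1]; group)
  let Lf : ExB →+ ExB := AddMonoidHom.mk' L hLadd
  have hLs : ∀ (c : ZMod 3) x, L (c • x) = c • L x := fun c x => ZMod.map_smul Lf c x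
  have hfix : ∀ v : Ex, formH v = 0 → L (v, 0) = (v, 0) := fun v hv => psB_inj D C hu hu1 (by
    rw [hL]
    simp only [psB, powB_zero, mul_one]
    rw [hH v hv, mul_inv_cancel_right])
  set Z0 := L (zt 0, 0) with hZ0
  set P1 := L (qmap m (zt 1, 0)) with hP1
  have hf0 : formH (zt 0) = -1 := by decide +kernel
  have hlmap : ∀ x, L x = lmapB m Z0 P1 x := by
    intro x
    set w : Ex := x.1 - x.2 • (qmap m (zt 1, 0)).1 with hw
    set α : ZMod 3 := -formH w with hα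
    have hx : x = ((w - α • zt 0, 0) : ExB) + α • ((zt 0, 0) : ExB) + x.2 • qmap m (zt 1, 0) := by
      refine Prod.ext ?_ ?_
      · show x.1 = w - α • zt 0 + α • zt 0 + x.2 • (qmap m (zt 1, 0)).1
        rw [hw]; abel
      · show x.2 = 0 + α * 0 + x.2 * ((0 : ZMod 3) + (zt 1) 0)
        rw [show zt 1 0 = (1 : ZMod 3) by decide +kernel]; ring
    conv_lhs => rw [hx]
    rw [hLadd, hLadd, hLs, hLs, hfix _ (by rw [formH_sub, formH_smul, hf0, hα]; ring)]
    rfl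
  have hpts : ∀ x ∈ ptList m, L x ∈ ptList m := fun x hx => by
    rw [← isPt_iff D C S] at hx ⊢
    rw [hL]; exact hx.conj k
  have hz0 : ((zt 0, 0) : ExB) ∈ ptList m :=
    List.mem_flatMap.2 ⟨0, List.mem_finRange _, List.mem_cons_self ..⟩
  have hp1 : qmap m (zt 1, 0) ∈ ptList m :=
    List.mem_flatMap.2 ⟨1, List.mem_finRange _,
      List.mem_cons_of_mem _ (List.mem_cons_of_mem _ (List.mem_cons_self ..))⟩
  have hZ02 : Z0.2 = 0 := point_table m S.m_ne Z0 (hpts _ hz0) P1 (hpts _ hp1) fun x hx =>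
    hlmap x ▸ hpts x hx
  -- `k` normalises `A`
  have hkA : ∀ v, k * ψ v * k⁻¹ ∈ AA P y t2 := fun v => by
    have h1 := hL (v, 0)
    simp only [psB, powB_zero, mul_one] at h1
    rw [← h1]
    have h2 : (L (v, 0)).2 = 0 := by
      rw [hlmap]
      simp [lmapB, hZ02]
    rw [h2, powB_zero, mul_one]
    exact mem_A C _
  have hkNA : k ∈ normalizer (AA P y t2 : Set G) := Subgroup.mem_normalizer_fintype fun x hx => by
    obtain ⟨v, rfl⟩ := (C.mem x).1 hx
    exact hkA v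
  set s := k * t2 * k⁻¹ with hs
  have hsA : ∀ x ∈ AA P y t2, s * x = x * s := fun x hx => by
    have hx' : k⁻¹ * x * k ∈ AA P y t2 := by
      have := (mem_normalizer_iff.1 (inv_mem hkNA) x).1 hx
      rwa [inv_inv] at this
    calc s * x = k * (t2 * (k⁻¹ * x * k)) * k⁻¹ := by rw [hs]; group
      _ = _ := by rw [← D.A_t2 hx', hs]; group
  have hs2 : s * s = 1 := by
    rw [hs, show k * t2 * k⁻¹ * (k * t2 * k⁻¹) = k * (t2 * t2) * k⁻¹ by group, D.t2_sq, mul_one, mul_inv_cancel]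
  have hs1 : s ≠ 1 := fun e => D.t2_ne (conj_eq_one_iff.1 (hs ▸ e))
  have hβB : t2 * s ∈ BB P y := (D.mem_B_or (hsA z D.z_A) (hsA y D.y_A) (hsA d D.d_A)).resolve_left fun h => by
    have h3 := D.B_exp h
    rw [pow_succ, pow_two, hs2, one_mul] at h3
    exact hs1 h3
  set β := t2 * s with hβ
  have hti : t2⁻¹ = t2 := inv_eq_of_mul_eq_one_right D.t2_sq
  have hβi : t2 * β * t2⁻¹ = β⁻¹ := by
    rw [hβ, mul_inv_rev, inv_eq_of_mul_eq_one_right hs2, ← mul_assoc t2 t2 s, D.t2_sq, one_mul]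
  set k' := β⁻¹ * k with hk'
  have hk't : k' * t2 = t2 * k' := by
    have h3 := D.B_exp hβB
    rw [pow_succ, pow_two] at h3
    have e1 : k * t2 = t2 * β * k := by
      rw [hβ, ← mul_assoc t2 t2 s, D.t2_sq, one_mul, hs, inv_mul_cancel_right]
    have e2 : t2 * β = β⁻¹ * t2 := by rw [← hβi]; group
    have e3 : β⁻¹ * β⁻¹ = β := by
      rw [← mul_inv_rev]
      exact inv_eq_of_mul_eq_one_right h3
    have e4 : t2 * β⁻¹ = β * t2 := by
      calc t2 * β⁻¹ = (t2 * β * t2⁻¹)⁻¹ * t2 := by group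
        _ = _ := by rw [hβi, inv_inv]
    calc k' * t2 = β⁻¹ * (k * t2) := by rw [hk']; group
      _ = β⁻¹ * (β⁻¹ * t2) * k := by rw [e1, e2]; group
      _ = β * t2 * k := by rw [← mul_assoc, e3]
      _ = _ := by rw [← e4, hk']; group
  have hβA : ∀ x ∈ AA P y t2, β * x = x * β := fun x hx => D.B_comm hβB (mem_inf.1 hx).1
  have hβn : β⁻¹ ∈ normalizer (AA P y t2 : Set G) := inv_mem (Subgroup.mem_normalizer_fintype fun x hx => by
    rw [SetLike.mem_coe, hβA x hx, mul_inv_cancel_right]; exact hx)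
  obtain ⟨ε, π, -, hact⟩ := C.act k' (mem_inf.2 ⟨mul_mem hβn hkNA, mem_centralizer_singleton_iff.2 hk't⟩)
  have hfix' : ∀ v, formH v = 0 → ε • pm π v = v := fun v hv => C.inj (by
    rw [← hact v, hk', show β⁻¹ * k * ψ v * (β⁻¹ * k)⁻¹ = β⁻¹ * (k * ψ v * k⁻¹) * β by group, hH v hv,
      mul_inv_cancel_right, mul_assoc, ← hβA _ (mem_A C v), inv_mul_cancel_left])
  obtain ⟨rfl, rfl⟩ := act_table ε π ⟨hfix' sg (by decide +kernel), hfix' hv1 (by decide +kernel),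
    hfix' hv2 (by decide +kernel)⟩
  have hc : ∀ x ∈ AA P y t2, k' * x = x * k' := fun x hx => by
    obtain ⟨v, rfl⟩ := (C.mem x).1 hx
    refine mul_inv_eq_iff_eq_mul.1 ?_
    rw [hact v, one_smul]; rfl
  rcases D.mem_B_or (hc z D.z_A) (hc y D.y_A) (hc d D.d_A) with h | h
  · refine Or.inl ?_
    rw [show k = β * k' by rw [hk', mul_inv_cancel_left]]
    exact mul_mem hβB h
  · refine Or.inr ?_
    rw [show t2 * k = (t2 * β * t2⁻¹) * (t2 * k') by rw [hk']; group, hβi]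
    exact mul_mem (inv_mem hβB) h

end Coord

/-- THEOREM: the centralizer of the hyperplane `H` in `C(r)`. -/
theorem cent_H (U : Duo Z Q Q1 Q2 L1 L2 P W t1 t2 z y g d a n)
    (C : Crd Z Q1 Q2 W (AA P y t2) t2 z y d n b ψ) :
    ∀ k ∈ centralizer ({t2} : Set G), k * ψ sg = ψ sg * k → k * ψ ![1, -1, 0, 0] = ψ ![1, -1, 0, 0] * k →
      k * ψ ![0, 0, 1, -1] = ψ ![0, 0, 1, -1] * k → k ∈ AA P y t2 ⊔ zpowers t2 := by
  classical
  intro k hkt hk0 hk1 hk2
  haveI : Fact (Nat.Prime 3) := ⟨Nat.prime_three⟩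
  have D := U.data
  obtain ⟨q, u, m, S⟩ := Coord.exists_shift D C
  obtain ⟨h3, hzu, hinv, huB, -⟩ := Coord.u_facts D C S.u_mem S.u_ne
  let Hs : Subgroup G :=
    { carrier := {x | ∃ v, formH v = 0 ∧ ψ v = x}
      one_mem' := ⟨0, by simp [formH], Coord.psi_zero C⟩
      mul_mem' := by
        rintro _ _ ⟨v, hv, rfl⟩ ⟨w, hw, rfl⟩
        exact ⟨v + w, by rw [formH_add, hv, hw, add_zero], C.add v w⟩
      inv_mem' := by
        rintro _ ⟨v, hv, rfl⟩
        exact ⟨-v, by rw [← neg_one_smul (ZMod 3) v, formH_smul, hv, mul_zero], Coord.psi_neg C v⟩ }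
  have hHB : Hs ≤ BB P y := by
    rintro _ ⟨v, -, rfl⟩
    exact (mem_inf.1 (Coord.mem_A C v)).1
  have hHA : Hs ≤ AA P y t2 := by
    rintro _ ⟨v, -, rfl⟩
    exact Coord.mem_A C v
  set CH := centralizer (Hs : Set G) with hCH
  have hcomm : ∀ {x : G}, x ∈ CH → ∀ v, formH v = 0 → x * ψ v = ψ v * x := fun hx v hv =>
    (mem_centralizer_iff.1 hx _ ⟨v, hv, rfl⟩).symm
  have hBC : BB P y ≤ CH := fun x hx => mem_centralizer_iff.2 fun w hw => D.B_comm (hHB hw) hx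
  have htC : t2 ∈ CH := mem_centralizer_iff.2 fun w hw => D.A_t2 (hHA hw)
  have hkC : k ∈ CH := by
    refine mem_centralizer_iff.2 ?_
    rintro _ ⟨v, hv, rfl⟩
    obtain ⟨c1, c2, c3, rfl⟩ := formH_span v hv
    rw [C.add, C.add, Coord.psi_smul C, Coord.psi_smul C, Coord.psi_smul C]
    exact ((((show Commute k (ψ sg) from hk0).pow_right _).mul_right ((show Commute k (ψ hv1) from hk1).pow_right _)).mul_right
      ((show Commute k (ψ hv2) from hk2).pow_right _)).eq.symm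
  haveI hHn : (Hs.subgroupOf CH).Normal := ⟨fun x hx c => by
    rw [mem_subgroupOf] at hx ⊢
    push_cast
    rw [← mem_centralizer_iff.1 c.2 _ hx, mul_inv_cancel_right]
    exact hx⟩
  set π := QuotientGroup.mk' (Hs.subgroupOf CH) with hπ
  have hπeq : ∀ {v w : ↥CH}, π v = π w → (v : G)⁻¹ * w ∈ Hs := fun e => mem_subgroupOf.1 (QuotientGroup.eq.1 e)
  have hπ1 : ∀ {v : ↥CH}, π v = 1 ↔ (v : G) ∈ Hs := (QuotientGroup.eq_one_iff _).trans mem_subgroupOf
  set T := ((BB P y).subgroupOf CH).map π with hT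
  have hmemT : ∀ {v : ↥CH}, π v ∈ T ↔ (v : G) ∈ BB P y := by
    intro v
    refine ⟨?_, fun hv => ⟨v, hv, rfl⟩⟩
    rintro ⟨w, hw, e⟩
    rw [show (v : G) = (w : G) * ((w : G)⁻¹ * v) by group]
    exact mul_mem hw (hHB (hπeq e))
  have hHcard : Nat.card ↥Hs = 27 := by
    rw [← card_formH, ← Nat.card_eq_fintype_card]
    refine (Nat.card_congr (Equiv.ofBijective (fun v : {v : Ex // formH v = 0} => (⟨ψ v, v, v.2, rfl⟩ : ↥Hs))
      ⟨fun v w e => Subtype.ext (C.inj (congrArg Subtype.val e)), fun ⟨x, v, hv, e⟩ => ⟨⟨v, hv⟩, Subtype.ext e⟩⟩)).symm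
  have h9 : Nat.card ↥T = 9 := by
    set f := π.comp (inclusion hBC) with hf
    have hk : f.ker = Hs.subgroupOf (BB P y) := by
      ext v
      exact hπ1
    have hr : f.range = T := by
      ext v
      exact ⟨fun ⟨w, hw⟩ => ⟨inclusion hBC w, w.2, hw⟩, fun ⟨w, hw, e⟩ => ⟨⟨w, hw⟩, e⟩⟩
    have h1 := f.ker.card_mul_index
    rw [index_ker, hr, hk, Nat.card_congr (subgroupOfEquivOfLe hHB).toEquiv, hHcard, D.card_B] at h1
    omega
  have hTc : ∀ v ∈ T, ∀ w ∈ T, v * w = w * v := by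
    rintro _ ⟨v, hv, rfl⟩ _ ⟨w, hw, rfl⟩
    rw [← map_mul, ← map_mul]
    exact congrArg π (Subtype.ext (D.B_comm hv hw))
  have hTe : ∀ v ∈ T, v ^ 3 = 1 := by
    rintro _ ⟨v, hv, rfl⟩
    rw [← map_pow, show v ^ 3 = 1 from Subtype.ext (D.B_exp hv), map_one]
  have hsig : ∀ K : Subgroup (↥CH ⧸ Hs.subgroupOf CH), (Nat.card ↥K).Coprime 3 →
      T ≤ normalizer (K : Set (↥CH ⧸ Hs.subgroupOf CH)) → K = ⊥ := by
    intro K hK hTK
    set Pre := K.comap π with hPre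
    set f := π.comp Pre.subtype with hf
    have hr : f.range = K := by
      ext v
      refine ⟨fun ⟨w, hw⟩ => hw ▸ w.2, fun hv => ?_⟩
      obtain ⟨w, rfl⟩ := QuotientGroup.mk'_surjective _ v
      exact ⟨⟨w, hv⟩, rfl⟩
    have hkc : Nat.card ↥f.ker = 27 := by
      rw [← hHcard]
      refine Nat.card_congr (Equiv.ofBijective
        (fun v : ↥f.ker => (⟨((v : ↥Pre) : ↥CH), hπ1.1 v.2⟩ : ↥Hs)) ⟨fun v w e => ?_, fun w => ?_⟩)
      · exact Subtype.ext (Subtype.ext (Subtype.ext (congrArg (fun q : ↥Hs => (q : G)) e)))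
      · have hw : (⟨w, hBC (hHB w.2)⟩ : ↥CH) ∈ Pre := by
          show π _ ∈ K
          rw [hπ1.2 w.2]; exact one_mem K
        exact ⟨⟨⟨_, hw⟩, hπ1.2 w.2⟩, rfl⟩
    have hidx : f.ker.index = Nat.card ↥K := by rw [index_ker, hr]
    obtain ⟨M, hM⟩ := exists_right_complement'_of_coprime (N := f.ker) (by
      rw [hkc, hidx, show (27 : ℕ) = 3 ^ 3 by norm_num]
      exact Nat.Coprime.pow_left 3 hK.symm)
    have hMc : Nat.card ↥M = Nat.card ↥K := by rw [← hidx]; exact hM.symm.index_eq_card.symm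
    have hmem : ∀ v : ↥Pre, v ∈ M ↔ v ^ Nat.card ↥K = 1 := by
      intro v
      have hpow : ∀ w ∈ M, w ^ Nat.card ↥K = 1 := fun w hw => by
        have := pow_card_eq_one' (x := (⟨w, hw⟩ : ↥M))
        rw [hMc] at this
        exact congrArg Subtype.val this
      refine ⟨hpow v, fun hv => ?_⟩
      obtain ⟨⟨⟨x, hx⟩, ⟨w, hw⟩⟩, e⟩ := hM.2 v
      simp only at e
      have hxH : ((x : ↥CH) : G) ∈ Hs := hπ1.1 hx
      have hxw : Commute x w := Subtype.ext (Subtype.ext (mem_centralizer_iff.1 (w : ↥CH).2 _ hxH))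
      rw [← e, hxw.mul_pow, hpow w hw, mul_one] at hv
      have hx27 : x ^ 27 = 1 := by
        have := pow_card_eq_one' (x := (⟨x, hx⟩ : ↥f.ker))
        rw [hkc] at this
        exact congrArg Subtype.val this
      have := pow_gcd_eq_one.2 ⟨hv, hx27⟩
      rw [show (27 : ℕ) = 3 ^ 3 by norm_num, (Nat.Coprime.pow_right 3 hK).gcd_eq_one, pow_one] at this
      rw [← e, this, one_mul]; exact hw
    have hinj : Function.Injective (CH.subtype.comp Pre.subtype) := fun v w e => Subtype.ext (Subtype.ext e)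
    have hbot : M.map (CH.subtype.comp Pre.subtype) = ⊥ := by
      refine D.sig _ (by rw [card_map_of_injective hinj, hMc]; exact hK) ?_
      intro x hx
      have hxB := D.E_le_B hx
      refine Subgroup.mem_normalizer_fintype ?_
      rintro _ ⟨v, hv, rfl⟩
      have hp : (⟨x, hBC hxB⟩ : ↥CH) * (v : ↥CH) * (⟨x, hBC hxB⟩ : ↥CH)⁻¹ ∈ Pre := by
        show π _ ∈ K
        rw [map_mul, map_mul, map_inv]
        exact (mem_normalizer_iff.1 (hTK (hmemT.2 hxB)) _).1 v.2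
      refine ⟨⟨_, hp⟩, (hmem _).2 (Subtype.ext ?_), rfl⟩
      push_cast
      rw [conj_pow, show ((v : ↥CH)) ^ Nat.card ↥K = 1 from congrArg Subtype.val ((hmem v).1 hv), mul_one,
        mul_inv_cancel]
    rw [← Subgroup.card_eq_one, ← hMc, ← card_map_of_injective hinj, hbot, card_bot]
  set su : ↥CH := ⟨u, hBC huB⟩ with hsu
  set sz : ↥CH := ⟨z, hBC (mem_inf.1 D.z_A).1⟩ with hsz
  set st : ↥CH := ⟨t2, htC⟩ with hst
  have huA : ∀ {c : ZMod 3}, powB u c ∈ AA P y t2 → c = 0 := fun h => Coord.pow_A D C S.u_mem S.u_ne h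
  have hu1 : π su ≠ 1 := fun e => by
    have h1 := huA (c := 1) (by rw [powB_one]; exact hHA (hπ1.1 e))
    exact one_ne_zero h1
  have hcu : centralizer ({π su} : Set (↥CH ⧸ Hs.subgroupOf CH)) ≤ T := by
    intro v hv
    obtain ⟨w, rfl⟩ := QuotientGroup.mk'_surjective _ v
    have e := mem_centralizer_singleton_iff.1 hv
    have e' : π (su * w) = π (w * su) := by rw [map_mul, map_mul]; exact e.symm
    have hh := hπeq e'
    set h := ((su * w : ↥CH) : G)⁻¹ * ((w * su : ↥CH) : G) with hhd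
    have hwu : (w : G) * u * (w : G)⁻¹ = u * h := by
      have hwh : Commute (w : G) h := (mem_centralizer_iff.1 w.2 _ hh).symm
      calc (w : G) * u * (w : G)⁻¹ = (u * (w : G) * h) * (w : G)⁻¹ := by rw [hhd]; simp [hsu, mul_assoc]
        _ = u * h := by rw [mul_assoc u, hwh.eq]; group
    have hwh : (w : G) * h * (w : G)⁻¹ = h := by
      rw [← mem_centralizer_iff.1 w.2 _ hh, mul_inv_cancel_right]
    have hh3 : h ^ 3 = 1 := D.B_exp (hHB hh)
    -- the cube centralises `u`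
    have h3B : (w : G) ^ 3 ∈ BB P y := Coord.cent_M U C S (fun v hv => hcomm (pow_mem w.2 3) v hv) (by
      refine mul_inv_eq_iff_eq_mul.1 ?_
      calc (w : G) ^ 3 * u * ((w : G) ^ 3)⁻¹ =
          (w : G) * ((w : G) * ((w : G) * u * (w : G)⁻¹) * (w : G)⁻¹) * (w : G)⁻¹ := by
            rw [pow_succ, pow_two]; group
        _ = u * h * h * h := by
            rw [hwu, show (w : G) * (u * h) * (w : G)⁻¹ = ((w : G) * u * (w : G)⁻¹) * ((w : G) * h * (w : G)⁻¹) by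
              group, hwu, hwh, show (w : G) * (u * h * h) * (w : G)⁻¹ = ((w : G) * u * (w : G)⁻¹) *
              ((w : G) * h * (w : G)⁻¹) * ((w : G) * h * (w : G)⁻¹) by group, hwu, hwh]
        _ = u := by rw [mul_assoc u, mul_assoc u, ← pow_two, ← pow_succ, hh3, mul_one])
    clear h3B
    have hwN : (w : G) ∈ normalizer (BB P y : Set G) := Subgroup.mem_normalizer_fintype fun x hx => by
      refine Coord.cent_M U C S (fun v hv => hcomm (mul_mem (mul_mem w.2 (hBC hx)) (inv_mem w.2)) v hv) ?_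
      have h1 : Commute ((w : G) * x * (w : G)⁻¹) (u * h) := by
        rw [← hwu]
        exact (show Commute x u from D.B_comm hx huB).map (MulAut.conj (w : G)).toMonoidHom
      have h2 : Commute ((w : G) * x * (w : G)⁻¹) h :=
        (mem_centralizer_iff.1 (mul_mem (mul_mem w.2 (hBC hx)) (inv_mem w.2)) _ hh).symm
      have h3' := h1.mul_right h2.inv_right
      rwa [mul_inv_cancel_right] at h3'
    rcases Coord.norm_B_or U C S (hcomm w.2) hwN with hw | hw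
    · exact hmemT.2 hw
    exfalso
    have h1 : t2 * (w : G) * u = u * (t2 * (w : G)) := D.B_comm hw huB
    have h2 : t2 * (u * h) * t2⁻¹ = u := by
      rw [← hwu, show t2 * ((w : G) * u * (w : G)⁻¹) * t2⁻¹ = t2 * (w : G) * u * (t2 * (w : G))⁻¹ by group, h1,
        mul_inv_cancel_right]
    rw [show t2 * (u * h) * t2⁻¹ = (t2 * u * t2⁻¹) * (t2 * h * t2⁻¹) by group, hinv, ← D.A_t2 (hHA hh),
      mul_inv_cancel_right, inv_mul_eq_iff_eq_mul] at h2
    exact one_ne_zero (two_ne 1 (huA (c := 1 + 1) (by rw [powB_add h3, powB_one, ← h2]; exact hHA hh)))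
  have hsq : π st * π st = 1 := by
    rw [← map_mul, show st * st = 1 from Subtype.ext D.t2_sq, map_one]
  have hsuinv : π st * π su * (π st)⁻¹ = (π su)⁻¹ := by
    rw [← map_inv π, ← map_mul, ← map_mul, ← map_inv]
    exact congrArg π (Subtype.ext hinv)
  have hsv : π st * π sz = π sz * π st := by
    rw [← map_mul, ← map_mul]
    exact congrArg π (Subtype.ext (D.A_t2 D.z_A).symm)
  have hvu : π sz ∉ zpowers (π su) := by
    intro hm
    obtain ⟨j, hj⟩ := (Submonoid.mem_powers_iff _ _).1 ((IsOfFinOrder.mem_powers_iff_mem_zpowers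
      (isOfFinOrder_iff_pow_eq_one.2 ⟨3, by norm_num, hTe _ (hmemT.2 huB)⟩)).2 hm)
    rw [← map_pow] at hj
    have h1 := hπeq hj.symm
    have h2 : u ^ j = powB u (j : ZMod 3) := by rw [powB, ZMod.val_natCast, ← pow_eq_pow_mod j h3]
    change z⁻¹ * u ^ j ∈ Hs at h1
    have h0 := huA (c := (j : ZMod 3)) (by
      rw [← h2, show u ^ j = z * (z⁻¹ * u ^ j) by group]
      exact mul_mem D.z_A (hHA h1))
    rw [h2, h0, powB_zero, mul_one] at h1
    obtain ⟨v, hv, e⟩ := h1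
    rw [← C.z_eq, ← Coord.psi_neg C] at e
    rw [C.inj e] at hv
    exact formH_neg_zt hv
  have hN : normalizer (T : Set (↥CH ⧸ Hs.subgroupOf CH)) ≤ T ⊔ zpowers (π st) := by
    intro v hv
    obtain ⟨w, rfl⟩ := QuotientGroup.mk'_surjective _ v
    have hwN : (w : G) ∈ normalizer (BB P y : Set G) := Subgroup.mem_normalizer_fintype fun x hx => by
      have := (mem_normalizer_iff.1 hv _).1 (hmemT.2 (show ((⟨x, hBC hx⟩ : ↥CH) : G) ∈ BB P y from hx))
      rw [← map_mul, ← map_inv π, ← map_mul] at this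
      exact hmemT.1 this
    rcases Coord.norm_B_or U C S (hcomm w.2) hwN with hw | hw
    · exact mem_sup_left (hmemT.2 hw)
    · rw [show w = st⁻¹ * (st * w) by group, map_mul, map_inv]
      exact mul_mem (mem_sup_right (inv_mem (mem_zpowers _))) (mem_sup_left (hmemT.2 hw))
  have htop := top_of_self_nine T h9 hTc hTe hsig (hmemT.2 huB) hu1 hcu hsq hsuinv
    (hmemT.2 (mem_inf.1 D.z_A).1) hvu hsv hN
  have hkT : π ⟨k, hkC⟩ ∈ T ⊔ zpowers (π st) := htop.ge (mem_top _)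
  have hTn : zpowers (π st) ≤ normalizer (T : Set (↥CH ⧸ Hs.subgroupOf CH)) :=
    zpowers_le.2 (Subgroup.mem_normalizer_fintype fun v hv => by
      obtain ⟨w, hw, rfl⟩ := hv
      rw [← map_mul, ← map_inv π, ← map_mul]
      exact hmemT.2 ((mem_normalizer_iff.1 (D.norm_B D.t2_cent D.y_t2) _).1 hw))
  rw [← SetLike.mem_coe, Subgroup.coe_mul_of_right_le_normalizer_left _ _ hTn, Set.mem_mul] at hkT
  obtain ⟨v, hv, w, hw, e⟩ := hkT
  obtain ⟨j, rfl⟩ := mem_zpowers_iff.1 hw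
  have hvT : π (⟨k, hkC⟩ * (st ^ j)⁻¹) ∈ T := by
    rw [map_mul, map_inv, map_zpow, ← e, mul_inv_cancel_right]; exact hv
  have hm := hmemT.1 hvT
  push_cast at hm
  rw [show k = k * (t2 ^ j)⁻¹ * t2 ^ j by group]
  refine mul_mem (mem_sup_left (mem_inf.2 ⟨hm, ?_⟩)) (mem_sup_right (zpow_mem (mem_zpowers t2) j))
  exact mul_mem hkt (inv_mem (zpow_mem (mem_centralizer_singleton_iff.2 rfl) j))

end Cfsg.Agent.UThreeLocal.Big.Local
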