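import Cfsg.Agent.Lib.UThreeLocal.Big.Local.Interface
import Cfsg.Agent.Lib.UThreeLocal.Cand.Top
import Cfsg.Agent.Lib.UThreeLocal.Cand.Quot

/-!
# Small facts for the quotient by the extraspecial group

Facts on the coordinates, coprime complements, the coprime part of a quotient by a central subgroup of order
three, conjugation into a subgroup of order `243`, and the frame facts at `t₂`.
-/

set_option autoImplicit false
set_option linter.unusedSectionVars false
set_option linter.style.haveILetI false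
set_option maxRecDepth 100000

namespace Cfsg.Agent.UThreeLocal.Big.Local

open Subgroup
open scoped commutatorElement Pointwise
open Cfsg.Agent.UThreeLocal.Cand (XX pr pr_eq_one pr_surj)

universe u

/-- The vector spanning the line of `d`. -/
def dv : Ex := ![0, 0, 1, -1]

/-- The second vector with `σ` and `dv` spanning the fixed hyperplane. -/
def hv : Ex := ![1, -1, 0, 0]

theorem pm_comp (π ρ : Equiv.Perm (Fin 4)) (v : Ex) : pm (π * ρ) v = pm π (pm ρ v) := rfl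

theorem pm_sg (π : Equiv.Perm (Fin 4)) : pm π sg = sg := rfl

theorem pm_zt (π : Equiv.Perm (Fin 4)) (i : Fin 4) : pm π (zt i) = zt (π i) := by
  funext j
  simp only [pm, zt, Equiv.eq_symm_apply]

theorem pm_add (π : Equiv.Perm (Fin 4)) (v w : Ex) : pm π (v + w) = pm π v + pm π w := rfl

theorem pm_smul (π : Equiv.Perm (Fin 4)) (k : ZMod 3) (v : Ex) : pm π (k • v) = k • pm π v := rfl

theorem zmod3 : ∀ k : ZMod 3, k = 0 ∨ k = 1 ∨ k = -1 := by decide

theorem pt_shift : ∀ (k : ZMod 3) (i : Fin 4),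
    (zt 0 + k • sg = zt i ∨ zt 0 + k • sg = -zt i → k = 0) ∧
    (-zt 0 + k • sg = zt i ∨ -zt 0 + k • sg = -zt i → k = 0) := by decide +kernel

theorem zt_one_line : ∀ k : ZMod 3, zt 1 ≠ zt 0 + k • sg ∧ zt 1 ≠ -zt 0 + k • sg := by decide +kernel

theorem sum_zero_dec : ∀ v : Ex, v 1 + v 2 + v 3 = 0 → ∃ i j : ZMod 3, v = v 0 • sg + i • zt 0 + j • dv := by
  decide +kernel

theorem sum_span : ∀ v : Ex, v 0 + v 1 + v 2 + v 3 = 0 →
    ∃ i j k : ZMod 3, v = i • zt 0 + j • zt 1 + k • zt 2 := by decide +kernel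

theorem cyc_fix_count :
    (Finset.univ.filter fun v : Ex => pm cyc v = v).card = 9 := by decide +kernel

theorem cyc_key : ∀ v : Ex, pm cyc v = v ∨
    (∃ i : ZMod 3, zt 0 = i • (pm cyc v - v)) ∨
    (∃ i : ZMod 3, zt 0 = i • (pm cyc (pm cyc v - v) - (pm cyc v - v))) := by decide +kernel

theorem cyc_fixed : ∀ v : Ex, pm cyc v = v → v = v 0 • (sg - zt 0) + v 1 • zt 0 := by decide +kernel

theorem fixed_span : ∀ a c a' c' : ZMod 3, a * c' - a' * c ≠ 0 → ∃ i j : ZMod 3,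
    i * a + j * a' = 0 ∧ i * c + j * c' = 1 := by decide +kernel

theorem two_step : ∀ v : Ex, pm (cyc * cyc) (pm (cyc * cyc) v) = pm cyc v := by decide +kernel

/-- The permutations used to move a hyperplane. -/
def qmv : Fin 9 → Equiv.Perm (Fin 4) :=
  ![1, Equiv.swap 0 1, cyc * Equiv.swap 0 1, cyc * cyc * Equiv.swap 0 1, cyc, cyc * cyc,
    Equiv.swap 0 1 * cyc, Equiv.swap 0 1 * (cyc * cyc), cyc * (Equiv.swap 0 1 * cyc)]

/-- The value of a linear form. -/
def dot (c v : Ex) : ZMod 3 := c 0 * v 0 + c 1 * v 1 + c 2 * v 2 + c 3 * v 3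

theorem hyper_cases : ∀ c : Ex, ∃ k : Fin 9,
    dot c (pm (qmv k) (zt 0)) = 0 ∨
    (dot c (pm (qmv k) ![0, 0, 1, 0]) = 0 ∧ dot c (pm (qmv k) ![0, 0, 0, 1]) = 0) ∨
    (dot c (pm (qmv k) sg) = 0 ∧ dot c (pm (qmv k) hv) = 0 ∧ dot c (pm (qmv k) dv) = 0) := by decide +kernel

theorem dot_card : ∀ c : Ex, c ≠ 0 → (Finset.univ.filter fun v : Ex => dot c v = 0).card = 27 := by
  decide +kernel

theorem W_rigid : ∀ (ε : ZMod 3) (π : Equiv.Perm (Fin 4)), ε • pm π ![0, 0, 1, 0] = ![0, 0, 1, 0] →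
    ε • pm π ![0, 0, 0, 1] = ![0, 0, 0, 1] →
    (∀ v : Ex, ε • pm π (ε • pm π (ε • pm π v)) = v) → ∀ v : Ex, ε • pm π v = v := by decide +kernel

theorem flip_sign : ∀ (ε : ZMod 3) (i : Fin 4), (ε = 1 ∨ ε = -1) → ε • zt i = -zt 0 → ε = -1 := by
  decide +kernel

/-- A subgroup of exponents with more than three elements stable under the three-cycle contains `zt 0`. -/
theorem cyc_stable {U : AddSubgroup Ex} (hU : 3 < Nat.card ↥U) (hst : ∀ v ∈ U, pm cyc v ∈ U) :
    zt 0 ∈ U := by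
  classical
  have hsm : ∀ (k : ZMod 3) v, v ∈ U → k • v ∈ U := fun k v hv => by
    rcases zmod3 k with e | e | e <;> subst e
    · rw [zero_smul]; exact zero_mem _
    · rwa [one_smul]
    · rw [neg_one_smul]; exact neg_mem hv
  by_contra hz
  have hfix : ∀ v ∈ U, pm cyc v = v := by
    intro v hv
    have h1 := sub_mem (hst v hv) hv
    rcases cyc_key v with e | ⟨i, e⟩ | ⟨i, e⟩
    · exact e
    · exact absurd (e ▸ hsm i _ h1) hz
    · exact absurd (e ▸ hsm i _ (sub_mem (hst _ h1) h1)) hz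
  -- all fixed: two independent vectors
  obtain ⟨v, hv, hv0⟩ : ∃ v ∈ U, v ≠ 0 := by
    by_contra hc
    push Not at hc
    have : Nat.card ↥U ≤ 1 := by
      haveI : Subsingleton ↥U := ⟨fun a c => Subtype.ext ((hc _ a.2).trans (hc _ c.2).symm)⟩
      exact Finite.card_le_one_iff_subsingleton.2 inferInstance
    omega
  obtain ⟨w, hw, hwv⟩ : ∃ w ∈ U, ∀ k : ZMod 3, w ≠ k • v := by
    by_contra hc
    push Not at hc
    choose k hk using hc
    have h3 := Nat.card_le_card_of_injective (fun w : ↥U => k w.1 w.2) fun a c e => by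
      have e' : k a.1 a.2 = k c.1 c.2 := e
      exact Subtype.ext (by rw [hk a.1 a.2, hk c.1 c.2, e'])
    rw [Nat.card_zmod] at h3
    omega
  set e0 : Ex := sg - zt 0 with he0
  obtain ⟨a, c, hv'⟩ : ∃ a c : ZMod 3, v = a • e0 + c • zt 0 := ⟨_, _, cyc_fixed v (hfix v hv)⟩
  obtain ⟨a', c', hw'⟩ : ∃ a c : ZMod 3, w = a • e0 + c • zt 0 := ⟨_, _, cyc_fixed w (hfix w hw)⟩
  have hdet : a * c' - a' * c ≠ 0 := by
    intro h0
    by_cases ha : a = 0
    · subst ha
      have hc : c ≠ 0 := fun e => hv0 (by rw [hv', e]; simp)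
      have ha' : a' = 0 := by simpa [hc] using h0
      refine hwv (c' * c⁻¹) ?_
      rw [hv', hw', ha']
      simp [smul_smul, hc]
    · refine hwv (a' * a⁻¹) ?_
      rw [hv', hw', smul_add, smul_smul, smul_smul]
      congr 2
      · field_simp
      · field_simp
        linear_combination h0
  obtain ⟨i, j, h1, h2⟩ := fixed_span a c a' c' hdet
  refine hz ?_
  have : i • v + j • w = zt 0 := by
    rw [hv', hw', show i • (a • e0 + c • zt 0) + j • (a' • e0 + c' • zt 0) =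
      (i * a + j * a') • e0 + (i * c + j * c') • zt 0 by simp only [smul_add, smul_smul, add_smul]; abel,
      h1, h2, zero_smul, one_smul, zero_add]
  exact this ▸ add_mem (hsm i v hv) (hsm j w hw)

section Groups

variable {G : Type u} [Group G] [Finite G]

/-- Two elements of order three congruent modulo a normalised coprime subgroup are conjugate under it. -/
theorem conj_of_coset {R : Subgroup G} (hR : (Nat.card ↥R).Coprime 3) {x w : G} (hx : x ∈ normalizer (R : Set G))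
    (hx3 : x ^ 3 = 1) (hw3 : w ^ 3 = 1) (h : x⁻¹ * w ∈ R) : ∃ ρ ∈ R, ρ * x * ρ⁻¹ = w := by
  classical
  haveI : Fact (Nat.Prime 3) := ⟨Nat.prime_three⟩
  have hwN : w ∈ normalizer (R : Set G) := by simpa using mul_mem hx (le_normalizer h)
  have hord : ∀ {s : G}, s ^ 3 = 1 → (Nat.card ↥R).Coprime (Nat.card ↥(zpowers s)) := fun hs => by
    rw [Nat.card_zpowers]
    exact hR.coprime_dvd_right (orderOf_dvd_of_pow_eq_one hs)
  have heq : R ⊔ zpowers x = R ⊔ zpowers w := by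
    refine le_antisymm (sup_le le_sup_left (zpowers_le.2 ?_)) (sup_le le_sup_left (zpowers_le.2 ?_))
    · have : w * (x⁻¹ * w)⁻¹ = x := by group
      rw [← this]
      exact mul_mem (mem_sup_right (mem_zpowers w)) (mem_sup_left (inv_mem h))
    · have : x * (x⁻¹ * w) = w := by group
      rw [← this]
      exact mul_mem (mem_sup_right (mem_zpowers x)) (mem_sup_left h)
  obtain ⟨ρ, hρ, he⟩ := Cfsg.Agent.Coprime.exists_conj_eq_of_sup_eq (zpowers_le.2 hx) (zpowers_le.2 hwN) heq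
    (hord hx3) (hord hw3) (Or.inr (Cfsg.Agent.Coprime.isSolvable_of_isMulCommutative _))
  refine ⟨ρ, hρ, ?_⟩
  have hm : ρ * x * ρ⁻¹ ∈ zpowers w := by
    rw [← he, Subgroup.mem_pointwise_smul_iff_inv_smul_mem, ← map_inv]
    show ρ⁻¹ * (ρ * x * ρ⁻¹) * ρ⁻¹⁻¹ ∈ zpowers x
    rw [show ρ⁻¹ * (ρ * x * ρ⁻¹) * ρ⁻¹⁻¹ = x by group]
    exact mem_zpowers x
  have hdiff : (ρ * x * ρ⁻¹)⁻¹ * w ∈ R := by
    have e : (ρ * x * ρ⁻¹)⁻¹ * w = ρ * (x⁻¹ * ρ⁻¹ * x) * (x⁻¹ * w) := by group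
    rw [e]
    refine mul_mem (mul_mem hρ ?_) h
    exact (mem_normalizer_iff''.1 hx _).1 (inv_mem hρ)
  have hint : R ⊓ zpowers w = ⊥ := Subgroup.inf_eq_bot_of_coprime (hord hw3)
  exact inv_mul_eq_one.1 (mem_bot.1 (hint.le (mem_inf.2 ⟨hdiff, mul_mem (inv_mem hm) (mem_zpowers w)⟩)))

/-- Elements centralised modulo `R` by a commutative three-group lift to its centralizer. -/
theorem lift_cent_group {r : G} {R A0 : Subgroup G} (hR : (Nat.card ↥R).Coprime 3) [IsMulCommutative ↥A0]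
    (hA : A0 ≤ Cand.NN r R) (hA3 : IsPGroup 3 ↥A0) {g : ↥(Cand.NN r R)}
    (hg : ∀ a : ↥(Cand.NN r R), (a : G) ∈ A0 →
      Cand.pn r R g * Cand.pn r R a = Cand.pn r R a * Cand.pn r R g) :
    ∃ ρ ∈ R, (g : G) * ρ ∈ centralizer (A0 : Set G) := by
  haveI : Fact (Nat.Prime 3) := ⟨Nat.prime_three⟩
  obtain ⟨k, hk⟩ := IsPGroup.iff_card.1 hA3
  refine Cfsg.Agent.Coprime.exists_fixed_in_coset (A := A0) (N := R) (hA.trans inf_le_right)
    (hk ▸ (hR.pow_right k).symm) (Or.inl (Cfsg.Agent.Coprime.isSolvable_of_isMulCommutative _)) fun w hw => ?_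
  have h2 := hg ⟨w, hA hw⟩ hw
  have h1 : Cand.pn r R (g⁻¹ * (⟨w, hA hw⟩ * g * (⟨w, hA hw⟩ : ↥(Cand.NN r R))⁻¹)) = 1 := by
    rw [map_mul, map_mul, map_mul, map_inv, map_inv, ← h2, mul_inv_cancel_right, inv_mul_cancel]
  have := Cand.pn_eq_one.1 h1
  push_cast at this
  exact this

/-- A `3'`-subgroup of `C(c)/⟨c⟩` comes from one of `G` with at least the same normalizer. -/
theorem exists_coprime_part {c : G} (hc : orderOf c = 3) (K : Subgroup (XX c)) (hK : (Nat.card ↥K).Coprime 3) :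
    ∃ M : Subgroup G, Nat.card ↥M = Nat.card ↥K ∧
      ∀ e : ↥(centralizer ({c} : Set G)), pr c e ∈ normalizer (K : Set (XX c)) → (e : G) ∈ normalizer (M : Set G) := by
  classical
  haveI : Fact (Nat.Prime 3) := ⟨Nat.prime_three⟩
  set P := K.comap (pr c) with hP
  set f : ↥P →* XX c := (pr c).comp P.subtype with hf
  have hr : f.range = K := by
    ext g
    constructor
    · rintro ⟨a, rfl⟩; exact a.2
    · intro hg
      obtain ⟨a, rfl⟩ := pr_surj c g
      exact ⟨⟨a, hg⟩, rfl⟩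
  have hcc : c ∈ centralizer ({c} : Set G) := mem_centralizer_singleton_iff.2 rfl
  have hk3 : Nat.card ↥f.ker = 3 := by
    rw [← hc, ← Nat.card_zpowers]
    refine Nat.card_congr (Equiv.ofBijective
      (fun a : ↥f.ker => (⟨((a : ↥P) : ↥(centralizer ({c} : Set G))), pr_eq_one.1 a.2⟩ : ↥(zpowers c)))
      ⟨fun a b e => ?_, fun w => ?_⟩)
    · exact Subtype.ext (Subtype.ext (Subtype.ext (congrArg (fun q : ↥(zpowers c) => (q : G)) e)))
    · have hw : (w : G) ∈ centralizer ({c} : Set G) := (zpowers_le.2 hcc) w.2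
      exact ⟨⟨⟨⟨w, hw⟩, show pr c ⟨w, hw⟩ ∈ K by rw [pr_eq_one.2 w.2]; exact one_mem K⟩, pr_eq_one.2 w.2⟩, rfl⟩
  have hidx : f.ker.index = Nat.card ↥K := by rw [Subgroup.index_ker, hr]
  obtain ⟨M, hM⟩ := exists_right_complement'_of_coprime (N := f.ker) (by rw [hk3, hidx]; exact hK.symm)
  have hMc : Nat.card ↥M = Nat.card ↥K := by rw [← hidx]; exact hM.symm.index_eq_card.symm
  have hMpow : ∀ {x : ↥P}, x ∈ M → x ^ Nat.card ↥K = 1 := fun {x} hx => by
    have := pow_card_eq_one' (x := (⟨x, hx⟩ : ↥M))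
    rw [hMc] at this
    exact congrArg Subtype.val this
  have hmem : ∀ x : ↥P, x ∈ M ↔ x ^ Nat.card ↥K = 1 := by
    refine fun x => ⟨hMpow, fun hx => ?_⟩
    obtain ⟨⟨⟨k, hk⟩, ⟨m, hm⟩⟩, e⟩ := hM.2 x
    simp only at e
    have hkc : Commute k m := by
      obtain ⟨i, hi⟩ := mem_zpowers_iff.1 (pr_eq_one.1 (MonoidHom.mem_ker.1 hk) :
        ((k : ↥(centralizer ({c} : Set G))) : G) ∈ zpowers c)
      refine Subtype.ext (Subtype.ext ?_)
      show ((k : ↥(centralizer ({c} : Set G))) : G) * ((m : ↥(centralizer ({c} : Set G))) : G) =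
        ((m : ↥(centralizer ({c} : Set G))) : G) * ((k : ↥(centralizer ({c} : Set G))) : G)
      rw [← hi]
      exact (((show Commute c ((m : ↥(centralizer ({c} : Set G))) : G) from
        (mem_centralizer_singleton_iff.1 (m : ↥(centralizer ({c} : Set G))).2).symm)).zpow_left i).eq
    have hk1 : k ^ 3 = 1 := by
      have := pow_card_eq_one' (x := (⟨k, hk⟩ : ↥f.ker))
      rw [hk3] at this
      exact congrArg Subtype.val this
    rw [← e, hkc.mul_pow, hMpow hm, mul_one] at hx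
    have := pow_gcd_eq_one.2 ⟨hx, hk1⟩
    rw [hK.gcd_eq_one, pow_one] at this
    rw [← e, this, one_mul]; exact hm
  refine ⟨M.map ((centralizer ({c} : Set G)).subtype.comp P.subtype), ?_, fun e he => ?_⟩
  · rw [card_map_of_injective fun a b e => Subtype.ext (Subtype.ext e), hMc]
  refine Subgroup.mem_normalizer_fintype ?_
  rintro _ ⟨x, hx, rfl⟩
  have hPm : e * (x : ↥(centralizer ({c} : Set G))) * e⁻¹ ∈ P := by
    show pr c _ ∈ K
    rw [map_mul, map_mul, map_inv]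
    exact (mem_normalizer_iff.1 he _).1 x.2
  refine ⟨⟨_, hPm⟩, (hmem _).2 (Subtype.ext ?_), rfl⟩
  push_cast
  rw [conj_pow]
  have := congrArg Subtype.val ((hmem x).1 hx)
  push_cast at this
  rw [this, mul_one, mul_inv_cancel]

/-- A three-subgroup is moved into a Sylow subgroup of order `243`. -/
theorem conj_into {C S T : Subgroup G} (hSC : S ≤ C) (hTC : T ≤ C) (hT : IsPGroup 3 ↥T)
    (hS : Nat.card ↥S = 243) (hC : Nat.card ↥C ∣ 77760) : ∃ c ∈ C, ∀ x ∈ T, c * x * c⁻¹ ∈ S := by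
  classical
  haveI : Fact (Nat.Prime 3) := ⟨Nat.prime_three⟩
  set S' := S.subgroupOf C with hS'
  have hSc : Nat.card ↥S' = 243 := by rw [hS', Nat.card_congr (subgroupOfEquivOfLe hSC).toEquiv, hS]
  have hnot : ¬ 3 ∣ S'.index := by
    intro h3
    have h1 := S'.card_mul_index
    rw [hSc] at h1
    obtain ⟨k, hk⟩ := h3
    rw [hk] at h1
    have : 729 ∣ Nat.card ↥C := ⟨k, by rw [← h1]; ring⟩
    exact absurd (this.trans hC) (by norm_num)
  let P : Sylow 3 ↥C := (IsPGroup.of_card (p := 3) (n := 5) (hSc.trans (by norm_num))).toSylow hnot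
  obtain ⟨T', hT'⟩ := (hT.of_equiv (subgroupOfEquivOfLe hTC).symm).exists_le_sylow
  obtain ⟨c, hc⟩ := MulAction.exists_smul_eq ↥C T' P
  refine ⟨c, c.2, fun x hx => ?_⟩
  have h1 : MulAut.conj c • (⟨x, hTC hx⟩ : ↥C) ∈ MulAut.conj c • (T' : Subgroup ↥C) :=
    smul_mem_pointwise_smul _ _ _ (hT' (mem_subgroupOf.2 hx))
  rw [← Sylow.coe_subgroup_smul, hc] at h1
  exact h1

end Groups

section FrameFacts

variable {G : Type u} [Group G] [Finite G] {Z Q Q1 Q2 L1 L2 : Subgroup G} {t1 t2 : G}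

theorem fix_r (F : Frame Z Q Q1 Q2 L1 L2 t1 t2) {x : G} (hx : x ∈ Q1) : x * t2 = t2 * x :=
  mem_centralizer_iff.1 (F.L2_cent F.t2_mem) x hx

theorem Fx_r (F : Frame Z Q Q1 Q2 L1 L2 t1 t2) : Fx Q t2 = Q1 := by
  refine le_antisymm (fun x hx => ?_) fun x hx => mem_Fx.2 ⟨F.pair.le1 hx, by
    rw [← fix_r F hx, mul_inv_cancel_right]⟩
  obtain ⟨hxQ, hxt⟩ := mem_Fx.1 hx
  obtain ⟨u, hu, v, hv, rfl⟩ := F.pair.dec x hxQ
  have hvt : t2 * v * t2⁻¹ = v := by
    rw [show t2 * (u * v) * t2⁻¹ = (t2 * u * t2⁻¹) * (t2 * v * t2⁻¹) by group, ← fix_r F hu,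
      mul_inv_cancel_right] at hxt
    exact mul_left_cancel hxt
  have h1 := F.t2_inv v hv
  rw [hvt] at h1
  refine mul_mem hu (F.pair.Z1 ?_)
  rw [show v = v ^ 3 * (v * v)⁻¹ by rw [pow_succ, pow_two]; group, F.cube v (F.pair.le2 hv), one_mul]
  exact inv_mem h1

theorem norm_Q12 (F : Frame Z Q Q1 Q2 L1 L2 t1 t2) {c : G} (hc : c ∈ normalizer (Z : Set G))
    (hct : c * t2 = t2 * c) : c ∈ normalizer (Q1 : Set G) ∧ c ∈ normalizer (Q2 : Set G) := by
  have hQ : c ∈ normalizer (Q : Set G) := F.normalizer_le_normalizer_Q hc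
  have h1 : c ∈ normalizer (Q1 : Set G) := by
    rw [← Fx_r F]
    refine Subgroup.mem_normalizer_fintype fun x hx => ?_
    obtain ⟨hxQ, hxt⟩ := mem_Fx.1 hx
    refine mem_Fx.2 ⟨(mem_normalizer_iff.1 hQ x).1 hxQ, ?_⟩
    calc t2 * (c * x * c⁻¹) * t2⁻¹ = (t2 * c) * x * (t2 * c)⁻¹ := by group
      _ = c * (t2 * x * t2⁻¹) * c⁻¹ := by rw [← hct]; group
      _ = _ := by rw [hxt]
  refine ⟨h1, Subgroup.mem_normalizer_fintype fun x hx => ?_⟩
  obtain ⟨u, hu, v, hv, e⟩ := F.pair.dec _ ((mem_normalizer_iff.1 hQ x).1 (F.pair.le2 hx))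
  rw [e]
  refine mul_mem ?_ hv
  have huc : ∀ w ∈ Q1, u * w = w * u := fun w hw => by
    have hw' : c⁻¹ * w * c ∈ Q1 := (mem_normalizer_iff''.1 h1 w).1 hw
    have e1 : Commute (c * x * c⁻¹) w := by
      have := (show Commute (c⁻¹ * w * c) x from F.pair.comm _ hw' x hx).symm.conj c
      simpa [mul_assoc] using this
    have e2 : Commute v w := (F.pair.comm w hw v hv).symm
    have e3 : u = c * x * c⁻¹ * v⁻¹ := by rw [e, mul_inv_cancel_right]
    exact (e3 ▸ e1.mul_left e2.inv_left : Commute u w)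
  by_cases huZ : u ∈ Z
  · exact F.pair.Z2 huZ
  · obtain ⟨w, hw, hne⟩ := F.pair.exists_noncomm F.set hu huZ
    exact absurd (huc w hw) hne

theorem L1_triv (F : Frame Z Q Q1 Q2 L1 L2 t1 t2) {m : G} (hm : m ∈ L1) (ht : Triv Z Q1 m) : m = 1 := by
  have hc : m ∈ centralizer (Q2 : Set G) := F.L1_cent hm
  have hmQ := F.mem_Q_of_triv (F.L1_le hm) ht fun x hx => by
    rw [← mem_centralizer_iff.1 hc x hx, mul_inv_cancel_right, inv_mul_cancel]; exact one_mem _
  have h1 : m ^ 8 = 1 := by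
    have := pow_card_eq_one' (x := (⟨m, hm⟩ : ↥L1))
    rw [F.L1_card] at this
    simpa using congrArg Subtype.val this
  have := pow_gcd_eq_one.2 ⟨h1, F.cube m hmQ⟩
  rwa [show Nat.gcd 8 3 = 1 from rfl, pow_one] at this

end FrameFacts

end Cfsg.Agent.UThreeLocal.Big.Local
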