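import Cfsg.Agent.Lib.UThreeLocal.Big.Local.Radical
import Cfsg.Agent.Lib.UThreeLocal.Big.Local.QuoTools
import Cfsg.Agent.Lib.UThreeLocal.Big.Local.Hyper

/-!
# The product of the four quaternion groups is self-centralising

Its centralizer is normalised by `A` and has order prime to three, as no nontrivial element of `A` centralises
all four groups; so it lies in `R`.
-/

set_option autoImplicit false
set_option linter.unusedSectionVars false
set_option linter.style.haveILetI false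
set_option maxRecDepth 100000

namespace Cfsg.Agent.UThreeLocal.Big.Local

open Subgroup

universe u

variable {G : Type u} [Group G] [Finite G] {Z Q Q1 Q2 L1 L2 P W : Subgroup G} {t1 t2 z y g d a n b : G}
  {ψ : Ex → G}

/-- A nontrivial element of `A` does not centralise `R`. -/
theorem A_cent_R_trivial (U : Duo Z Q Q1 Q2 L1 L2 P W t1 t2 z y g d a n)
    (C : Crd Z Q1 Q2 W (AA P y t2) t2 z y d n b ψ) {v : Ex}
    (hv : ∀ x ∈ Rd L2 b n, x * ψ v = ψ v * x) : v = 0 := by
  classical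
  by_contra hne
  obtain ⟨i, hi⟩ := Function.ne_iff.1 hne
  have D := U.data
  have F := D.frame
  set w := pm (gP i).symm v with hw
  have hw0 : w 0 = v i := (gP_back i v).1
  have hvw : gv b n i * ψ w * (gv b n i)⁻¹ = ψ v := by rw [gv_act C, hw, (gP_back i v).2]
  have hA : ψ w ∈ AA P y t2 := (C.mem _).2 ⟨w, rfl⟩
  have hwC := D.A_le_C hA
  have hwN : ψ w ∈ normalizer (Q2 : Set G) :=
    (norm_Q12 F (centralizer_le_normalizer _ hwC) (D.A_t2 hA)).2
  have hnt : ¬ Triv Z Q2 (ψ w) := fun h => hi (by rw [← hw0]; exact (C.triv2 w).1 h)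
  have hle : L2 ≤ zpowers t2 := fun l hl => by
    refine fix_L2 F D.z_mem D.z_ne hwC hwN (D.A_exp hA) hnt hl ?_
    have hmem : gv b n i * l * (gv b n i)⁻¹ ∈ Rd L2 b n := Lv_le_Rd i ⟨l, hl, rfl⟩
    have := (show Commute (gv b n i * l * (gv b n i)⁻¹) (ψ v) from hv _ hmem).conj (gv b n i)⁻¹
    rw [← hvw] at this
    exact (show Commute l (ψ w) by simpa [mul_assoc] using this).eq
  have hc := Subgroup.card_le_of_le hle
  rw [F.L2_card, Nat.card_zpowers, F.t2_two] at hc
  omega

/-- THEOREM: `C(R) = ⟨r⟩`. -/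
theorem cent_R (U : Duo Z Q Q1 Q2 L1 L2 P W t1 t2 z y g d a n)
    (C : Crd Z Q1 Q2 W (AA P y t2) t2 z y d n b ψ) (Ra : Rad Q1 L2 (AA P y t2) t2 b n ψ)
    (hsig : ∀ K : Subgroup G, K ≤ centralizer ({t2} : Set G) → (Nat.card ↥K).Coprime 3 →
      AA P y t2 ≤ normalizer (K : Set G) → K ≤ Rd L2 b n) :
    centralizer (Rd L2 b n : Set G) = zpowers t2 := by
  classical
  haveI : Fact (Nat.Prime 3) := ⟨Nat.prime_three⟩
  have D := U.data
  set R := Rd L2 b n with hR
  set K := centralizer (R : Set G) with hK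
  have hrR : t2 ∈ R := Ra.Lv_le 0 (Ra.r_mem 0)
  have hKr : K ≤ centralizer ({t2} : Set G) := fun x hx =>
    mem_centralizer_singleton_iff.2 (mem_centralizer_iff.1 hx t2 hrR).symm
  set A := AA P y t2 with hA
  have hAK : A ≤ normalizer (K : Set G) := fun u hu => Subgroup.mem_normalizer_fintype fun x hx => by
    refine mem_centralizer_iff.2 fun s hs => ?_
    have hs' : u⁻¹ * s * u ∈ R := (mem_normalizer_iff''.1 (Ra.A_norm hu) s).1 hs
    calc s * (u * x * u⁻¹) = u * ((u⁻¹ * s * u) * x) * u⁻¹ := by group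
      _ = u * (x * (u⁻¹ * s * u)) * u⁻¹ := by rw [mem_centralizer_iff.1 hx _ hs']
      _ = u * x * u⁻¹ * s := by group
  have hA3 : IsPGroup 3 ↥A := IsPGroup.of_card (n := 4) (by rw [hA, D.card_A]; norm_num)
  have h3 : (Nat.card ↥K).Coprime 3 := by
    refine Nat.Coprime.symm ((Nat.Prime.coprime_iff_not_dvd Nat.prime_three).2 fun hdvd => ?_)
    -- `A` normalises a Sylow subgroup of `C(R)`
    haveI := (inferInstance : Nonempty (Sylow 3 ↥K))
    let act : ↥A →* MulAut ↥K := (Subgroup.normalizerMonoidHom K).comp (Subgroup.inclusion hAK)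
    letI : MulAction ↥A (Sylow 3 ↥K) := MulAction.compHom (Sylow 3 ↥K) act
    obtain ⟨S, hS⟩ := hA3.nonempty_fixed_point_of_prime_not_dvd_card (α := Sylow 3 ↥K) (not_dvd_card_sylow 3 ↥K)
    set S' := (S : Subgroup ↥K).map K.subtype with hS'
    have hAS : ∀ u ∈ A, ∀ x ∈ S', u * x * u⁻¹ ∈ S' := by
      rintro u hu _ ⟨x, hx, rfl⟩
      have h1 : act ⟨u, hu⟩ x ∈ ((S : Subgroup ↥K) : Set ↥K) := by
        have h := congrArg (fun T : Sylow 3 ↥K => ((T : Subgroup ↥K) : Set ↥K))
          (MulAction.mem_fixedPoints.1 hS (⟨u, hu⟩ : ↥A))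
        rw [← h]
        exact Subgroup.smul_mem_pointwise_smul x (act ⟨u, hu⟩) _ hx
      exact ⟨_, h1, rfl⟩
    letI : MulAction ↥A ↥S' :=
      { smul := fun u x => ⟨(u : G) * x * (u : G)⁻¹, hAS _ u.2 _ x.2⟩
        one_smul := fun x => Subtype.ext (show (1 : G) * x * (1 : G)⁻¹ = x by group)
        mul_smul := fun u w x => Subtype.ext
          (show ((u : G) * w) * x * ((u : G) * w)⁻¹ = u * (w * x * (w : G)⁻¹) * (u : G)⁻¹ by group) }
    have hS3 : 3 ∣ Nat.card ↥S' := by
      rw [hS', card_map_of_injective (Subgroup.subtype_injective _)]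
      exact S.dvd_card_of_dvd_card hdvd
    have hone : (1 : ↥S') ∈ MulAction.fixedPoints ↥A ↥S' := fun u =>
      Subtype.ext (show (u : G) * 1 * (u : G)⁻¹ = 1 by group)
    obtain ⟨x, hx, hx1⟩ := hA3.exists_fixed_point_of_prime_dvd_card_of_fixed_point ↥S' hS3 hone
    have hxK : (x : G) ∈ K := (map_subtype_le _) x.2
    have hxA : (x : G) ∈ centralizer (A : Set G) := mem_centralizer_iff.2 fun u hu => by
      have e : u * (x : G) * u⁻¹ = x := congrArg Subtype.val (hx (⟨u, hu⟩ : ↥A))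
      exact mul_inv_eq_iff_eq_mul.1 e
    have hAr := cent_A D (mem_inf.2 ⟨hxA, hKr hxK⟩)
    obtain ⟨k, hk⟩ := IsPGroup.iff_card.1 (S.2.map K.subtype)
    have hxk : (x : G) ^ 3 ^ k = 1 := by
      have h := pow_card_eq_one' (x := (⟨(x : G), x.2⟩ : ↥((S : Subgroup ↥K).map K.subtype)))
      rw [hk] at h
      have h' := congrArg Subtype.val h
      rw [SubgroupClass.coe_pow] at h'
      exact h'
    -- the part in `⟨r⟩` is trivial
    have hrn : zpowers t2 ≤ normalizer (A : Set G) := zpowers_le.2 (centralizer_le_normalizer _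
      (mem_centralizer_iff.2 fun u hu => D.A_t2 hu))
    rw [← SetLike.mem_coe, Subgroup.coe_mul_of_right_le_normalizer_left A _ hrn, Set.mem_mul] at hAr
    obtain ⟨u, hu, w, hw, e⟩ := hAr
    obtain ⟨j, rfl⟩ := mem_zpowers_iff.1 hw
    have hcu : Commute u (t2 ^ j) := (show Commute u t2 from D.A_t2 hu).zpow_right j
    have h2 : ((x : G) * u⁻¹) ^ 2 = 1 := by
      rw [← e, hcu.eq, mul_inv_cancel_right, ← zpow_natCast, ← zpow_mul, mul_comm, zpow_mul, zpow_natCast,
        pow_two, D.t2_sq, one_zpow]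
    have hxu : Commute (x : G) u⁻¹ :=
      (show Commute (x : G) u from (mem_centralizer_iff.1 hxA u hu).symm).inv_right
    have h3' : ((x : G) * u⁻¹) ^ 3 ^ (k + 1) = 1 := by
      rw [hxu.mul_pow]
      have e1 : (x : G) ^ 3 ^ (k + 1) = 1 := by rw [pow_succ, pow_mul, hxk, one_pow]
      have e2 : (u⁻¹ : G) ^ 3 ^ (k + 1) = 1 := by
        rw [pow_succ', pow_mul, inv_pow, D.A_exp hu, inv_one, one_pow]
      rw [e1, e2, one_mul]
    have hxu1 := pow_gcd_eq_one.2 ⟨h2, h3'⟩
    rw [((by norm_num : Nat.Coprime 2 3).pow_right (k + 1)).gcd_eq_one, pow_one, mul_inv_eq_one] at hxu1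
    obtain ⟨v, hv⟩ := (C.mem u).1 hu
    have hv0 := A_cent_R_trivial U C (v := v) fun s hs => by
      rw [hv, ← hxu1]; exact mem_centralizer_iff.1 hxK s hs
    refine hx1 (Subtype.ext ?_)
    show (1 : G) = x
    rw [hxu1, ← hv, hv0, Coord.psi_zero C]
  refine le_antisymm (fun x hx => ?_) (zpowers_le.2 ?_)
  · have hxR := hsig K hKr h3 hAK hx
    have hmem : x ∈ (center ↥R).map R.subtype :=
      ⟨⟨x, hxR⟩, mem_center_iff.2 fun s => Subtype.ext (mem_centralizer_iff.1 hx _ s.2), rfl⟩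
    rw [hR, Ra.centre] at hmem
    exact hmem
  · exact mem_centralizer_iff.2 fun s hs => mem_centralizer_singleton_iff.1 (Ra.le hs)

end Cfsg.Agent.UThreeLocal.Big.Local
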