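import Cfsg.Agent.Lib.UThreeLocal.Big.Local.Base
import Cfsg.Agent.Lib.UThreeLocal.Loc.Char

/-!
# An inverter of `z` commuting with `r` in the big case

If no element of `N(Z)` centralising `t₂` inverts `z`, an element of `P` outside `Q` is centralised by `N(Z)`
modulo `Q(L₁ × L₂)`.
-/

set_option autoImplicit false
set_option linter.unusedSectionVars false
set_option linter.style.haveILetI false

namespace Cfsg.Agent.UThreeLocal.Big.Local

open Subgroup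
open scoped commutatorElement
open Cfsg.Agent.UThreeLocal.Cand (zp_cases exists_sl_action)

universe u

variable {G : Type u} [Group G] [Finite G] {Z Q Q1 Q2 L1 L2 P : Subgroup G} {t1 t2 z y g d a : G}

/-- The fixed points of `t₂` in `Q`. -/
theorem Fx_t2_eq (F : Frame Z Q Q1 Q2 L1 L2 t1 t2) : Fx Q t2 = Q1 := by
  have ht : ∀ x ∈ Q1, t2 * x = x * t2 := fun x hx =>
    (mem_centralizer_iff.1 (F.L2_cent F.t2_mem) x hx).symm
  refine le_antisymm (fun x hx => ?_) fun x hx => mem_Fx.2 ⟨F.pair.le1 hx, by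
    rw [ht x hx, mul_inv_cancel_right]⟩
  obtain ⟨hxQ, hxt⟩ := mem_Fx.1 hx
  obtain ⟨u, hu, v, hv, rfl⟩ := F.pair.dec x hxQ
  have hvt : t2 * v * t2⁻¹ = v := by
    rw [show t2 * (u * v) * t2⁻¹ = (t2 * u * t2⁻¹) * (t2 * v * t2⁻¹) by group, ht u hu,
      mul_inv_cancel_right] at hxt
    exact mul_left_cancel hxt
  have h1 := F.t2_inv v hv
  rw [hvt] at h1
  refine mul_mem hu (F.pair.Z1 ?_)
  rw [show v = v ^ 3 * (v * v)⁻¹ by rw [pow_succ, pow_two]; group, F.cube v (F.pair.le2 hv), one_mul]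
  exact inv_mem h1

/-- An element of `N(Z)` moving `t₂` to `s` moves `Fx Q t₂` into `Fx Q s`. -/
theorem conj_fix (F : Frame Z Q Q1 Q2 L1 L2 t1 t2) {m s : G} (hm : m ∈ normalizer (Z : Set G))
    (hs : m * t2 * m⁻¹ = s) {x : G} (hx : x ∈ Q1) : m * x * m⁻¹ ∈ Fx Q s := by
  rw [← Fx_t2_eq F] at hx
  obtain ⟨hxQ, hxt⟩ := mem_Fx.1 hx
  refine mem_Fx.2 ⟨(mem_normalizer_iff.1 (F.normalizer_le_normalizer_Q hm) x).1 hxQ, ?_⟩
  calc s * (m * x * m⁻¹) * s⁻¹ = m * (t2 * x * t2⁻¹) * m⁻¹ := by rw [← hs]; group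
    _ = _ := by rw [hxt]

/-- An involution of `Q(L₁ × L₂)` is conjugate under `Q` to one of the three of `L₁ × L₂`. -/
theorem involution_cases (F : Frame Z Q Q1 Q2 L1 L2 t1 t2) {t : G} (ht : t ∈ Q ⊔ (L1 ⊔ L2)) (h2 : t * t = 1)
    (hne : t ≠ 1) : ∃ q ∈ Q, q * t * q⁻¹ = t1 ∨ q * t * q⁻¹ = t2 ∨ q * t * q⁻¹ = t1 * t2 := by
  obtain ⟨q, hq, a, ha, b, hb, rfl⟩ := F.mem_QL_dec ht
  have hab : Commute a b := F.L_comm a ha b hb
  have hlN : a * b ∈ normalizer (Q : Set G) := F.set.Q_norm (mul_mem (F.L1_le ha) (F.L2_le hb))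
  have hlq : a * b * q * (a * b)⁻¹ ∈ Q := (mem_normalizer_iff.1 hlN q).1 hq
  have hl2 : a * b * (a * b) = 1 := by
    have hm : a * b * (a * b) ∈ Q := by
      rw [show a * b * (a * b) = (q * (a * b * q * (a * b)⁻¹))⁻¹ * (q * (a * b) * (q * (a * b))) by group, h2,
        mul_one]
      exact inv_mem (mul_mem hq hlq)
    have h8 : (a * b) ^ 8 = 1 := by rw [hab.mul_pow, F.L1_pow ha, F.symm.L1_pow hb, one_mul]
    have h88 : (a * b * (a * b)) ^ 8 = 1 := by rw [← pow_two, ← pow_mul, mul_comm, pow_mul, h8, one_pow]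
    have := pow_gcd_eq_one.2 ⟨F.cube _ hm, h88⟩
    rwa [show Nat.gcd 3 8 = 1 from rfl, pow_one] at this
  have haa : a * a = (b * b)⁻¹ := by
    refine eq_inv_of_mul_eq_one_left ?_
    calc a * a * (b * b) = a * (a * b) * b := by group
      _ = a * (b * a) * b := by rw [← hab.eq]
      _ = a * b * (a * b) := by group
      _ = 1 := hl2
  have haa1 : a * a = 1 := F.eq_one_of_cent1 (mul_mem ha ha) (haa ▸ F.L2_cent (inv_mem (mul_mem hb hb)))
  have hbb1 : b * b = 1 := by rw [haa1] at haa; exact inv_eq_one.1 haa.symm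
  have hconj : q * (q * (a * b)) * q⁻¹ = a * b := by
    have h3 := F.cube q hq
    have e : q * (q * (a * b)) = q * q * (a * b) := by group
    have hinv : a * b * q⁻¹ = q * (a * b) := by
      calc a * b * q⁻¹ = (a * b)⁻¹ * q⁻¹ := by rw [inv_eq_of_mul_eq_one_right hl2]
        _ = _ := by rw [← mul_inv_rev, inv_eq_of_mul_eq_one_right h2]
    calc q * (q * (a * b)) * q⁻¹ = q * q * (a * b * q⁻¹) := by group
      _ = q * q * q * (a * b) := by rw [hinv]; group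
      _ = a * b := by rw [← pow_two, ← pow_succ, h3, one_mul]
  refine ⟨q, hq, ?_⟩
  rw [hconj]
  rcases F.eq_t1 ha haa1 with rfl | rfl <;> rcases F.symm.eq_t1 hb hbb1 with rfl | rfl
  · exfalso
    rw [one_mul, mul_one] at h2 hne
    have := F.cube q hq
    rw [pow_succ, pow_two, h2, one_mul] at this
    exact hne this
  · exact Or.inr (Or.inl (one_mul _))
  · exact Or.inl (mul_one _)
  · exact Or.inr (Or.inr rfl)

/-- `t₁ t₂` fixes only `Z` in `Q`. -/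
theorem fix_both (F : Frame Z Q Q1 Q2 L1 L2 t1 t2) {x : G} (hx : x ∈ Fx Q (t1 * t2)) : x ∈ Z := by
  have h := F.set
  obtain ⟨hxQ, hxe⟩ := mem_Fx.1 hx
  obtain ⟨u, hu, v, hv, rfl⟩ := F.pair.dec x hxQ
  have h1 := F.t1_inv u hu
  have h2 := F.t2_inv v hv
  have e1 : t1 * t2 * u * (t1 * t2)⁻¹ = t1 * u * t1⁻¹ := by
    rw [show t1 * t2 * u * (t1 * t2)⁻¹ = t1 * (t2 * u * t2⁻¹) * t1⁻¹ by group,
      ← mem_centralizer_iff.1 (F.L2_cent F.t2_mem) u hu, mul_inv_cancel_right]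
  have hv' : t2 * v * t2⁻¹ ∈ Q2 := (mem_normalizer_iff.1 (F.L2_norm F.t2_mem) v).1 hv
  have e2 : t1 * t2 * v * (t1 * t2)⁻¹ = t2 * v * t2⁻¹ := by
    rw [show t1 * t2 * v * (t1 * t2)⁻¹ = t1 * (t2 * v * t2⁻¹) * t1⁻¹ by group,
      ← mem_centralizer_iff.1 (F.L1_cent F.t1_mem) _ hv', mul_inv_cancel_right]
  obtain ⟨c1, hc1⟩ : ∃ c, c = t1 * u * t1⁻¹ * u := ⟨_, rfl⟩
  obtain ⟨c2, hc2⟩ : ∃ c, c = t2 * v * t2⁻¹ * v := ⟨_, rfl⟩
  rw [← hc1] at h1
  rw [← hc2] at h2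
  have e3 : u * v = c1 * u⁻¹ * (c2 * v⁻¹) := by
    calc u * v = t1 * t2 * (u * v) * (t1 * t2)⁻¹ := hxe.symm
      _ = (t1 * t2 * u * (t1 * t2)⁻¹) * (t1 * t2 * v * (t1 * t2)⁻¹) := by group
      _ = _ := by rw [e1, e2, hc1, hc2]; group
  have hc : ∀ w ∈ Q, ∀ c ∈ Z, w * c = c * w := fun w hw c hc => (h.comm_Z hw hc).symm
  have huv : u * u = c1 * c2 * (v * v)⁻¹ := by
    calc u * u = u * (u * v) * v⁻¹ := by group
      _ = (u * c1) * u⁻¹ * c2 * (v * v)⁻¹ := by rw [e3]; group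
      _ = _ := by rw [hc u (F.pair.le1 hu) c1 h1]; group
  have huu : u * u ∈ Z := F.not_swap_both (mul_mem hu hu)
    (by rw [huv]; exact mul_mem (F.pair.Z2 (mul_mem h1 h2)) (inv_mem (mul_mem hv hv)))
  have hvv : v * v ∈ Z := by
    rw [show v * v = (u * u)⁻¹ * (c1 * c2) by rw [huv, mul_inv_rev, inv_inv, inv_mul_cancel_right]]
    exact mul_mem (inv_mem huu) (mul_mem h1 h2)
  have key : ∀ w ∈ Q, w * w ∈ Z → w ∈ Z := fun w hw hww => by
    rw [show w = w ^ 3 * (w * w)⁻¹ by rw [pow_succ, pow_two]; group, F.cube w hw, one_mul]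
    exact inv_mem hww
  exact mul_mem (key u (F.pair.le1 hu) huu) (key v (F.pair.le2 hv) hvv)

/-- An element of `N(Z)` moves `t₂` to `t₂` or `t₁`, up to `Q`. -/
theorem exists_correction (F : Frame Z Q Q1 Q2 L1 L2 t1 t2) {m : G} (hm : m ∈ normalizer (Z : Set G)) :
    ∃ q ∈ Q, q * m * t2 * (q * m)⁻¹ = t2 ∨ q * m * t2 * (q * m)⁻¹ = t1 := by
  have hQN : Q ≤ normalizer (Z : Set G) := F.set.Q_le.trans (Subgroup.centralizer_le_normalizer _)
  have ht : m * t2 * m⁻¹ ∈ Q ⊔ (L1 ⊔ L2) :=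
    (mem_normalizer_iff.1 (F.normalizer_le_normalizer_QL hm) t2).1 (mem_sup_right (mem_sup_right F.t2_mem))
  have h22 : t2 * t2 = 1 := F.symm.t1_sq
  have hne : m * t2 * m⁻¹ ≠ 1 := fun e => by
    have := F.t2_two
    rw [conj_eq_one_iff.1 e, orderOf_one] at this
    omega
  obtain ⟨q, hq, hc⟩ := involution_cases F ht
    (by rw [show m * t2 * m⁻¹ * (m * t2 * m⁻¹) = m * (t2 * t2) * m⁻¹ by group, h22, mul_one, mul_inv_cancel])
    hne
  refine ⟨q, hq, ?_⟩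
  rw [show q * m * t2 * (q * m)⁻¹ = q * (m * t2 * m⁻¹) * q⁻¹ by group]
  rcases hc with e | e | e
  · exact Or.inr e
  · exact Or.inl e
  exfalso
  have hn := mul_mem (hQN hq) hm
  have hle : Q1 ≤ Z := fun x hx => by
    have h1 := fix_both F (conj_fix F hn (s := t1 * t2) (by rw [← e]; group) hx)
    exact (mem_normalizer_iff.1 hn x).2 h1
  have := Subgroup.card_le_of_le hle
  rw [F.pair.card1, F.set.Z_card] at this
  omega

/-- The elements of `C(Z)` normalising both factors form `P Q(L₁ × L₂)`. -/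
theorem both_norm_le (D : BigData Z Q Q1 Q2 L1 L2 P t1 t2 z y g d a) :
    centralizer (Z : Set G) ⊓ normalizer (Q1 : Set G) ⊓ normalizer (Q2 : Set G) ≤
      (Q ⊔ (L1 ⊔ L2)) ⊔ P := by
  haveI : Fact (Nat.Prime 3) := ⟨Nat.prime_three⟩
  have F := D.frame
  set C0 := centralizer (Z : Set G) ⊓ normalizer (Q1 : Set G) ⊓ normalizer (Q2 : Set G) with hC0
  set K := Q ⊔ (L1 ⊔ L2) with hK
  have hKC : K ≤ C0 := le_inf (le_inf F.QL_le F.QL_norm1) (by
    have := F.symm.QL_norm1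
    rwa [sup_comm L2 L1] at this)
  have hPC : P ≤ C0 := fun x hx => by
    obtain ⟨k, hk⟩ := D.P_pgroup ⟨x, hx⟩
    obtain ⟨h1, h2⟩ := F.normal_of_three (D.P_le hx) (k := k) (by simpa using congrArg Subtype.val hk)
    exact mem_inf.2 ⟨mem_inf.2 ⟨D.P_le hx, mem_normalizer_iff.2 h1⟩, mem_normalizer_iff.2 h2⟩
  haveI hKn : (K.subgroupOf C0).Normal :=
    normal_subgroupOf_of_le_normalizer ((inf_le_left.trans inf_le_left).trans F.norm_L)
  set N := K.subgroupOf C0 with hN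
  obtain ⟨S, hS⟩ := (D.P_pgroup.of_equiv (subgroupOfEquivOfLe hPC).symm).exists_le_sylow
  have hSeq : P.subgroupOf C0 = (S : Subgroup ↥C0) := by
    refine Subgroup.eq_of_le_of_card_ge hS ?_
    have h1 := F.card_three_le (S.2.map C0.subtype) ((map_subtype_le _).trans (inf_le_left.trans inf_le_left))
    rw [card_map_of_injective C0.subtype_injective] at h1
    rw [Nat.card_congr (subgroupOfEquivOfLe hPC).toEquiv, D.P_card]
    exact Nat.le_of_dvd (by norm_num) h1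
  have hq3 : IsPGroup 3 (↥C0 ⧸ N) := fun x => by
    obtain ⟨⟨c, hc⟩, rfl⟩ := QuotientGroup.mk'_surjective N x
    obtain ⟨⟨hcC, hc1⟩, hc2⟩ := hc
    refine ⟨1, ?_⟩
    rw [pow_one, ← map_pow]
    refine (QuotientGroup.eq_one_iff _).2 (mem_subgroupOf.2 ?_)
    exact F.cube_mem_QL hcC (fun x hx => (mem_normalizer_iff.1 hc1 x).1 hx)
      (fun x hx => (mem_normalizer_iff.1 hc2 x).1 hx)
  obtain ⟨k, hk⟩ := IsPGroup.iff_card.1 hq3
  have htop : N ⊔ (S : Subgroup ↥C0) = ⊤ := by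
    rw [← index_eq_one]
    have h1 : (N ⊔ (S : Subgroup ↥C0)).index ∣ 3 ^ k := hk ▸ index_eq_card N ▸ index_dvd_of_le le_sup_left
    have h2 : (N ⊔ (S : Subgroup ↥C0)).index ∣ (S : Subgroup ↥C0).index := index_dvd_of_le le_sup_right
    have hcop : Nat.Coprime (3 ^ k) (S : Subgroup ↥C0).index :=
      Nat.Coprime.pow_left k ((Nat.prime_three.coprime_iff_not_dvd).2 S.not_dvd_index)
    exact Nat.dvd_one.1 (hcop.gcd_eq_one ▸ Nat.dvd_gcd h1 h2)
  intro x hx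
  have h1 : (⟨x, hx⟩ : ↥C0) ∈ N ⊔ P.subgroupOf C0 := by rw [hSeq, htop]; exact mem_top _
  have h2 := mem_map_of_mem C0.subtype h1
  rw [Subgroup.map_sup, hN, map_subgroupOf_eq_of_le hKC, map_subgroupOf_eq_of_le hPC] at h2
  exact h2

/-- An element of `N(Z)` commuting with `t₂` and `z` normalises both factors. -/
theorem both_norm_of_comm (D : BigData Z Q Q1 Q2 L1 L2 P t1 t2 z y g d a) {m : G}
    (hm : m ∈ normalizer (Z : Set G)) (ht : m * t2 = t2 * m) (hz : m * z = z * m) :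
    m ∈ centralizer (Z : Set G) ⊓ normalizer (Q1 : Set G) ⊓ normalizer (Q2 : Set G) := by
  have F := D.frame
  have hC := D.mem_CZ hz
  have h1 : ∀ x ∈ Q1, m * x * m⁻¹ ∈ Q1 := fun x hx => by
    have := conj_fix F hm (s := t2) (by rw [ht, mul_inv_cancel_right]) hx
    rwa [Fx_t2_eq F] at this
  rcases F.perm m hC with ⟨p1, p2⟩ | ⟨p1, -⟩
  · exact mem_inf.2 ⟨mem_inf.2 ⟨hC, mem_normalizer_iff.2 p1⟩, mem_normalizer_iff.2 p2⟩
  · exfalso
    have hle : Q1 ≤ Z := fun x hx => by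
      have := F.not_swap_both (h1 x hx) ((p1 x).1 hx)
      exact (mem_normalizer_iff.1 hm x).2 this
    have := Subgroup.card_le_of_le hle
    rw [F.pair.card1, F.set.Z_card] at this
    omega

/-- THEOREM: the inverter. -/
theorem exists_inverter (D : BigData Z Q Q1 Q2 L1 L2 P t1 t2 z y g d a)
    (hout : ∀ c ∈ P, (∀ m ∈ normalizer (Z : Set G), ⁅m, c⁆ ∈ Q ⊔ (L1 ⊔ L2)) → c ∈ Q) :
    ∃ g' ∈ normalizer (Z : Set G), g' * t2 = t2 * g' ∧ g' * z * g'⁻¹ = z⁻¹ := by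
  classical
  haveI : Fact (Nat.Prime 3) := ⟨Nat.prime_three⟩
  by_contra hno
  push Not at hno
  have F := D.frame
  have h := D.set
  set NZ := normalizer (Z : Set G) with hNZ
  set K := Q ⊔ (L1 ⊔ L2) with hK
  set C0 := centralizer (Z : Set G) ⊓ normalizer (Q1 : Set G) ⊓ normalizer (Q2 : Set G) with hC0
  have hQN : Q ≤ NZ := h.Q_le.trans (Subgroup.centralizer_le_normalizer _)
  have hPN : P ≤ NZ := D.P_le.trans (Subgroup.centralizer_le_normalizer _)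
  have hC0N : C0 ≤ NZ := (inf_le_left.trans inf_le_left).trans (Subgroup.centralizer_le_normalizer _)
  have hKn : NZ ≤ normalizer (K : Set G) := F.normalizer_le_normalizer_QL
  have hQC0 : Q ≤ C0 := fun x hx => mem_inf.2 ⟨mem_inf.2 ⟨h.Q_le hx, h.normal_of_Z_le F.pair.le1 F.pair.Z1 hx⟩,
    h.normal_of_Z_le F.pair.le2 F.pair.Z2 hx⟩
  have hfix : ∀ m ∈ NZ, m * t2 = t2 * m → m ∈ C0 := fun m hm ht => by
    refine both_norm_of_comm D hm ht ?_
    rcases zp_cases h.Z_card D.z_mem D.z_ne ((mem_normalizer_iff.1 hm z).1 D.z_mem) with e | e | e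
    · exact absurd (conj_eq_one_iff.1 e) D.z_ne
    · exact mul_inv_eq_iff_eq_mul.1 e
    · exact absurd e (hno m hm ht)
  have hcomm : ∀ m ∈ C0, ∀ c ∈ P, ⁅m, c⁆ ∈ K := by
    intro m hm c hc
    have hm' := both_norm_le D hm
    rw [← SetLike.mem_coe, Subgroup.coe_mul_of_right_le_normalizer_left _ _ (hPN.trans hKn), Set.mem_mul] at hm'
    obtain ⟨k, hk, p, hp, rfl⟩ := hm'
    rw [show ⁅k * p, c⁆ = k * (⁅p, c⁆ * (c * k⁻¹ * c⁻¹)) by simp only [commutatorElement_def]; group]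
    exact mul_mem hk (mul_mem (mem_sup_left (F.comm_mem_Q D.P_pgroup D.P_le hp hc))
      ((mem_normalizer_iff.1 (hKn (hPN hc)) _).1 (inv_mem hk)))
  obtain ⟨χ, hχ⟩ := F.exists_char D.P_pgroup D.P_le
  obtain ⟨θ, hθ⟩ := F.symm.exists_char D.P_pgroup D.P_le
  by_cases hall : ∀ m ∈ NZ, m ∈ C0
  · have hle : P ≤ Q := fun c hc => hout c hc fun m hm => hcomm m (hall m hm) c hc
    have := Subgroup.card_le_of_le hle
    rw [D.P_card, h.Q_card] at this
    omega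
  push Not at hall
  obtain ⟨m0, hm0, hm0C⟩ := hall
  obtain ⟨q0, hq0, hcase⟩ := exists_correction F hm0
  set s := q0 * m0 with hs
  have hsN : s ∈ NZ := mul_mem (hQN hq0) hm0
  have hst : s * t2 * s⁻¹ = t1 := hcase.resolve_left fun e =>
    hm0C ((mul_mem_cancel_left (hQC0 hq0)).1 (hfix s hsN (mul_inv_eq_iff_eq_mul.1 e)))
  clear_value s
  clear hs hcase
  have hQ12 : ∀ x ∈ Q1, s * x * s⁻¹ ∈ Q2 := fun x hx => by
    have := conj_fix F hsN hst hx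
    rwa [Fx_t2_eq F.symm] at this
  have hsC : s ∉ C0 := fun hs' => by
    have hle : Q1 ≤ Z := fun x hx => (mem_normalizer_iff.1 hsN x).2
      (F.not_swap_both ((mem_normalizer_iff.1 (mem_inf.1 (mem_inf.1 hs').1).2 x).1 hx) (hQ12 x hx))
    have := Subgroup.card_le_of_le hle
    rw [F.pair.card1, h.Z_card] at this
    omega
  -- two cosets
  have hcos : ∀ m ∈ NZ, m ∈ C0 ∨ ∃ q ∈ Q, ∃ c ∈ C0, m = q * s * c := by
    intro m hm
    obtain ⟨q, hq, e | e⟩ := exists_correction F hm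
    · exact Or.inl ((mul_mem_cancel_left (hQC0 hq)).1 (hfix _ (mul_mem (hQN hq) hm) (mul_inv_eq_iff_eq_mul.1 e)))
    · refine Or.inr ⟨q⁻¹, inv_mem hq, s⁻¹ * (q * m),
        hfix _ (mul_mem (inv_mem hsN) (mul_mem (hQN hq) hm)) ?_, by group⟩
      calc s⁻¹ * (q * m) * t2 = s⁻¹ * (q * m * t2 * (q * m)⁻¹) * (q * m) := by group
        _ = s⁻¹ * (s * t2 * s⁻¹) * (q * m) := by rw [e, hst]
        _ = _ := by group
  have hQs : ∀ q ∈ Q, s⁻¹ * q * s ∈ C0 := fun q hq => hQC0 (by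
    have := (mem_normalizer_iff.1 (F.normalizer_le_normalizer_Q (inv_mem hsN)) q).1 hq
    rwa [inv_inv] at this)
  have hs2 : s * s ∈ C0 := by
    refine (hcos _ (mul_mem hsN hsN)).resolve_right fun ⟨q, hq, c, hc, e⟩ => hsC ?_
    rw [show s = s⁻¹ * (s * s) by group, e, show s⁻¹ * (q * s * c) = (s⁻¹ * q * s) * c by group]
    exact mul_mem (hQs q hq) hc
  have hconj : ∀ c ∈ C0, s * c * s⁻¹ ∈ C0 := by
    intro c hc
    refine (hcos _ (mul_mem (mul_mem hsN (hC0N hc)) (inv_mem hsN))).resolve_right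
      fun ⟨q, hq, c', hc', e⟩ => hsC (inv_mem_iff.1 ?_)
    rw [show s⁻¹ = c⁻¹ * (s⁻¹ * (s * c * s⁻¹)) by group, e,
      show s⁻¹ * (q * s * c') = (s⁻¹ * q * s) * c' by group]
    exact mul_mem (inv_mem hc) (mul_mem (hQs q hq) hc')
  -- an element of `P` trivial on the first factor only
  obtain ⟨c0, hc0, hc01, hc02⟩ : ∃ c ∈ P, Triv Z Q1 c ∧ ¬ Triv Z Q2 c := by
    by_contra hn
    push Not at hn
    have hle : χ.ker.map P.subtype ≤ Q := by
      rintro _ ⟨x, hx, rfl⟩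
      have h1 := (hχ x).1 hx
      exact F.mem_Q_of_triv (D.P_le x.2) h1 (hn x x.2 h1)
    have h1 := Subgroup.card_le_of_le hle
    rw [card_map_of_injective P.subtype_injective, h.Q_card] at h1
    have h2 := χ.ker.card_mul_index
    rw [D.P_card, index_ker] at h2
    have h3 : Nat.card ↥χ.range ≤ 3 :=
      le_trans (Subgroup.card_le_card_group _) (le_of_eq (by simp))
    nlinarith
  have hPC0 : P ≤ C0 := fun x hx => by
    obtain ⟨k, hk⟩ := D.P_pgroup ⟨x, hx⟩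
    obtain ⟨h1, h2⟩ := F.normal_of_three (D.P_le hx) (k := k) (by simpa using congrArg Subtype.val hk)
    exact mem_inf.2 ⟨mem_inf.2 ⟨D.P_le hx, mem_normalizer_iff.2 h1⟩, mem_normalizer_iff.2 h2⟩
  have hc1 := both_norm_le D (hconj c0 (hPC0 hc0))
  rw [← SetLike.mem_coe, Subgroup.coe_mul_of_right_le_normalizer_left _ _ (hPN.trans hKn), Set.mem_mul] at hc1
  obtain ⟨k, hk, p, hp, ek⟩ := hc1
  -- `c0 p` is centralised modulo `K`
  have hsc : ⁅s, c0 * p⁆ ∈ K := by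
    have hk1 : s * k⁻¹ * s⁻¹ ∈ K := (mem_normalizer_iff.1 (hKn hsN) _).1 (inv_mem hk)
    have hk2 : ⁅s * s, c0⁆ ∈ K := hcomm _ hs2 c0 hc0
    have hp' : p = k⁻¹ * (s * c0 * s⁻¹) := by rw [← ek]; group
    have e : ⁅s, c0 * p⁆ = k * ((p * ((s * k⁻¹ * s⁻¹) * ⁅s * s, c0⁆) * p⁻¹) * ⁅p, c0⁆) := by
      have e1 : s * p * s⁻¹ = (s * k⁻¹ * s⁻¹) * ⁅s * s, c0⁆ * c0 := by
        rw [hp', commutatorElement_def]; group
      calc ⁅s, c0 * p⁆ = (s * c0 * s⁻¹) * (s * p * s⁻¹) * p⁻¹ * c0⁻¹ := by rw [commutatorElement_def]; group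
        _ = k * p * ((s * k⁻¹ * s⁻¹) * ⁅s * s, c0⁆ * c0) * p⁻¹ * c0⁻¹ := by rw [e1, ← ek]
        _ = _ := by rw [commutatorElement_def p c0]; group
    rw [e]
    exact mul_mem hk (mul_mem ((mem_normalizer_iff.1 (hKn (hPN hp)) _).1 (mul_mem hk1 hk2))
      (mem_sup_left (F.comm_mem_Q D.P_pgroup D.P_le hp hc0)))
  have hcQ : c0 * p ∈ Q := hout _ (mul_mem hc0 hp) fun m hm => by
    rcases hcos m hm with hm' | ⟨q, hq, c, hc, rfl⟩
    · exact hcomm m hm' _ (mul_mem hc0 hp)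
    · have hcP := mul_mem hc0 hp
      rw [show ⁅q * s * c, c0 * p⁆ =
        q * (s * ⁅c, c0 * p⁆ * s⁻¹) * ⁅s, c0 * p⁆ * ((c0 * p) * q⁻¹ * (c0 * p)⁻¹) by
          simp only [commutatorElement_def]; group]
      exact mul_mem (mul_mem (mul_mem (mem_sup_left hq)
        ((mem_normalizer_iff.1 (hKn hsN) _).1 (hcomm c hc _ hcP))) hsc)
        ((mem_normalizer_iff.1 (hKn (hPN hcP)) _).1 (inv_mem (mem_sup_left hq)))
  -- compare on the second factor
  have hc1T : Triv Z Q2 (s * c0 * s⁻¹) := by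
    intro u hu
    obtain ⟨x, hx, rfl⟩ : ∃ x ∈ Q1, s * x * s⁻¹ = u := by
      have hcj : cj s Q1 = Q2 := Subgroup.eq_of_le_of_card_ge
        (fun w hw => by
          have := hQ12 _ (mem_cj.1 hw)
          rwa [show s * (s⁻¹ * w * s) * s⁻¹ = w by group] at this)
        (by rw [card_cj, F.pair.card1, F.pair.card2])
      rw [← hcj] at hu
      exact ⟨_, mem_cj.1 hu, by group⟩
    rw [show (s * x * s⁻¹)⁻¹ * (s * c0 * s⁻¹ * (s * x * s⁻¹) * (s * c0 * s⁻¹)⁻¹) =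
      s * (x⁻¹ * (c0 * x * c0⁻¹)) * s⁻¹ by group]
    exact (mem_normalizer_iff.1 hsN _).1 (hc01 x hx)
  have hC0' : C0 ≤ centralizer (Z : Set G) ⊓ normalizer (Q2 : Set G) := fun x hx =>
    mem_inf.2 ⟨(mem_inf.1 (mem_inf.1 hx).1).1, (mem_inf.1 hx).2⟩
  set C' := centralizer (Z : Set G) ⊓ normalizer (Q2 : Set G) with hC'
  obtain ⟨π, hπ⟩ := exists_sl_action F D.z_mem D.z_ne (K := C') inf_le_left inf_le_right
  have hQtriv : ∀ (x : G) (hx : x ∈ Q), π ⟨x, hC0' (hQC0 hx)⟩ = 1 := fun x hx =>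
    (hπ _).2 (F.triv_Q hx F.pair.le2)
  obtain ⟨qk, hqk, l1, hl1, l2, hl2, ekl⟩ := F.mem_QL_dec hk
  have hl1C : l1 ∈ C' := mem_inf.2 ⟨F.L1_le hl1, Subgroup.centralizer_le_normalizer _ (F.L1_cent hl1)⟩
  have hl2C : l2 ∈ C' := mem_inf.2 ⟨F.L2_le hl2, F.L2_norm hl2⟩
  have hl1T : π ⟨l1, hl1C⟩ = 1 := (hπ _).2 fun u hu => by
    rw [← mem_centralizer_iff.1 (F.L1_cent hl1) u hu, mul_inv_cancel_right, inv_mul_cancel]
    exact one_mem _
  set q := c0 * p with hq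
  have he : (⟨s * c0 * s⁻¹, hC0' (hconj c0 (hPC0 hc0))⟩ : ↥C') =
      ⟨qk, hC0' (hQC0 hqk)⟩ * (⟨l1, hl1C⟩ * ⟨l2, hl2C⟩) * (⟨c0, hC0' (hPC0 hc0)⟩)⁻¹ *
        ⟨q, hC0' (hQC0 hcQ)⟩ := Subtype.ext (by
    show s * c0 * s⁻¹ = qk * (l1 * l2) * c0⁻¹ * q
    rw [← ek, ekl, hq]; group)
  have hπe := congrArg π he
  rw [map_mul, map_mul, map_mul, map_mul, map_inv, hQtriv q hcQ, hQtriv qk hqk, hl1T, (hπ _).2 hc1T, mul_one,
    one_mul, one_mul] at hπe
  have hπc : π ⟨c0, hC0' (hPC0 hc0)⟩ = π ⟨l2, hl2C⟩ := (mul_inv_eq_one.1 hπe.symm).symm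
  have h8 : π ⟨c0, hC0' (hPC0 hc0)⟩ ^ 8 = 1 := by
    rw [hπc, ← map_pow, show (⟨l2, hl2C⟩ : ↥C') ^ 8 = 1 from Subtype.ext (F.symm.L1_pow hl2), map_one]
  have h3 : π ⟨c0, hC0' (hPC0 hc0)⟩ ^ 3 = 1 := by
    rw [← map_pow]
    refine (hπ _).2 ?_
    have := (hθ (⟨c0, hc0⟩ ^ 3)).1 (by
      rw [map_pow]; exact mult_facts.1 _)
    simpa using this
  have h1 := pow_gcd_eq_one.2 ⟨h8, h3⟩
  rw [show Nat.gcd 8 3 = 1 from rfl, pow_one] at h1
  exact hc02 ((hπ _).1 h1)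

end Cfsg.Agent.UThreeLocal.Big.Local
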