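import Cfsg.Agent.Lib.UThreeLocal.Big.Local.Interface
import Cfsg.Agent.Lib.UThreeLocal.Big.Local.Inverter

/-!
# The centralizer of `z` in `C(r)` and the action of `L₁` on the sum-one vector

`cent_z`: `C(Z) ∩ C(r) = Q₁ L₁ L₂ A`, since `P = Q A` and `C(Z) ∩ N(Q₁) ∩ N(Q₂) = Q (L₁ × L₂) P`.
`L1_sg`: `ψ sg = ψ e₀ * z` with `e₀` centralising `Q₁`, so `[l, e₀]` lies in `Z` and has order dividing `(3, 8)`.
-/

set_option autoImplicit false
set_option linter.unusedSectionVars false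
set_option linter.style.haveILetI false

namespace Cfsg.Agent.UThreeLocal.Big.Local

open Subgroup

universe u

variable {G : Type u} [Group G] [Finite G] {Z Q Q1 Q2 L1 L2 P W : Subgroup G} {t1 t2 z y g d a n b : G}
  {ψ : Ex → G}

/-- `P` lies in `Q A`. -/
theorem P_le_QA (D : BigData Z Q Q1 Q2 L1 L2 P t1 t2 z y g d a) : P ≤ Q ⊔ AA P y t2 := by
  have F := D.frame
  have h := F.set
  have hinf : Q ⊓ AA P y t2 ≤ Q1 := fun x hx => by
    rw [← Fx_t2_eq F]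
    refine mem_Fx.2 ⟨hx.1, ?_⟩
    rw [← D.A_t2 hx.2, mul_inv_cancel_right]
  have hne : Nat.card ↥(Q ⊓ AA P y t2 : Subgroup G) ≠ 27 := by
    intro e
    have hQ1 := (Subgroup.eq_of_le_of_card_ge hinf (by rw [F.pair.card1, e])).ge
    refine D.nontriv.1 fun x hx => ?_
    have hxA : x ∈ AA P y t2 := (hQ1 hx).2
    rw [D.A_comm D.y_A hxA, mul_inv_cancel_right, inv_mul_cancel]
    exact one_mem _
  have h9 : Nat.card ↥(Q ⊓ AA P y t2 : Subgroup G) ≤ 9 := by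
    obtain ⟨k, hk, ek⟩ := (Nat.dvd_prime_pow Nat.prime_three).1
      (show _ ∣ 3 ^ 3 from (F.pair.card1 ▸ card_dvd_of_le hinf :
        Nat.card ↥(Q ⊓ AA P y t2 : Subgroup G) ∣ 27))
    rw [ek] at hne ⊢
    interval_cases k <;> norm_num at *
  have hc := card_sup_mul_inf (A := Q) (B := AA P y t2) (D.A_le_C.trans h.Q_norm)
  rw [h.Q_card, D.card_A] at hc
  refine (Subgroup.eq_of_le_of_card_ge (sup_le D.Q_le_P D.A_le_P) ?_).ge
  rw [D.P_card]
  nlinarith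

/-- THEOREM: `C(Z) ∩ C(r)`. -/
theorem cent_z (U : Duo Z Q Q1 Q2 L1 L2 P W t1 t2 z y g d a n) :
    ∀ k ∈ centralizer (Z : Set G) ⊓ centralizer ({t2} : Set G),
      ∃ q ∈ Q1, ∃ l ∈ L1, ∃ m ∈ L2, ∃ x ∈ AA P y t2, k = q * l * m * x := by
  have D := U.data
  have F := D.frame
  intro k hk
  obtain ⟨hkC, hkr⟩ := mem_inf.1 hk
  have hkt : k * t2 = t2 * k := mem_centralizer_singleton_iff.1 hkr
  have hkP := both_norm_le D
    (both_norm_of_comm D (Subgroup.centralizer_le_normalizer _ hkC) hkt (D.z_cent hkC))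
  have hle : (Q ⊔ (L1 ⊔ L2)) ⊔ P ≤ (Q ⊔ (L1 ⊔ L2)) ⊔ AA P y t2 :=
    sup_le le_sup_left ((P_le_QA D).trans (sup_le (le_sup_of_le_left le_sup_left) le_sup_right))
  have h1 := hle hkP
  rw [← SetLike.mem_coe, Subgroup.coe_mul_of_right_le_normalizer_left _ _ (D.A_le_C.trans F.norm_L),
    Set.mem_mul] at h1
  obtain ⟨c, hc, x, hx, rfl⟩ := h1
  obtain ⟨q, hq, l, hl, m, hm, rfl⟩ := F.mem_QL_dec hc
  have hlt : Commute l t2 := F.L_comm l hl t2 F.t2_mem
  have hmt : Commute m t2 := (F.t2_comm m hm).symm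
  have hxt : Commute x t2 := D.A_t2 hx
  have hqt : Commute q t2 := by
    have h2 : Commute (q * (l * m) * x * (x⁻¹ * (l * m)⁻¹)) t2 :=
      (show Commute (q * (l * m) * x) t2 from hkt).mul_left (hxt.inv_left.mul_left (hlt.mul_left hmt).inv_left)
    rwa [show q * (l * m) * x * (x⁻¹ * (l * m)⁻¹) = q by group] at h2
  refine ⟨q, ?_, l, hl, m, hm, x, hx, by group⟩
  rw [← Fx_t2_eq F]
  exact mem_Fx.2 ⟨hq, by rw [← hqt.eq, mul_inv_cancel_right]⟩

/-- An element of `A` commuting with the three-cycle `b` and trivial on `Q₁/Z` centralises `Q₁`. -/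
theorem cent_Q1_of_b (U : Duo Z Q Q1 Q2 L1 L2 P W t1 t2 z y g d a n)
    (C : Crd Z Q1 Q2 W (AA P y t2) t2 z y d n b ψ) {x : G} (hx : x ∈ AA P y t2) (hxb : x * b = b * x) :
    Q1 ≤ centralizer ({x} : Set G) := by
  have D := U.data
  have F := D.frame
  have h := F.set
  have hZd : Z ⊔ zpowers d ≤ AA P y t2 := sup_le (fun w hw => by
    rw [← zpowers_eq_of_prime h.Z_card D.z_mem D.z_ne] at hw
    exact (zpowers_le.2 D.z_A) hw) (zpowers_le.2 D.d_A)
  have hle : Z ⊔ zpowers d ⊔ zpowers b ≤ centralizer ({x} : Set G) := sup_le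
    (hZd.trans fun w hw => mem_centralizer_singleton_iff.2 (D.A_comm hw hx))
    (zpowers_le.2 (mem_centralizer_singleton_iff.2 hxb.symm))
  refine le_trans (Subgroup.eq_of_le_of_card_ge (H := Z ⊔ zpowers d ⊔ zpowers b) (K := Q1)
    (sup_le (sup_le F.pair.Z1 (zpowers_le.2 D.flag1.mem)) (zpowers_le.2 C.b_mem)) ?_).ge hle
  have hbn : b ∉ Z ⊔ zpowers d := by
    intro hb
    obtain ⟨v, hv⟩ := (C.mem b).1 (hZd hb)
    have h1 := C.b_act (zt 1)
    rw [← hv, ← C.add, add_comm, C.add, mul_inv_cancel_right] at h1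
    exact (by decide +kernel : zt 1 ≠ pm cyc (zt 1)) (C.inj h1)
  rw [F.pair.card1]
  have hdvd : Nat.card ↥(Z ⊔ zpowers d ⊔ zpowers b) ∣ 3 ^ 3 :=
    (F.pair.card1 ▸ card_dvd_of_le (sup_le (sup_le F.pair.Z1 (zpowers_le.2 D.flag1.mem))
      (zpowers_le.2 C.b_mem)) : Nat.card ↥(Z ⊔ zpowers d ⊔ zpowers b) ∣ 27)
  have h9 : Nat.card ↥(Z ⊔ zpowers d) = 9 := F.card_flag D.flag1
  have hlt : 9 < Nat.card ↥(Z ⊔ zpowers d ⊔ zpowers b) := by
    by_contra hlt
    exact hbn ((Subgroup.eq_of_le_of_card_ge (le_sup_left : Z ⊔ zpowers d ≤ _) (by rw [h9]; omega)).ge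
      (mem_sup_right (mem_zpowers b)))
  obtain ⟨j, hj, ej⟩ := (Nat.dvd_prime_pow Nat.prime_three).1 hdvd
  rw [ej] at hlt ⊢
  interval_cases j <;> norm_num at *

/-- THEOREM: `L₁` centralises the sum-one vector. -/
theorem L1_sg (U : Duo Z Q Q1 Q2 L1 L2 P W t1 t2 z y g d a n)
    (C : Crd Z Q1 Q2 W (AA P y t2) t2 z y d n b ψ) : ∀ l ∈ L1, l * ψ sg = ψ sg * l := by
  have D := U.data
  have F := D.frame
  have h := F.set
  intro l hl
  have hlC := F.L1_le hl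
  have hsg : ψ sg = ψ ![1, 0, 0, 0] * z := by
    rw [← C.z_eq, ← C.add]
    exact congrArg ψ (by decide +kernel)
  set x := ψ ![1, 0, 0, 0] with hx
  have hxA : x ∈ AA P y t2 := (C.mem x).2 ⟨_, rfl⟩
  have hxb : x * b = b * x := by
    have h1 := C.b_act ![1, 0, 0, 0]
    rw [show pm cyc ![1, 0, 0, 0] = ![1, 0, 0, 0] by decide +kernel] at h1
    exact (mul_inv_eq_iff_eq_mul.1 h1).symm
  have hc1 := cent_Q1_of_b U C hxA hxb
  have hxC := D.A_le_C hxA
  obtain ⟨k, hk⟩ : ∃ k, x ^ 3 ^ k = 1 := ⟨1, by rw [pow_one, D.A_exp hxA]⟩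
  obtain ⟨-, hN2⟩ := F.normal_of_three hxC hk
  have hcZ : l * x * l⁻¹ * x⁻¹ ∈ Z := by
    rw [← h.cent]
    refine mem_centralizer_iff.2 fun v hv => ?_
    obtain ⟨p, hp, w, hw, rfl⟩ := F.pair.dec v hv
    have e1 : Commute (l * x * l⁻¹ * x⁻¹) p := by
      have h2 : l⁻¹ * p * l ∈ Q1 := by
        have := (mem_normalizer_iff.1 (F.L1_norm (inv_mem hl)) p).1 hp
        rwa [inv_inv] at this
      have h3 : Commute (l * x * l⁻¹) p := by
        have h4 := (show Commute x (l⁻¹ * p * l) from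
          (mem_centralizer_singleton_iff.1 (hc1 h2)).symm).map (MulAut.conj l).toMonoidHom
        simpa [mul_assoc] using h4
      exact h3.mul_left (show Commute x p from (mem_centralizer_singleton_iff.1 (hc1 hp)).symm).inv_left
    have e2 : Commute (l * x * l⁻¹ * x⁻¹) w := by
      have hlw : ∀ v ∈ Q2, Commute l v := fun v hv => (mem_centralizer_iff.1 (F.L1_cent hl) v hv).symm
      have h2 : x⁻¹ * w * x ∈ Q2 := (hN2 _).2 (by rwa [show x * (x⁻¹ * w * x) * x⁻¹ = w by group])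
      show _ = _
      refine mul_inv_eq_iff_eq_mul.1 ?_
      calc l * x * l⁻¹ * x⁻¹ * w * (l * x * l⁻¹ * x⁻¹)⁻¹ =
          l * (x * (l⁻¹ * (x⁻¹ * w * x) * l) * x⁻¹) * l⁻¹ := by group
        _ = l * (x * (x⁻¹ * w * x) * x⁻¹) * l⁻¹ := by
            rw [mul_assoc (l⁻¹) (x⁻¹ * w * x) l, ← (hlw _ h2).eq, inv_mul_cancel_left]
        _ = l * w * l⁻¹ := by group
        _ = w := by rw [(hlw w hw).eq, mul_inv_cancel_right]
    exact (e1.mul_right e2).eq.symm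
  set c := l * x * l⁻¹ * x⁻¹ with hc
  have hlx : l * x * l⁻¹ = c * x := by rw [hc]; group
  have hlc : l * c * l⁻¹ = c := h.conj_Z hlC hcZ
  have hpow : ∀ j : ℕ, l ^ j * x * (l ^ j)⁻¹ = c ^ j * x := by
    intro j
    induction j with
    | zero => simp
    | succ j ih =>
      rw [pow_succ', show l * l ^ j * x * (l * l ^ j)⁻¹ = l * (l ^ j * x * (l ^ j)⁻¹) * l⁻¹ by group, ih,
        show l * (c ^ j * x) * l⁻¹ = (l * c * l⁻¹) ^ j * (l * x * l⁻¹) by rw [conj_pow]; group, hlc, hlx,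
        ← mul_assoc, ← pow_succ]
  have hc8 : c ^ 8 = 1 := by
    have := hpow 8
    rw [F.L1_pow hl, one_mul, inv_one, mul_one] at this
    exact (right_eq_mul.1 this)
  have hc0 := pow_gcd_eq_one.2 ⟨h.Z_cube hcZ, hc8⟩
  rw [show Nat.gcd 3 8 = 1 from rfl, pow_one] at hc0
  rw [hc0, one_mul] at hlx
  have e : Commute l x := mul_inv_eq_iff_eq_mul.1 hlx
  rw [hsg]
  exact (e.mul_right (show Commute l z from D.z_cent hlC)).eq

end Cfsg.Agent.UThreeLocal.Big.Local
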