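import Cfsg.Agent.Lib.UThreeLocal.Big.Local.Interface
import Cfsg.Agent.Lib.UThreeLocal.Cand.Side

/-!
# Coordinates on `A`

With `a₀` the character of the inverted factor at `z`, `a₁ = a₀ ∘ n`, `a₂, a₃` its conjugates under `b ∈ Q₁`,
the map `A → F₃⁴` is bijective, the points are the four lines `zt i`, and `N(A) ∩ C(r)` acts by signed
permutations with uniform sign.
-/

set_option autoImplicit false
set_option linter.unusedSectionVars false
set_option linter.style.haveILetI false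

namespace Cfsg.Agent.UThreeLocal.Big.Local

open Subgroup
open scoped commutatorElement
open Cfsg.Agent.UThreeLocal.Cand (zp_cases shift_of_fix)

universe u

theorem z3_dec : ∀ a : ZMod 3, a = 0 ∨ a = 1 ∨ a = -1 := by decide

theorem z3_sq : ∀ a : ZMod 3, a ≠ 0 → a * a = 1 := by decide

theorem sum_cyc : ∀ v : Ex, (∃ k : ZMod 3, pm cyc v = v + k • zt 0) ↔ v 1 + v 2 + v 3 = 0 := by decide +kernel

theorem pm_cases : ∀ v : Ex,
    pm cyc v = ![v 0, v 3, v 1, v 2] ∧ pm (Equiv.swap 0 1) v = ![v 1, v 0, v 2, v 3] := by decide +kernel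

/-- The tests a point passes. -/
def okB (v : Ex) : Bool :=
  decide ((v 0 = 0 → v = zt 0 ∨ v = -zt 0) ∧ (v 1 + v 2 + v 3 = 0 → v = zt 0 ∨ v = -zt 0) ∧
    v ≠ zt 1 + zt 0 ∧ v ≠ zt 1 - zt 0)

/-- The words used. -/
def wd (v : Ex) : List Ex :=
  let c := pm cyc
  let s := pm (Equiv.swap (0 : Fin 4) 1)
  let l := [v, c v, c (c v)]
  let l2 := l ++ l.map s
  let l3 := l2 ++ l2.map c ++ l2.map (fun w => c (c w))
  l3 ++ l3.map (fun w => -w)

theorem pts_table : ∀ v : Ex, v ≠ 0 → (∃ i, v = zt i ∨ v = -zt i) ∨ ∃ w ∈ wd v, okB w = false := by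
  decide +kernel

/-- The permutations carrying line `0` to line `i`. -/
def gP : Fin 4 → Equiv.Perm (Fin 4) :=
  ![1, Equiv.swap 0 1, cyc * Equiv.swap 0 1, cyc * cyc * Equiv.swap 0 1]

theorem gP_facts : ∀ i : Fin 4, gP i 0 = i ∧ pm (gP i) (zt 0) = zt i := by decide +kernel

theorem zt_facts : zt 0 = ![0, 1, 1, 1] ∧ zt 1 = ![1, 0, 1, 1] ∧ ∀ i j k : Fin 4, zt i j = 0 ↔ (i = j ∧ k = k) := by
  decide +kernel

/-- The action of the exchanging element before normalisation. -/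
def tw (p q : ZMod 3) (v : Ex) : Ex :=
  ![v 1, v 0, v 2 + (v 0 - v 1) * (1 - p), v 3 + (v 0 - v 1) * (1 - q)]

theorem split_v (v : Ex) (p q : ZMod 3) :
    v = (v 1).val • zt 0 + (v 0).val • (![1, 0, p, q] : Ex) + ![0, 0, v 2 - v 1 - v 0 * p, v 3 - v 1 - v 0 * q] ∧
    tw p q v = (v 1).val • (![1, 0, p, q] : Ex) + (v 0).val • zt 0 +
      ![0, 0, v 2 - v 1 - v 0 * p, v 3 - v 1 - v 0 * q] := by
  rw [zt_facts.1]
  simp only [← Nat.cast_smul_eq_nsmul (ZMod 3), ZMod.natCast_zmod_val]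
  constructor <;> funext i <;> fin_cases i <;>
    simp [tw, Pi.add_apply, Pi.smul_apply] <;> ring

theorem tw_word : tw (-1) (-1) (pm cyc (tw (-1) (-1) (pm cyc (tw (-1) (-1) (zt 0))))) = -zt 0 ∧
    tw (-1) (-1) (pm cyc (tw (-1) (-1) (pm cyc (tw (-1) (-1) ![0, 0, 1, 0])))) 0 ≠ 0 := by decide +kernel

theorem z3_num : (1 : ZMod 3) ≠ -1 ∧ (1 : ZMod 3) + -1 = 0 ∧ (-1 : ZMod 3) + 1 = 0 := by decide

theorem tw_tw (p q : ZMod 3) (v : Ex) : tw p q (tw p q v) = v := by
  funext i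
  fin_cases i <;> simp [tw] <;> ring

variable {G : Type u} [Group G] [Finite G]

/-- The inverted factor is recognised inside `Q`. -/
theorem mem_Q2_of_inv {Z Q Q1 Q2 L1 L2 : Subgroup G} {t1 t2 : G} (F : Frame Z Q Q1 Q2 L1 L2 t1 t2) {v : G}
    (hv : v ∈ Q) (h : t2 * v * t2⁻¹ * v ∈ Z) : v ∈ Q2 := by
  obtain ⟨p, hp, q, hq, rfl⟩ := F.pair.dec v hv
  have hr : t2 * p * t2⁻¹ = p := by
    rw [← mem_centralizer_iff.1 (F.L2_cent F.t2_mem) p hp, mul_inv_cancel_right]
  have hqr : t2 * q * t2⁻¹ ∈ Q2 := (mem_normalizer_iff.1 (F.L2_norm F.t2_mem) q).1 hq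
  have e : t2 * (p * q) * t2⁻¹ * (p * q) = p * p * (t2 * q * t2⁻¹ * q) := by
    rw [show t2 * (p * q) * t2⁻¹ = (t2 * p * t2⁻¹) * (t2 * q * t2⁻¹) by group, hr,
      show p * (t2 * q * t2⁻¹) * (p * q) = p * ((t2 * q * t2⁻¹) * p) * q by group, ← F.pair.comm p hp _ hqr]
    group
  rw [e, mul_mem_cancel_right (F.t2_inv q hq)] at h
  refine mul_mem (F.pair.Z2 ?_) hq
  rw [show p = (p * p)⁻¹ * p ^ 3 by rw [pow_succ, pow_two]; group, F.cube p (F.pair.le1 hp), mul_one]
  exact inv_mem h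

/-- An element of `N(Z) ∩ C(r)` preserves triviality on `Q₂/Z`. -/
theorem triv2_conj {Z Q Q1 Q2 L1 L2 : Subgroup G} {t1 t2 : G} (F : Frame Z Q Q1 Q2 L1 L2 t1 t2) {h x : G}
    (hh : h ∈ normalizer (Z : Set G)) (hht : h * t2 = t2 * h) (hx : Triv Z Q2 x) : Triv Z Q2 (h * x * h⁻¹) := by
  intro u hu
  have hZ : ∀ w, w ∈ Z → h⁻¹ * w * h ∈ Z := fun w hw => by
    have := (mem_normalizer_iff.1 (inv_mem hh) w).1 hw
    rwa [inv_inv] at this
  have huQ : h⁻¹ * u * h ∈ Q := by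
    have := (mem_normalizer_iff.1 (inv_mem (F.normalizer_le_normalizer_Q hh)) u).1 (F.pair.le2 hu)
    rwa [inv_inv] at this
  have hu2 : h⁻¹ * u * h ∈ Q2 := mem_Q2_of_inv F huQ (by
    have e : h⁻¹ * (t2 * u * t2⁻¹ * u) * h = t2 * (h⁻¹ * u * h) * t2⁻¹ * (h⁻¹ * u * h) := by
      have h1 : h⁻¹ * t2 = t2 * h⁻¹ := (show Commute h t2 from hht).inv_left.eq
      calc h⁻¹ * (t2 * u * t2⁻¹ * u) * h = (h⁻¹ * t2) * u * (h⁻¹ * t2)⁻¹ * (h⁻¹ * u * h) := by group
        _ = _ := by rw [h1]; group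
    rw [← e]
    exact hZ _ (F.t2_inv u hu))
  have h1 := hx _ hu2
  have h2 := (mem_normalizer_iff.1 hh _).1 h1
  rwa [show h * ((h⁻¹ * u * h)⁻¹ * (x * (h⁻¹ * u * h) * x⁻¹)) * h⁻¹ =
    u⁻¹ * (h * x * h⁻¹ * u * (h * x * h⁻¹)⁻¹) by group] at h2

/-- Conjugation as a map of a normalised subgroup. -/
def cjA (A : Subgroup G) {g : G} (hg : g ∈ normalizer (A : Set G)) : ↥A →* ↥A where
  toFun x := ⟨g * x * g⁻¹, (mem_normalizer_iff.1 hg x).1 x.2⟩
  map_one' := Subtype.ext (by simp)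
  map_mul' x w := Subtype.ext (by simp [mul_assoc])

theorem cjA_coe (A : Subgroup G) {g : G} (hg : g ∈ normalizer (A : Set G)) (x : ↥A) :
    (cjA A hg x : G) = g * x * g⁻¹ := rfl

variable {Z Q Q1 Q2 L1 L2 P W : Subgroup G} {t1 t2 z y g d a n : G}

-- long construction
set_option maxHeartbeats 1000000 in
/-- THEOREM: the coordinates. -/
theorem exists_crd (U : Duo Z Q Q1 Q2 L1 L2 P W t1 t2 z y g d a n) :
    ∃ b ψ, Crd Z Q1 Q2 W (AA P y t2) t2 z y d n b ψ := by
  classical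
  haveI : Fact (Nat.Prime 3) := ⟨Nat.prime_three⟩
  have D := U.data
  have F := D.frame
  have h := D.set
  set A := AA P y t2 with hA
  have hdQ1 := D.flag1.mem
  -- the element `b`
  obtain ⟨b, hb, hdb⟩ := F.pair.exists_noncomm h hdQ1 D.flag1.notZ
  have hbQ := F.pair.le1 hb
  have hbC := h.Q_le hbQ
  have hb3 := F.cube b hbQ
  have hbt : b * t2 = t2 * b := (D.t2_fix hb).symm
  have hshift : ∀ x ∈ A, b * x * b⁻¹ * x⁻¹ ∈ Z ⊔ zpowers d := fun x hx => by
    have hs := (shift_of_fix F (D.A_le_C hx) hdQ1 D.flag1.notZ (D.flag1.fix x (D.A_le_P hx)) hb).2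
    have hn : b ∈ normalizer ((Z ⊔ zpowers d : Subgroup G) : Set G) :=
      h.normal_of_Z_le (sup_le h.Z_le (zpowers_le.2 (F.pair.le1 hdQ1))) le_sup_left hbQ
    have h2 := (mem_normalizer_iff.1 hn _).1 (inv_mem hs)
    rwa [show b * (b⁻¹ * (x * b * x⁻¹))⁻¹ * b⁻¹ = b * x * b⁻¹ * x⁻¹ by group] at h2
  have hZA : Z ≤ A := (zpowers_eq_of_prime h.Z_card D.z_mem D.z_ne).ge.trans (zpowers_le.2 D.z_A)
  have hdA : Z ⊔ zpowers d ≤ A := sup_le hZA (zpowers_le.2 D.d_A)
  have hbA : b ∈ normalizer (A : Set G) := Subgroup.mem_normalizer_fintype fun x hx => by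
    have h1 := mul_mem (hdA (hshift x hx)) hx
    rwa [inv_mul_cancel_right] at h1
  have hnA : n ∈ normalizer (A : Set G) := U.n_A
  -- the character of the inverted factor
  have hAp : IsPGroup 3 ↥A := D.P_pgroup.to_le D.A_le_P
  obtain ⟨χ, hχ⟩ := F.symm.exists_char hAp D.A_le_C
  let yA : ↥A := ⟨y, D.y_A⟩
  let zA : ↥A := ⟨z, D.z_A⟩
  let dA : ↥A := ⟨d, D.d_A⟩
  let bA : ↥A →* ↥A := cjA A hbA
  let bA' : ↥A →* ↥A := cjA A (inv_mem hbA)
  let nA : ↥A →* ↥A := cjA A hnA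
  let nA' : ↥A →* ↥A := cjA A (inv_mem hnA)
  set s := Multiplicative.toAdd (χ yA) with hs
  have hs0 : s ≠ 0 := fun e => D.nontriv.2 ((hχ yA).1 e)
  let a0 : ↥A → ZMod 3 := fun x => s * Multiplicative.toAdd (χ x)
  have a0_mul : ∀ x w, a0 (x * w) = a0 x + a0 w := fun x w => by simp [a0, mul_add]
  have a0_one : a0 1 = 0 := by simp [a0]
  have a0_y : a0 yA = 1 := z3_sq s hs0
  have a0_ker : ∀ x, a0 x = 0 ↔ Triv Z Q2 (x : G) := fun x => by
    rw [← hχ x]
    constructor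
    · exact fun e => (mul_eq_zero.1 e).resolve_left hs0
    · intro e; simp [a0, e]
  have hcent : ∀ {x : G}, x ∈ centralizer (Q2 : Set G) → Triv Z Q2 x := fun {x} hx u hu => by
    rw [← mem_centralizer_iff.1 hx u hu, mul_inv_cancel_right, inv_mul_cancel]; exact one_mem _
  have a0_W : ∀ x : ↥A, (x : G) ∈ W → a0 x = 0 := fun x hx => (a0_ker x).2 (hcent (U.W_Q2 hx))
  have a0_zd : ∀ x : ↥A, (x : G) ∈ Z ⊔ zpowers d → a0 x = 0 := fun x hx => (a0_ker x).2
    (F.triv_Q ((sup_le h.Z_le (zpowers_le.2 (F.pair.le1 hdQ1))) hx) F.pair.le2)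
  have a0_b : ∀ x : ↥A, a0 (bA x) = a0 x := fun x => by
    have e : bA x = (⟨b * x * b⁻¹ * (x : G)⁻¹, hdA (hshift x x.2)⟩ : ↥A) * x :=
      Subtype.ext (by rw [cjA_coe]; push_cast; group)
    rw [e, a0_mul, a0_zd _ (hshift x x.2), zero_add]
  -- products of the maps
  have hcj : ∀ {g' : G} (hg' : g' ∈ normalizer (A : Set G)) (x : ↥A), cjA A (inv_mem hg') (cjA A hg' x) = x := by
    intro g' hg' x
    refine Subtype.ext ?_
    rw [cjA_coe, cjA_coe]; group
  have hcj' : ∀ {g' : G} (hg' : g' ∈ normalizer (A : Set G)) (x : ↥A), cjA A hg' (cjA A (inv_mem hg') x) = x := by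
    intro g' hg' x
    refine Subtype.ext ?_
    rw [cjA_coe, cjA_coe]; group
  have hbbb : ∀ x : ↥A, bA (bA x) = bA' x := fun x => Subtype.ext (by
    show b * (b * x * b⁻¹) * b⁻¹ = b⁻¹ * x * b⁻¹⁻¹
    calc b * (b * x * b⁻¹) * b⁻¹ = b ^ 3 * (b⁻¹ * x * b⁻¹⁻¹) * (b ^ 3)⁻¹ := by simp [pow_succ, mul_assoc]
      _ = _ := by rw [hb3]; group)
  let a1 : ↥A → ZMod 3 := fun x => a0 (nA' x)
  let f : ↥A → Ex := fun x => ![a0 x, a1 x, a1 (bA' x), a1 (bA x)]
  have f_mul : ∀ x w, f (x * w) = f x + f w := fun x w => by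
    funext i
    fin_cases i <;> simp [f, a1, map_mul, a0_mul]
  have f_one : f 1 = 0 := by
    funext i
    fin_cases i <;> simp [f, a1, a0_one]
  have f_inv : ∀ x, f x⁻¹ = -f x := fun x => by
    refine eq_neg_of_add_eq_zero_left ?_
    rw [← f_mul, inv_mul_cancel, f_one]
  -- values
  have hnz : nA' zA = yA := Subtype.ext (by
    show n⁻¹ * z * n⁻¹⁻¹ = y
    rw [← U.n_y]; group)
  have hny : nA' yA = zA := Subtype.ext (by
    show n⁻¹ * y * n⁻¹⁻¹ = z
    rw [← U.n_z]; group)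
  have a0_z : a0 zA = 0 := a0_zd _ (mem_sup_left D.z_mem)
  have a0_d : a0 dA = 0 := a0_zd _ (mem_sup_right (mem_zpowers d))
  have a1_W : ∀ x : ↥A, (x : G) ∈ W → a1 x = 0 := fun x hx => by
    have e : nA' x = x := Subtype.ext (by
      show n⁻¹ * (x : G) * n⁻¹⁻¹ = x
      rw [inv_inv, mul_assoc, ← U.n_W x hx, inv_mul_cancel_left])
    show a0 (nA' x) = 0
    rw [e, a0_W x hx]
  have hbz : bA zA = zA ∧ bA' zA = zA := ⟨Subtype.ext (h.conj_Z hbC D.z_mem),
    Subtype.ext (h.conj_Z (inv_mem hbC) D.z_mem)⟩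
  have fz : f zA = zt 0 := by
    rw [zt_facts.1]
    show ![a0 zA, a1 zA, a1 (bA' zA), a1 (bA zA)] = _
    rw [hbz.1, hbz.2, show a1 zA = 1 from (congrArg a0 hnz).trans a0_y, a0_z]
  have a1_y : a1 yA = 0 := (congrArg a0 hny).trans a0_z
  -- `f` is bijective
  have hWd : ∀ k : ℕ, (d ^ k ∈ W) := fun k => pow_mem U.d_W k
  have hzW : z ∉ W := fun hm => by
    have h1 := U.n_z
    rw [U.n_W z hm, mul_inv_cancel_right] at h1
    exact D.y_not (h1 ▸ D.z_mem)
  have hWZ : ∀ {x : G}, x ∈ W → x ∈ Z → x = 1 := fun {x} hx hxZ => by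
    by_contra hx1
    exact hzW ((zpowers_le.2 hx) (by rw [zpowers_eq_of_prime h.Z_card hxZ hx1]; exact D.z_mem))
  have hker01 : ∀ x : ↥A, a0 x = 0 → a1 x = 0 → (x : G) ∈ W := by
    intro x h0 h1
    have hK : Nat.card ↥W = 9 := U.W_card
    set K : Subgroup G :=
      { carrier := {v | ∃ hv : v ∈ A, a0 ⟨v, hv⟩ = 0 ∧ a1 ⟨v, hv⟩ = 0}
        one_mem' := ⟨one_mem A, a0_one, by show a0 (nA' 1) = 0; rw [map_one, a0_one]⟩
        mul_mem' := by
          rintro u v ⟨hu, u0, u1⟩ ⟨hv, v0, v1⟩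
          refine ⟨mul_mem hu hv, ?_, ?_⟩
          · rw [show (⟨u * v, mul_mem hu hv⟩ : ↥A) = ⟨u, hu⟩ * ⟨v, hv⟩ from rfl, a0_mul, u0, v0, add_zero]
          · show a0 (nA' (⟨u, hu⟩ * ⟨v, hv⟩)) = 0
            rw [map_mul, a0_mul]
            show a1 _ + a1 _ = 0
            rw [u1, v1, add_zero]
        inv_mem' := by
          rintro u ⟨hu, u0, u1⟩
          refine ⟨inv_mem hu, ?_, ?_⟩
          · have := a0_mul ⟨u, hu⟩⁻¹ ⟨u, hu⟩
            rw [inv_mul_cancel, a0_one, u0, add_zero] at this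
            exact this.symm
          · have := a0_mul (nA' ⟨u, hu⟩⁻¹) (nA' ⟨u, hu⟩)
            rw [← map_mul, inv_mul_cancel, map_one, a0_one, show a0 (nA' ⟨u, hu⟩) = 0 from u1, add_zero] at this
            exact this.symm }
    have hWK : W ≤ K := fun w hw => ⟨U.W_le hw, a0_W _ hw, a1_W _ hw⟩
    have hKA : K ≤ A := fun v hv => hv.1
    have hzK : z ∉ K := fun hm => by
      obtain ⟨hv, -, e⟩ := hm
      rw [show a1 (⟨z, hv⟩ : ↥A) = 1 from (congrArg a0 hnz).trans a0_y] at e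
      exact one_ne_zero e
    have hyK : y ∉ K := fun hm => by
      obtain ⟨hv, e, -⟩ := hm
      exact one_ne_zero (a0_y.symm.trans e)
    have hy3 : orderOf y = 3 := orderOf_eq_prime D.y_cube D.pt.ne_one
    have hz3 : orderOf z = 3 := orderOf_eq_prime (h.Z_cube D.z_mem) D.z_ne
    obtain ⟨k, hk, ek⟩ := (Nat.dvd_prime_pow Nat.prime_three).1 (show Nat.card ↥K ∣ 3 ^ 4 by
      rw [show (3 : ℕ) ^ 4 = Nat.card ↥A by rw [D.card_A]; norm_num]; exact card_dvd_of_le hKA)
    have hnorm : ∀ {u : G}, u ∈ A → zpowers u ≤ normalizer (K : Set G) := fun {u} hu => zpowers_le.2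
      (Subgroup.mem_normalizer_fintype fun v hv => by
        rw [SetLike.mem_coe, D.A_comm hu (hKA hv), mul_inv_cancel_right]; exact hv)
    have hinf : K ⊓ zpowers z = ⊥ := eq_bot_iff.2 fun v hv => by
      by_contra hv1
      rw [mem_bot] at hv1
      exact hzK ((zpowers_le.2 hv.1) (by
        rw [zpowers_eq_of_prime (by rw [Nat.card_zpowers, hz3]) hv.2 hv1]; exact mem_zpowers z))
    have hyKz : y ∉ K ⊔ zpowers z := fun hm => by
      obtain ⟨v, ⟨hv, v0, -⟩, i, e⟩ := Cand.mem_sup_zpowers (hnorm D.z_A) (h.Z_cube D.z_mem) hm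
      have e' : yA = ⟨v, hv⟩ * zA ^ (i : ℕ) := Subtype.ext (by push_cast; exact e)
      have hzero : ∀ j : ℕ, a0 (zA ^ j) = 0 := fun j => by
        induction j with
        | zero => simpa using a0_one
        | succ j ih => rw [pow_succ, a0_mul, ih, a0_z, add_zero]
      rw [e', a0_mul, v0, hzero, add_zero] at a0_y
      exact zero_ne_one a0_y
    have hc := card_sup_mul_inf (A := K) (B := zpowers z) (hnorm D.z_A)
    rw [hinf, card_bot, mul_one, Nat.card_zpowers, hz3, ek] at hc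
    have hlt : Nat.card ↥(K ⊔ zpowers z) < 81 := by
      by_contra hge
      refine hyKz ((Subgroup.eq_of_le_of_card_ge (sup_le hKA (zpowers_le.2 D.z_A)) ?_).ge D.y_A)
      rw [D.card_A]; omega
    have hle := Subgroup.card_le_of_le hWK
    rw [hK, ek] at hle
    have hk2 : k = 2 := by
      rw [hc] at hlt
      interval_cases k <;> norm_num at *
    have := Subgroup.eq_of_le_of_card_ge hWK (by rw [hK, ek, hk2]; norm_num)
    exact this.ge ⟨x.2, h0, h1⟩
  have f_ker : ∀ x, f x = 0 → x = 1 := by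
    intro x hx
    have e0 : a0 x = 0 := congrFun hx 0
    have e1 : a1 x = 0 := congrFun hx 1
    have e2 : a1 (bA' x) = 0 := congrFun hx 2
    have e3 : a1 (bA x) = 0 := congrFun hx 3
    have hxW := hker01 x e0 e1
    have hbW := hker01 (bA x) (by rw [a0_b, e0]) e3
    have hbW' := hker01 (bA' x) (by rw [← hbbb, a0_b, a0_b, e0]) e2
    have hu : b * x * b⁻¹ * (x : G)⁻¹ ∈ W := mul_mem hbW (inv_mem hxW)
    obtain ⟨w, hw, dk, hdk, e⟩ : ∃ w ∈ Z, ∃ dk ∈ zpowers d, w * dk = b * x * b⁻¹ * (x : G)⁻¹ := by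
      have hn : zpowers d ≤ normalizer (Z : Set G) :=
        (zpowers_le.2 (D.A_le_C D.d_A)).trans (centralizer_le_normalizer _)
      have := hshift x x.2
      rwa [← SetLike.mem_coe, Subgroup.coe_mul_of_right_le_normalizer_left Z _ hn, Set.mem_mul] at this
    have hw1 : w = 1 := hWZ (by
      have h2 := mul_mem hu (inv_mem ((zpowers_le.2 U.d_W) hdk))
      rwa [← e, mul_inv_cancel_right] at h2) hw
    subst hw1
    rw [one_mul] at e
    -- conjugating back
    have hu' : b⁻¹ * dk * b ∈ W := by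
      rw [e, show b⁻¹ * (b * x * b⁻¹ * (x : G)⁻¹) * b = (b⁻¹ * (x : G) * b⁻¹⁻¹ * (x : G)⁻¹)⁻¹ by group]
      exact inv_mem (mul_mem hbW' (inv_mem hxW))
    have hdk1 : dk = 1 := by
      obtain ⟨k, rfl⟩ := mem_zpowers_iff.1 hdk
      have hz : d⁻¹ * (b⁻¹ * d * b) ∈ Z := by
        rw [show d⁻¹ * (b⁻¹ * d * b) = ⁅d⁻¹, b⁻¹⁆ by rw [commutatorElement_def]; group]
        exact h.comm_mem (inv_mem (F.pair.le1 hdQ1)) (inv_mem hbQ)
      set η := d⁻¹ * (b⁻¹ * d * b) with hη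
      have hηc : Commute d η := (h.comm_Z (F.pair.le1 hdQ1) hz).symm
      have e2 : b⁻¹ * d ^ k * b = d ^ k * η ^ k := by
        rw [← hηc.mul_zpow, hη, mul_inv_cancel_left]
        have h4 := conj_zpow (i := k) (a := b⁻¹) (b := d)
        rw [inv_inv] at h4
        exact h4.symm
      rw [e2, mul_mem_cancel_left (zpow_mem U.d_W k)] at hu'
      have h5 := hWZ hu' (zpow_mem hz k)
      have hη1 : η ≠ 1 := fun e1 => hdb (by
        rw [hη, inv_mul_eq_one] at e1
        calc d * b = b * (b⁻¹ * d * b) := by group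
          _ = b * d := by rw [← e1])
      have h6 := orderOf_dvd_iff_zpow_eq_one.2 h5
      rw [orderOf_eq_prime (h.Z_cube hz) hη1] at h6
      obtain ⟨m, rfl⟩ := h6
      rw [zpow_mul, zpow_natCast, D.d_cube, one_zpow]
    rw [hdk1] at e
    have hbx : b * (x : G) = x * b := mul_inv_eq_iff_eq_mul.1 (mul_inv_eq_one.1 e.symm)
    have hx2 : Triv Z Q2 (x : G) := (a0_ker x).1 e0
    have hx1 : Triv Z Q1 (x : G) := by
      intro u hu'
      obtain ⟨v, hv, i, rfl⟩ : ∃ v ∈ Z ⊔ zpowers d, ∃ i : Fin 3, u = v * b ^ (i : ℕ) := by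
        refine Cand.mem_sup_zpowers (zpowers_le.2 (h.normal_of_Z_le
          (sup_le h.Z_le (zpowers_le.2 (F.pair.le1 hdQ1))) le_sup_left hbQ)) hb3 ?_
        have hle : (Z ⊔ zpowers d) ⊔ zpowers b ≤ Q1 :=
          sup_le (sup_le F.pair.Z1 (zpowers_le.2 hdQ1)) (zpowers_le.2 hb)
        refine (Subgroup.eq_of_le_of_card_ge hle ?_).ge hu'
        obtain ⟨k, hk, ek⟩ := (Nat.dvd_prime_pow Nat.prime_three).1
          (show _ ∣ 3 ^ 3 from F.pair.card1 ▸ card_dvd_of_le hle)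
        have h9 := F.card_flag D.flag1
        have hlt : 9 < Nat.card ↥((Z ⊔ zpowers d) ⊔ zpowers b) := by
          by_contra hlt
          have := (Subgroup.eq_of_le_of_card_ge (le_sup_left : Z ⊔ zpowers d ≤ (Z ⊔ zpowers d) ⊔ zpowers b)
            (by rw [h9]; omega)).ge (mem_sup_right (mem_zpowers b))
          rw [← F.pair.cent_eq h hdQ1 D.flag1.notZ] at this
          exact hdb (mem_centralizer_singleton_iff.1 this.2).symm
        rw [F.pair.card1, ek]
        rw [ek] at hlt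
        interval_cases k <;> norm_num at *
      have hvA := hdA hv
      rw [show (x : G) * (v * b ^ (i : ℕ)) * (x : G)⁻¹ = v * b ^ (i : ℕ) by
        rw [← mul_assoc, D.A_comm x.2 hvA, mul_assoc v,
          ((show Commute (x : G) b from hbx.symm).pow_right _).eq, ← mul_assoc, mul_inv_cancel_right], inv_mul_cancel]
      exact one_mem _
    have hxQ := F.mem_Q_of_triv (D.A_le_C x.2) hx1 hx2
    -- `x` centralises `Q`
    have hxZ : (x : G) ∈ Z := by
      obtain ⟨u, hu', v, hv, e⟩ := F.pair.dec (x : G) hxQ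
      have hv' : v ∈ Z := by
        have hxr := D.A_t2 x.2
        have h1 : t2 * v * t2⁻¹ = v := by
          have h2 : t2 * (x : G) * t2⁻¹ = x := by rw [← hxr, mul_inv_cancel_right]
          rw [e, show t2 * (u * v) * t2⁻¹ = (t2 * u * t2⁻¹) * (t2 * v * t2⁻¹) by group, D.t2_fix hu',
            mul_inv_cancel_right] at h2
          exact mul_left_cancel h2
        have h3 := F.t2_inv v hv
        rw [h1] at h3
        rw [show v = (v * v)⁻¹ * v ^ 3 by rw [pow_succ, pow_two]; group, F.cube v (F.pair.le2 hv), mul_one]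
        exact inv_mem h3
      have hvA := hZA hv'
      have hux : u = (x : G) * v⁻¹ := by rw [e, mul_inv_cancel_right]
      have hu'' : u ∈ Z ⊔ zpowers d := by
        rw [← F.pair.cent_eq h hdQ1 D.flag1.notZ]
        exact mem_inf.2 ⟨hu', mem_centralizer_singleton_iff.2 (D.A_comm
          (hux ▸ mul_mem x.2 (inv_mem hvA)) D.d_A)⟩
      have hub : u * b = b * u := by
        rw [hux, mul_assoc, ((h.comm_Z hbQ (inv_mem hv'))), ← mul_assoc, ← hbx, mul_assoc]
      have hvt : u ∈ Z := by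
        by_contra huZ
        have hm : b ∈ Q1 ⊓ centralizer ({u} : Set G) := mem_inf.2 ⟨hb, mem_centralizer_singleton_iff.2 hub.symm⟩
        rw [F.pair.cent_eq h hu' huZ] at hm
        have hle : Z ⊔ zpowers u ≤ Z ⊔ zpowers d := sup_le le_sup_left (zpowers_le.2 hu'')
        have hbm := hle hm
        rw [← F.pair.cent_eq h hdQ1 D.flag1.notZ] at hbm
        exact hdb (mem_centralizer_singleton_iff.1 hbm.2).symm
      rw [e]; exact mul_mem hvt hv'
    exact Subtype.ext (hWZ hxW hxZ)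
  have f_inj : Function.Injective f := fun x w e => by
    have := f_ker (x * w⁻¹) (by rw [f_mul, f_inv, e, add_neg_cancel])
    exact mul_inv_eq_one.1 this
  have f_bij : Function.Bijective f := (Nat.bijective_iff_injective_and_card f).2
    ⟨f_inj, by rw [D.card_A, Nat.card_eq_fintype_card]; simp [Ex]⟩
  let ψ : Ex → G := fun v => ((Equiv.ofBijective f f_bij).symm v : G)
  have hψf : ∀ x : ↥A, ψ (f x) = x := fun x => by simp [ψ]
  have hfψ : ∀ v, ∀ hv : ψ v ∈ A, f ⟨ψ v, hv⟩ = v := fun v hv => by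
    show f ((Equiv.ofBijective f f_bij).symm v) = v
    exact (Equiv.ofBijective f f_bij).apply_symm_apply v
  have hψA : ∀ v, ψ v ∈ A := fun v => ((Equiv.ofBijective f f_bij).symm v).2
  have hadd : ∀ v w, ψ (v + w) = ψ v * ψ w := fun v w => by
    obtain ⟨x, rfl⟩ := f_bij.2 v
    obtain ⟨x', rfl⟩ := f_bij.2 w
    rw [← f_mul, hψf, hψf, hψf]; rfl
  -- the action of `b`
  have fb : ∀ x : ↥A, f (bA x) = pm cyc (f x) := fun x => by
    rw [(pm_cases _).1]
    funext i
    fin_cases i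
    · exact a0_b x
    · rfl
    · show a1 (bA' (bA x)) = a1 x
      rw [show bA' (bA x) = x from hcj hbA x]
    · show a1 (bA (bA x)) = a1 (bA' x)
      rw [hbbb]
  have hbact : ∀ v, b * ψ v * b⁻¹ = ψ (pm cyc v) := fun v => by
    obtain ⟨x, rfl⟩ := f_bij.2 v
    rw [← fb, hψf, hψf]; rfl
  have fpow : ∀ (x : ↥A) (k : ℕ), f (x ^ k) = k • f x := fun x k => by
    induction k with
    | zero => rw [pow_zero, f_one, zero_smul]
    | succ k ih => rw [pow_succ, f_mul, ih, succ_nsmul]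
  have fZ : ∀ x : ↥A, (x : G) ∈ Z ↔ ∃ k : ZMod 3, f x = k • zt 0 := by
    intro x
    constructor
    · intro hx
      rcases zp_cases h.Z_card D.z_mem D.z_ne hx with e | e | e
      · exact ⟨0, by rw [show x = 1 from Subtype.ext e, f_one, zero_smul]⟩
      · exact ⟨1, by rw [show x = zA from Subtype.ext e, fz, one_smul]⟩
      · exact ⟨-1, by rw [show x = zA⁻¹ from Subtype.ext e, f_inv, fz, neg_one_smul]⟩
    · rintro ⟨k, hk⟩
      rcases z3_dec k with rfl | rfl | rfl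
      · rw [zero_smul] at hk; rw [f_ker x hk]; exact one_mem _
      · rw [one_smul, ← fz] at hk; rw [f_inj hk]; exact D.z_mem
      · rw [neg_one_smul, ← fz, ← f_inv] at hk; rw [f_inj hk]; exact inv_mem D.z_mem
  -- trivial on `Q₁/Z`
  have htriv1 : ∀ x : ↥A, Triv Z Q1 (x : G) ↔ f x 1 + f x 2 + f x 3 = 0 := by
    intro x
    rw [← sum_cyc, ← fb]
    have hxC := D.A_le_C x.2
    constructor
    · intro ht
      have hη : ((bA x * x⁻¹ : ↥A) : G) ∈ Z := by
        have h1 := ht b hb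
        have h2 := h.conj_Z hbC (inv_mem h1)
        rw [show b * (b⁻¹ * ((x : G) * b * (x : G)⁻¹))⁻¹ * b⁻¹ = b * x * b⁻¹ * (x : G)⁻¹ by group] at h2
        show b * x * b⁻¹ * (x : G)⁻¹ ∈ Z
        rw [h2]; exact inv_mem h1
      obtain ⟨k, hk⟩ := (fZ _).1 hη
      rw [f_mul, f_inv, add_neg_eq_iff_eq_add] at hk
      exact ⟨k, hk.trans (add_comm _ _)⟩
    · rintro ⟨k, hk⟩
      have hη : b * x * b⁻¹ * (x : G)⁻¹ ∈ Z := (fZ (bA x * x⁻¹)).2 ⟨k, by rw [f_mul, f_inv, hk]; abel⟩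
      have hbx : b⁻¹ * ((x : G) * b * (x : G)⁻¹) ∈ Z := by
        have h2 := h.conj_Z (inv_mem hbC) (inv_mem hη)
        rw [show b⁻¹ * (b * x * b⁻¹ * (x : G)⁻¹)⁻¹ * b⁻¹⁻¹ = b⁻¹ * ((x : G) * b * (x : G)⁻¹) by group] at h2
        rw [h2]; exact inv_mem hη
      intro u hu
      have hQ1 : Q1 ≤ h.Mt (x : G) hxC := by
        have hle : (Z ⊔ zpowers d) ⊔ zpowers b ≤ Q1 :=
          sup_le (sup_le F.pair.Z1 (zpowers_le.2 hdQ1)) (zpowers_le.2 hb)
        have hle2 : (Z ⊔ zpowers d) ⊔ zpowers b ≤ h.Mt (x : G) hxC := sup_le (sup_le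
          (fun w hw => ⟨h.Z_le hw, by rw [h.conj_Z hxC hw, inv_mul_cancel]; exact one_mem _⟩)
          (zpowers_le.2 ⟨F.pair.le1 hdQ1, D.flag1.fix _ (D.A_le_P x.2)⟩)) (zpowers_le.2 ⟨hbQ, hbx⟩)
        refine le_trans (Subgroup.eq_of_le_of_card_ge hle ?_).ge hle2
        obtain ⟨k, hk, ek⟩ := (Nat.dvd_prime_pow Nat.prime_three).1
          (show _ ∣ 3 ^ 3 from F.pair.card1 ▸ card_dvd_of_le hle)
        have h9 := F.card_flag D.flag1
        have hlt : 9 < Nat.card ↥((Z ⊔ zpowers d) ⊔ zpowers b) := by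
          by_contra hlt
          have := (Subgroup.eq_of_le_of_card_ge (le_sup_left : Z ⊔ zpowers d ≤ (Z ⊔ zpowers d) ⊔ zpowers b)
            (by rw [h9]; omega)).ge (mem_sup_right (mem_zpowers b))
          rw [← F.pair.cent_eq h hdQ1 D.flag1.notZ] at this
          exact hdb (mem_centralizer_singleton_iff.1 this.2).symm
        rw [F.pair.card1, ek]
        rw [ek] at hlt
        interval_cases k <;> norm_num at *
      exact (hQ1 hu).2
  -- the coordinates of `y`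
  set p := f yA 2 with hp
  set q := f yA 3 with hq
  have fy : f yA = ![1, 0, p, q] := by
    funext i
    fin_cases i
    · exact a0_y
    · exact a1_y
    · rfl
    · rfl
  have hpq : p + q ≠ 0 := fun e => D.nontriv.1 ((htriv1 yA).2 (by
    rw [show f yA 1 = 0 from a1_y, zero_add]; exact e))
  -- a point with a trivial character
  have hptA0 : ∀ x : ↥A, IsPt Z (x : G) → a0 x = 0 → (x : G) ∈ Z := fun x hx h0 => by
    by_contra hxZ
    exact (F.nontriv hx (D.A_le_C x.2) hxZ).2 ((a0_ker x).1 h0)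
  have hptA1 : ∀ x : ↥A, IsPt Z (x : G) → a1 x = 0 → a0 x = 1 → x = yA := fun x hx h1 h0 => by
    have h2 := hptA0 (nA' x) (hx.conj n⁻¹) h1
    rcases zp_cases h.Z_card D.z_mem D.z_ne h2 with e | e | e
    · exact absurd e (hx.conj n⁻¹).ne_one
    · exact (Function.LeftInverse.injective (hcj' hnA)) ((Subtype.ext e : nA' x = zA).trans hny.symm)
    · exfalso
      have e' : x = yA⁻¹ := (Function.LeftInverse.injective (hcj' hnA))
        (show nA' x = nA' yA⁻¹ by rw [map_inv, hny]; exact Subtype.ext e)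
      have h3 := congrFun (f_inv yA) 0
      rw [← e'] at h3
      rw [show f x 0 = 1 from h0, Pi.neg_apply, show f yA 0 = 1 from a0_y] at h3
      exact absurd h3 z3_num.1
  have hby : bA yA ≠ yA := fun e => by
    have h1 : pm cyc (f yA) = f yA := by rw [← fb, e]
    refine hpq ?_
    have := (sum_cyc (f yA)).1 ⟨0, by rw [h1, zero_smul, add_zero]⟩
    rwa [show f yA 1 = 0 from a1_y, zero_add] at this
  have hp0 : p ≠ 0 := fun e => hby (by
    have h1 : bA' yA = yA := hptA1 _ (D.pt.conj b⁻¹) e (by rw [← hbbb, a0_b, a0_b]; exact a0_y)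
    rw [← h1]; exact (hcj' hbA yA).trans h1.symm)
  have hq0 : q ≠ 0 := fun e => hby (hptA1 _ (D.pt.conj b) e (by rw [a0_b]; exact a0_y))
  -- the action of `n`
  have hWf : ∀ v : Ex, v 0 = 0 → v 1 = 0 → ψ v ∈ W := fun v h0 h1 => hker01 ⟨ψ v, hψA v⟩
    (by have := congrFun (hfψ v (hψA v)) 0; exact this.trans h0)
    (by have := congrFun (hfψ v (hψA v)) 1; exact this.trans h1)
  have hWψ : ∀ v : Ex, ψ v ∈ W → v 0 = 0 ∧ v 1 = 0 := fun v hv => by
    have e := hfψ v (hψA v)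
    refine ⟨?_, ?_⟩
    · rw [← congrFun e 0]; exact a0_W ⟨ψ v, hψA v⟩ hv
    · rw [← congrFun e 1]; exact a1_W ⟨ψ v, hψA v⟩ hv
  have fn : ∀ v : Ex, n * ψ v * n⁻¹ = ψ (tw p q v) := by
    intro v
    have hw0 := hWf ![0, 0, v 2 - v 1 - v 0 * p, v 3 - v 1 - v 0 * q] rfl rfl
    obtain ⟨h1, h2⟩ := split_v v p q
    rw [← fy, ← fz] at h1 h2
    have hpow : ∀ (x : ↥A) (k : ℕ), ψ (k • f x) = (x : G) ^ k := fun x k => by
      rw [← fpow, hψf, SubgroupClass.coe_pow]
    rw [h2, hadd, hadd, hpow, hpow]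
    nth_rewrite 1 [h1]
    rw [hadd, hadd, hpow, hpow]
    generalize ψ ![0, 0, v 2 - v 1 - v 0 * p, v 3 - v 1 - v 0 * q] = w at hw0 ⊢
    show n * (z ^ (v 1).val * y ^ (v 0).val * w) * n⁻¹ = y ^ (v 1).val * z ^ (v 0).val * w
    rw [show n * (z ^ (v 1).val * y ^ (v 0).val * w) * n⁻¹ =
      (n * z ^ (v 1).val * n⁻¹) * (n * y ^ (v 0).val * n⁻¹) * (n * w * n⁻¹) by group,
      ← conj_pow, ← conj_pow, U.n_z, U.n_y, U.n_W _ hw0, mul_inv_cancel_right]
  have hn2 : ∀ v : Ex, n⁻¹ * ψ v * n = n * ψ v * n⁻¹ := fun v => by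
    have h1 : n * (n * ψ v * n⁻¹) * n⁻¹ = ψ v := by rw [fn v, fn, tw_tw]
    calc n⁻¹ * ψ v * n = n⁻¹ * (n * (n * ψ v * n⁻¹) * n⁻¹) * n := by rw [h1]
      _ = _ := by group
  -- the normalisation `p = q = 1`
  have hpq1 : p = 1 ∧ q = 1 := by
    rcases z3_dec p with e | e | e
    · exact absurd e hp0
    · rcases z3_dec q with e' | e' | e'
      · exact absurd e' hq0
      · exact ⟨e, e'⟩
      · exact absurd (by rw [e, e']; exact z3_num.2.1) hpq
    · rcases z3_dec q with e' | e' | e'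
      · exact absurd e' hq0
      · exact absurd (by rw [e, e']; exact z3_num.2.2) hpq
      exfalso
      set h' := n⁻¹ * (b⁻¹ * b⁻¹ * n * (b * n)) with hh'
      have hb2 : ∀ v, b⁻¹ * (b⁻¹ * ψ v * b) * b = ψ (pm cyc v) := fun v => by
        rw [← hbact]
        calc b⁻¹ * (b⁻¹ * ψ v * b) * b = (b ^ 3)⁻¹ * (b * ψ v * b⁻¹) * b ^ 3 := by simp [pow_succ, mul_assoc]
          _ = _ := by rw [hb3, inv_one, one_mul, mul_one]
      have hact : ∀ v, h' * ψ v * h'⁻¹ = ψ (tw p q (pm cyc (tw p q (pm cyc (tw p q v))))) := fun v => by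
        rw [hh', show n⁻¹ * (b⁻¹ * b⁻¹ * n * (b * n)) * ψ v * (n⁻¹ * (b⁻¹ * b⁻¹ * n * (b * n)))⁻¹ =
          n⁻¹ * (b⁻¹ * (b⁻¹ * (n * (b * (n * ψ v * n⁻¹) * b⁻¹) * n⁻¹) * b) * b) * n by
            simp only [mul_inv_rev, inv_inv, mul_assoc], fn, hbact, fn, hb2,
          hn2, fn]
      have hhz : h' * z * h'⁻¹ = z⁻¹ := by
        have h1 := hact (zt 0)
        rw [show ψ (zt 0) = z by rw [← fz, hψf]] at h1
        rw [h1, show z⁻¹ = ψ (f zA⁻¹) by rw [hψf]; rfl, f_inv, fz, e, e', tw_word.1]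
      have hhN : h' ∈ normalizer (Z : Set G) := by
        refine Subgroup.mem_normalizer_fintype fun u hu => ?_
        rw [SetLike.mem_coe, ← zpowers_eq_of_prime h.Z_card D.z_mem D.z_ne] at hu ⊢
        obtain ⟨k, rfl⟩ := mem_zpowers_iff.1 hu
        rw [← conj_zpow, hhz]
        exact zpow_mem (inv_mem (mem_zpowers z)) k
      have hht : h' * t2 = t2 * h' := by
        have c1 : Commute n t2 := U.n_t2
        have c2 : Commute b t2 := hbt
        exact (c1.inv_left.mul_left (((c2.inv_left.mul_left c2.inv_left).mul_left c1).mul_left (c2.mul_left c1))).eq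
      have h4 := triv2_conj F hhN hht (hcent (U.W_Q2 (hWf ![0, 0, 1, 0] rfl rfl)))
      rw [hact, e, e'] at h4
      set X := tw (-1) (-1) (pm cyc (tw (-1) (-1) (pm cyc (tw (-1) (-1) ![0, 0, 1, 0])))) with hX
      have h5 : a0 ⟨ψ X, hψA X⟩ = 0 := (a0_ker ⟨ψ X, hψA X⟩).2 h4
      have h6 := congrFun (hfψ X (hψA X)) 0
      rw [show f ⟨ψ X, hψA X⟩ 0 = 0 from h5] at h6
      exact tw_word.2 h6.symm
  obtain ⟨hp1, hq1⟩ := hpq1
  have fy1 : f yA = zt 1 := by rw [fy, hp1, hq1, zt_facts.2.1]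
  have hnact : ∀ v, n * ψ v * n⁻¹ = ψ (pm (Equiv.swap 0 1) v) := fun v => by
    rw [fn, (pm_cases v).2, tw, hp1, hq1, sub_self, mul_zero, add_zero, add_zero]
  have hψz : ψ (zt 0) = z := by rw [← fz, hψf]
  have hψy : ψ (zt 1) = y := by rw [← fy1, hψf]
  have hψinj : Function.Injective ψ := fun v w e => by
    rw [← hfψ v (hψA v), ← hfψ w (hψA w)]
    exact congrArg f (Subtype.ext e)
  have htriv2 : ∀ v, Triv Z Q2 (ψ v) ↔ v 0 = 0 := fun v => by
    rw [← a0_ker ⟨ψ v, hψA v⟩, ← show f ⟨ψ v, hψA v⟩ 0 = v 0 from congrFun (hfψ v _) 0]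
    rfl
  have htriv1' : ∀ v, Triv Z Q1 (ψ v) ↔ v 1 + v 2 + v 3 = 0 := fun v => by
    rw [htriv1 ⟨ψ v, hψA v⟩, hfψ]
  have hψneg : ∀ v, ψ (-v) = (ψ v)⁻¹ := fun v => by
    obtain ⟨x, rfl⟩ := f_bij.2 v
    rw [← f_inv, hψf, hψf]; rfl
  -- the points
  have hneg : ∀ v, IsPt Z (ψ v) → IsPt Z (ψ (-v)) := fun v hv => by
    obtain ⟨k, w, hw, hw1, e⟩ := hv
    exact ⟨k, w⁻¹, inv_mem hw, inv_ne_one.2 hw1, by rw [hψneg, ← conj_inv, e]⟩
  have hok : ∀ v, IsPt Z (ψ v) → okB v = true := by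
    intro v hv
    have hZcase : ψ v ∈ Z → v = zt 0 ∨ v = -zt 0 := fun hz' => by
      rcases zp_cases h.Z_card D.z_mem D.z_ne hz' with e | e | e
      · exact absurd e hv.ne_one
      · exact Or.inl (hψinj (e.trans hψz.symm))
      · exact Or.inr (hψinj (by rw [e, hψneg, hψz]))
    refine decide_eq_true ⟨fun h0 => hZcase ?_, fun h1 => hZcase ?_, fun e => ?_, fun e => ?_⟩
    · by_contra hvZ
      exact (F.nontriv hv (D.A_le_C (hψA v)) hvZ).2 ((htriv2 v).2 h0)
    · by_contra hvZ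
      exact (F.nontriv hv (D.A_le_C (hψA v)) hvZ).1 ((htriv1' v).2 h1)
    · rw [e, hadd, hψy, hψz] at hv
      exact D.z_ne (D.pt_coset D.z_mem hv)
    · rw [e, sub_eq_add_neg, hadd, hψy, hψneg, hψz] at hv
      exact inv_ne_one.2 D.z_ne (D.pt_coset (inv_mem D.z_mem) hv)
  have hmoveb : ∀ v, IsPt Z (ψ v) → IsPt Z (ψ (pm cyc v)) := fun v hv => hbact v ▸ hv.conj b
  have hmoven : ∀ v, IsPt Z (ψ v) → IsPt Z (ψ (pm (Equiv.swap 0 1) v)) := fun v hv => hnact v ▸ hv.conj n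
  have hwd : ∀ v, IsPt Z (ψ v) → ∀ w ∈ wd v, IsPt Z (ψ w) := by
    intro v hv w hw
    have h1 : ∀ w ∈ [v, pm cyc v, pm cyc (pm cyc v)], IsPt Z (ψ w) := fun w hw => by
      simp only [List.mem_cons, List.mem_singleton, List.not_mem_nil, or_false] at hw
      rcases hw with rfl | rfl | rfl
      exacts [hv, hmoveb _ hv, hmoveb _ (hmoveb _ hv)]
    have h2 : ∀ w ∈ [v, pm cyc v, pm cyc (pm cyc v)] ++ [v, pm cyc v, pm cyc (pm cyc v)].map (pm (Equiv.swap 0 1)),
        IsPt Z (ψ w) := fun w hw => by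
      rcases List.mem_append.1 hw with hw | hw
      · exact h1 w hw
      · obtain ⟨x, hx, rfl⟩ := List.mem_map.1 hw
        exact hmoven _ (h1 x hx)
    simp only [wd] at hw
    rcases List.mem_append.1 hw with hw | hw
    · rcases List.mem_append.1 hw with hw | hw
      · rcases List.mem_append.1 hw with hw | hw
        · exact h2 w hw
        · obtain ⟨x, hx, rfl⟩ := List.mem_map.1 hw
          exact hmoveb _ (h2 x hx)
      · obtain ⟨x, hx, rfl⟩ := List.mem_map.1 hw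
        exact hmoveb _ (hmoveb _ (h2 x hx))
    · obtain ⟨u, hu, rfl⟩ := List.mem_map.1 hw
      refine hneg u ?_
      rcases List.mem_append.1 hu with hu | hu
      · rcases List.mem_append.1 hu with hu | hu
        · exact h2 u hu
        · obtain ⟨x, hx, rfl⟩ := List.mem_map.1 hu
          exact hmoveb _ (h2 x hx)
      · obtain ⟨x, hx, rfl⟩ := List.mem_map.1 hu
        exact hmoveb _ (hmoveb _ (h2 x hx))
  have hψ0 : ψ 0 = 1 := by rw [← f_one, hψf]; rfl
  have hpts : ∀ v, IsPt Z (ψ v) → ∃ i, v = zt i ∨ v = -zt i := fun v hv => by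
    refine (pts_table v (fun e => hv.ne_one (by rw [e, hψ0]))).resolve_right ?_
    rintro ⟨w, hw, e⟩
    rw [hok w (hwd v hv w hw)] at e
    exact Bool.noConfusion e
  -- the automorphisms
  have hsc : ∀ (c : ZMod 3) (v : Ex), ψ (c • v) ∈ zpowers (ψ v) := fun c v => by
    rcases z3_dec c with rfl | rfl | rfl
    · rw [zero_smul, hψ0]; exact one_mem _
    · rw [one_smul]; exact mem_zpowers _
    · rw [neg_one_smul, hψneg]; exact inv_mem (mem_zpowers _)
  let gvE : Fin 4 → G := ![1, n, b * n, b * b * n]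
  have hgv : ∀ i v, gvE i * ψ v * (gvE i)⁻¹ = ψ (pm (gP i) v) := fun i v => by
    fin_cases i
    · show 1 * ψ v * (1 : G)⁻¹ = ψ v
      group
    · exact hnact v
    · show b * n * ψ v * (b * n)⁻¹ = ψ (pm cyc (pm (Equiv.swap 0 1) v))
      rw [← hbact, ← hnact]; group
    · show b * b * n * ψ v * (b * b * n)⁻¹ = ψ (pm cyc (pm cyc (pm (Equiv.swap 0 1) v)))
      rw [← hbact, ← hbact, ← hnact]; group
  have hgvt : ∀ i, gvE i * t2 = t2 * gvE i := fun i => by
    have c1 : Commute n t2 := U.n_t2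
    have c2 : Commute b t2 := hbt
    fin_cases i
    exacts [(Commute.one_left t2).eq, c1.eq, (c2.mul_left c1).eq, ((c2.mul_left c2).mul_left c1).eq]
  have hgvA : ∀ i, gvE i ∈ normalizer (A : Set G) := fun i => by
    fin_cases i
    exacts [one_mem _, hnA, mul_mem hbA hnA, mul_mem (mul_mem hbA hbA) hnA]
  have hact : ∀ g' ∈ normalizer (A : Set G) ⊓ centralizer ({t2} : Set G), ∃ (ε : ZMod 3) (π : Equiv.Perm (Fin 4)),
      (ε = 1 ∨ ε = -1) ∧ ∀ v, g' * ψ v * g'⁻¹ = ψ (ε • pm π v) := by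
    rintro g' ⟨hgA, hgt⟩
    have hgt' : g' * t2 = t2 * g' := mem_centralizer_singleton_iff.1 hgt
    let Lf : Ex → Ex := fun v => f ⟨g' * ψ v * g'⁻¹, (mem_normalizer_iff.1 hgA _).1 (hψA v)⟩
    have hL : ∀ v, g' * ψ v * g'⁻¹ = ψ (Lf v) := fun v =>
      (hψf ⟨g' * ψ v * g'⁻¹, (mem_normalizer_iff.1 hgA _).1 (hψA v)⟩).symm
    have hLadd : ∀ v w, Lf (v + w) = Lf v + Lf w := fun v w => hψinj (by
      rw [← hL, hadd, hadd, ← hL, ← hL]; group)
    have hLinj : Function.Injective Lf := fun v w e => hψinj (by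
      have := congrArg ψ e
      rw [← hL, ← hL] at this
      exact mul_left_cancel (mul_right_cancel this))
    have hLpt : ∀ i, ∃ j, Lf (zt i) = zt j ∨ Lf (zt i) = -zt j := fun i => hpts _ (by
      rw [← hL]
      refine IsPt.conj ?_ g'
      have e := hgv i (zt 0)
      rw [(gP_facts i).2] at e
      rw [← e]
      exact (hψz.symm ▸ IsPt.of_mem D.z_mem D.z_ne : IsPt Z (ψ (zt 0))).conj _)
    choose π0 hπ0 using hLpt
    have hker : ∀ i v, v i = 0 → Lf v (π0 i) = 0 := by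
      intro i v hv
      set j := π0 i with hj
      set k := (gvE j)⁻¹ * g' * gvE i with hk
      have hkt : k * t2 = t2 * k := (((show Commute (gvE j) t2 from hgvt j).inv_left.mul_left hgt').mul_left
        (show Commute (gvE i) t2 from hgvt i)).eq
      have hkv : ∀ u, k * ψ u * k⁻¹ = (gvE j)⁻¹ * ψ (Lf (pm (gP i) u)) * gvE j := fun u => by
        rw [← hL, ← hgv, hk]; group
      have hback : ∀ u, (gvE j)⁻¹ * ψ (pm (gP j) u) * gvE j = ψ u := fun u => by rw [← hgv]; group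
      have hkz : k * z * k⁻¹ = z ∨ k * z * k⁻¹ = z⁻¹ := by
        have e := hkv (zt 0)
        rw [hψz, (gP_facts i).2] at e
        rcases hπ0 i with e' | e' <;> rw [e', ← hj] at e
        · left; rw [e, ← (gP_facts j).2, hback, hψz]
        · right; rw [e, ← (gP_facts j).2, show -pm (gP j) (zt 0) = pm (gP j) (-zt 0) from rfl, hback, hψneg, hψz]
      have hkN : k ∈ normalizer (Z : Set G) := by
        refine Subgroup.mem_normalizer_fintype fun u hu => ?_
        rw [SetLike.mem_coe, ← zpowers_eq_of_prime h.Z_card D.z_mem D.z_ne] at hu ⊢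
        obtain ⟨m, rfl⟩ := mem_zpowers_iff.1 hu
        rw [← conj_zpow]
        rcases hkz with e | e <;> rw [e]
        exacts [zpow_mem (mem_zpowers z) m, zpow_mem (inv_mem (mem_zpowers z)) m]
      have h1 := triv2_conj F hkN hkt ((htriv2 (pm (gP i).symm v)).2 (by
        show v ((gP i).symm.symm 0) = 0
        rw [Equiv.symm_symm, (gP_facts i).1]; exact hv))
      rw [hkv, show pm (gP i) (pm (gP i).symm v) = v by funext l; simp [pm]] at h1
      have e2 : (gvE j)⁻¹ * ψ (Lf v) * gvE j = ψ (pm (gP j).symm (Lf v)) := by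
        conv_lhs => rw [show Lf v = pm (gP j) (pm (gP j).symm (Lf v)) by funext l; simp [pm]]
        exact hback _
      rw [e2, htriv2] at h1
      rw [show pm (gP j).symm (Lf v) 0 = Lf v ((gP j) 0) by simp [pm], (gP_facts j).1] at h1
      exact h1
    -- the functional
    let e : Fin 4 → Ex := fun i => Pi.single i 1
    let c : Fin 4 → ZMod 3 := fun i => Lf (e i) (π0 i)
    have hLsm : ∀ (t : ZMod 3) v, Lf (t • v) = t • Lf v := by
      intro t v
      have h0 : Lf 0 = 0 := by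
        have := hLadd 0 0
        rw [add_zero] at this
        exact left_eq_add.1 this
      rcases z3_dec t with rfl | rfl | rfl
      · rw [zero_smul, zero_smul, h0]
      · rw [one_smul, one_smul]
      · rw [neg_one_smul, neg_one_smul]
        refine eq_neg_of_add_eq_zero_left ?_
        rw [← hLadd, neg_add_cancel, h0]
    have hfun : ∀ i v, Lf v (π0 i) = v i * c i := fun i v => by
      have h1 : v = v i • e i + (v - v i • e i) := by abel
      have h2 : (v - v i • e i) i = 0 := by simp [e]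
      conv_lhs => rw [h1, hLadd, Pi.add_apply, hker i _ h2, add_zero, hLsm]
      simp [c]
    have hπinj : Function.Injective π0 := fun i k ek => by
      by_contra hne
      have h1 := hfun i (zt k)
      have h2 := hfun k (zt k)
      rw [ek, h2] at h1
      have h3 : zt k k = 0 := by simp [zt]
      have h4 : zt k i = 1 := by simp [zt, Ne.symm hne]
      rw [h3, h4, zero_mul, one_mul] at h1
      have h5 : ∀ v, Lf v (π0 k) = 0 := fun v => by
        have := hfun i v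
        rw [ek, ← h1, mul_zero] at this
        exact this
      obtain ⟨l, hl⟩ := f_bij.2 (e (π0 k))
      have hmem : g'⁻¹ * (l : G) * g' ∈ A := by
        have := (mem_normalizer_iff.1 (inv_mem hgA) l).1 l.2
        rwa [inv_inv] at this
      have hval : Lf (f ⟨_, hmem⟩) = f l := hψinj (by
        rw [← hL, hψf, hψf]
        show g' * (g'⁻¹ * (l : G) * g') * g'⁻¹ = l
        group)
      have := h5 (f ⟨_, hmem⟩)
      rw [hval, hl] at this
      simp [e] at this
    let π : Equiv.Perm (Fin 4) := Equiv.ofBijective π0 ⟨hπinj, Finite.surjective_of_injective hπinj⟩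
    have hci : ∀ i k, k ≠ i → c k = if Lf (zt i) = zt (π0 i) then 1 else -1 := fun i k hk => by
      have h1 := hfun k (zt i)
      have h2 : zt i k = 1 := by simp [zt, Ne.symm hk]
      have hne' : π0 i ≠ π0 k := fun e' => hk (hπinj e').symm
      have h3 : zt (π0 i) (π0 k) = 1 := by simp [zt, hne']
      rw [h2, one_mul] at h1
      split_ifs with he
      · rw [← h1, he, h3]
      · rw [← h1, (hπ0 i).resolve_left he, Pi.neg_apply, h3]
    have hεc : ∀ k, c k = c 0 := fun k => by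
      obtain ⟨i, hi0, hik⟩ : ∃ i : Fin 4, (0 : Fin 4) ≠ i ∧ k ≠ i := by revert k; decide
      rw [hci i k hik, hci i 0 hi0]
    refine ⟨c 0, π, ?_, fun v => ?_⟩
    · rw [hci 1 0 (by decide)]
      split_ifs
      exacts [Or.inl rfl, Or.inr rfl]
    · rw [hL]
      refine congrArg ψ ?_
      funext l
      obtain ⟨k, rfl⟩ := π.surjective l
      show Lf v (π0 k) = c 0 • pm π v (π k)
      rw [hfun, hεc, show pm π v (π k) = v k by simp [pm], smul_eq_mul, mul_comm]
  have hdline : d ∈ zpowers (ψ ![0, 0, 1, -1]) := by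
    have h0 : f dA 0 = 0 := a0_d
    have h1 : f dA 1 = 0 := a1_W _ U.d_W
    have h23 : f dA 1 + f dA 2 + f dA 3 = 0 :=
      (htriv1 dA).1 (F.symm.symm.triv_Q (F.pair.le1 hdQ1) F.pair.le1)
    obtain ⟨c, hc⟩ : ∃ c : ZMod 3, f dA = c • ![0, 0, 1, -1] := by
      refine ⟨f dA 2, ?_⟩
      funext i
      fin_cases i
      · simpa using h0
      · simpa using h1
      · simp
      · simp only [Pi.smul_apply, smul_eq_mul]
        rw [h1, zero_add] at h23
        show f dA 3 = f dA 2 * (-1)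
        linear_combination h23
    have : ψ (f dA) ∈ zpowers (ψ ![0, 0, 1, -1]) := hc ▸ hsc c _
    rwa [hψf] at this
  exact ⟨b, ψ,
    { mem := fun x => ⟨fun hx => ⟨f ⟨x, hx⟩, hψf _⟩, fun ⟨v, hv⟩ => hv ▸ hψA v⟩
      add := hadd
      inj := hψinj
      z_eq := hψz
      y_eq := hψy
      d_eq := hdline
      W_eq := fun v => ⟨hWψ v, fun h' => hWf v h'.1 h'.2⟩
      b_mem := hb
      b_act := hbact
      n_act := hnact
      triv1 := htriv1'
      triv2 := htriv2
      pts := hpts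
      act := hact }⟩

end Cfsg.Agent.UThreeLocal.Big.Local
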