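import Mathlib
import Cfsg.Agent.Lib.LargeExtra.ExtFormTypes
import Cfsg.Agent.Lib.Omega8Mult.Model

/-!
# The group induced on four pairwise commuting quaternion groups divides `|O⁺₈(2)|`
-/

set_option autoImplicit false
set_option linter.unusedSectionVars false
set_option linter.style.haveILetI false

namespace Cfsg.Agent.UThreeLocal.Big

open Subgroup Cfsg.Agent.LargeExtra

universe u

variable {G : Type u} [Group G]

/-- The power with exponent modulo two. -/
def hypPow (x : G) (e : ZMod 2) : G := x ^ e.val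

theorem hypPow_zero (x : G) : hypPow x 0 = 1 := pow_zero x

theorem hypPow_one (x : G) : hypPow x 1 = x := pow_one x

theorem hypPow_add {x : G} (hx : x * x = 1) (a b : ZMod 2) : hypPow x (a + b) = hypPow x a * hypPow x b := by
  rcases AffineLinear.zmod_two_cases a with rfl | rfl <;> rcases AffineLinear.zmod_two_cases b with rfl | rfl
  · simp [hypPow_zero]
  · simp [hypPow_zero]
  · simp [hypPow_zero]
  · rw [show (1 : ZMod 2) + 1 = 0 by decide, hypPow_zero, hypPow_one, hx]

/-- The value of a hyperbolic pair. -/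
def hypVal (u v : G) (a b : ZMod 2) : G := hypPow v b * hypPow u a

theorem hypVal_mul {u v r : G} (hu : u * u = 1) (hv : v * v = 1) (hr : r * r = 1) (hcr : ∀ w, w = u ∨ w = v → Commute r w)
    (h : u * v = r * (v * u)) (a b a' b' : ZMod 2) :
    hypVal u v a b * hypVal u v a' b' = hypPow r (a * b') * hypVal u v (a + a') (b + b') := by
  have key : hypPow u a * hypPow v b' = hypPow r (a * b') * (hypPow v b' * hypPow u a) := by
    rcases AffineLinear.zmod_two_cases a with rfl | rfl <;> rcases AffineLinear.zmod_two_cases b' with rfl | rfl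
    · simp [hypPow_zero]
    · simp [hypPow_zero, hypPow_one]
    · simp [hypPow_zero, hypPow_one]
    · rw [mul_one, hypPow_one, hypPow_one, hypPow_one, h]
  have hc : Commute (hypPow v b) (hypPow r (a * b')) := ((hcr v (Or.inr rfl)).symm.pow_pow _ _)
  rw [hypVal, hypVal, hypVal, hypPow_add hv, hypPow_add hu,
    show hypPow v b * hypPow u a * (hypPow v b' * hypPow u a') = hypPow v b * (hypPow u a * hypPow v b') * hypPow u a' by group, key,
    show hypPow v b * (hypPow r (a * b') * (hypPow v b' * hypPow u a)) = (hypPow v b * hypPow r (a * b')) * (hypPow v b' * hypPow u a) by group,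
    hc.eq]
  group

theorem hypVal_commute {u v u' v' : G} (h1 : Commute u u') (h2 : Commute u v') (h3 : Commute v u') (h4 : Commute v v')
    (a b a' b' : ZMod 2) : Commute (hypVal u v a b) (hypVal u' v' a' b') :=
  (((h4.pow_pow _ _)).mul_right (h3.pow_pow _ _)).mul_left ((h2.pow_pow _ _).mul_right (h1.pow_pow _ _))

theorem hypVal_left {u v : G} : hypVal u v 1 0 = u := by rw [hypVal, hypPow_zero, hypPow_one, one_mul]

theorem hypVal_right {u v : G} : hypVal u v 0 1 = v := by rw [hypVal, hypPow_zero, hypPow_one, mul_one]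

theorem hypVal_none {u v : G} : hypVal u v 0 0 = 1 := by rw [hypVal, hypPow_zero, hypPow_zero, one_mul]

/-- Four commuting hyperbolic pairs over a central involution give the plus type extension. -/
theorem exists_hom {r : G} (hr : r * r = 1) (u v : Fin 4 → G) (hu : ∀ i, u i * u i = 1) (hv : ∀ i, v i * v i = 1)
    (hcu : ∀ i, Commute r (u i)) (hcv : ∀ i, Commute r (v i)) (h : ∀ i, u i * v i = r * (v i * u i))
    (huu : ∀ i j, i ≠ j → Commute (u i) (u j)) (hvv : ∀ i j, i ≠ j → Commute (v i) (v j))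
    (huv : ∀ i j, i ≠ j → Commute (u i) (v j)) :
    ∃ f : ExtForm.Ext (ExtForm.Bplus 4) →* G, r ∈ f.range ∧ ∀ i, u i ∈ f.range ∧ v i ∈ f.range := by
  let P : (Fin 4 ⊕ Fin 4 → ZMod 2) → Fin 4 → G := fun w i => hypVal (u i) (v i) (w (.inl i)) (w (.inr i))
  have hPc : ∀ w w' i j, i ≠ j → Commute (P w i) (P w' j) := fun w w' i j hij =>
    hypVal_commute (huu i j hij) (huv i j hij) (huv j i (Ne.symm hij)).symm (hvv i j hij) _ _ _ _
  have hPr : ∀ (w : Fin 4 ⊕ Fin 4 → ZMod 2) i (e : ZMod 2), Commute (P w i) (hypPow r e) := fun w i e =>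
    ((hcv i).symm.pow_pow _ _).mul_left ((hcu i).symm.pow_pow _ _)
  have hmul : ∀ w w' i, P w i * P w' i = hypPow r (w (.inl i) * w' (.inr i)) * P (w + w') i := fun w w' i =>
    hypVal_mul (hu i) (hv i) hr (by rintro x (rfl | rfl); exacts [hcu i, hcv i]) (h i) _ _ _ _
  let F : (Fin 4 ⊕ Fin 4 → ZMod 2) → G := fun w => P w 0 * P w 1 * P w 2 * P w 3
  have hFr : ∀ w e, Commute (F w) (hypPow r e) := fun w e =>
    (((hPr w 0 e).mul_left (hPr w 1 e)).mul_left (hPr w 2 e)).mul_left (hPr w 3 e)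
  have hF : ∀ w w', F w * F w' = hypPow r (ExtForm.β (ExtForm.Bplus 4) w w') * F (w + w') := by
    intro w w'
    show P w 0 * P w 1 * P w 2 * P w 3 * (P w' 0 * P w' 1 * P w' 2 * P w' 3) = _
    have c3 : Commute (P w 3) (P w' 0 * P w' 1 * P w' 2) :=
      ((hPc w w' 3 0 (by decide)).mul_right (hPc w w' 3 1 (by decide))).mul_right (hPc w w' 3 2 (by decide))
    have c2 : Commute (P w 2) (P w' 0 * P w' 1) :=
      (hPc w w' 2 0 (by decide)).mul_right (hPc w w' 2 1 (by decide))
    have c1 : Commute (P w 1) (P w' 0) := hPc w w' 1 0 (by decide)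
    have step : P w 0 * P w 1 * P w 2 * P w 3 * (P w' 0 * P w' 1 * P w' 2 * P w' 3) =
        (P w 0 * P w' 0) * (P w 1 * P w' 1) * (P w 2 * P w' 2) * (P w 3 * P w' 3) := by
      calc _ = P w 0 * P w 1 * P w 2 * (P w 3 * (P w' 0 * P w' 1 * P w' 2)) * P w' 3 := by group
        _ = P w 0 * P w 1 * (P w 2 * (P w' 0 * P w' 1)) * P w' 2 * (P w 3 * P w' 3) := by rw [c3.eq]; group
        _ = P w 0 * (P w 1 * P w' 0) * P w' 1 * (P w 2 * P w' 2) * (P w 3 * P w' 3) := by rw [c2.eq]; group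
        _ = _ := by rw [c1.eq]; group
    have d : ∀ (e : ZMod 2) i, P (w + w') i * hypPow r e = hypPow r e * P (w + w') i := fun e i => (hPr _ i e).eq
    rw [step, hmul, hmul, hmul, hmul, ExtForm.β_plus, Fin.sum_univ_four, hypPow_add hr, hypPow_add hr, hypPow_add hr]
    generalize hypPow r (w (.inl 0) * w' (.inr 0)) = a
    obtain ⟨b, eb⟩ : ∃ b, b = hypPow r (w (.inl 1) * w' (.inr 1)) := ⟨_, rfl⟩
    obtain ⟨c, ec⟩ : ∃ b, b = hypPow r (w (.inl 2) * w' (.inr 2)) := ⟨_, rfl⟩
    obtain ⟨d', ed⟩ : ∃ b, b = hypPow r (w (.inl 3) * w' (.inr 3)) := ⟨_, rfl⟩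
    rw [← eb, ← ec, ← ed]
    show _ = a * b * c * d' * (P (w + w') 0 * P (w + w') 1 * P (w + w') 2 * P (w + w') 3)
    have b0 : P (w + w') 0 * b = b * P (w + w') 0 := eb ▸ d _ 0
    have c0 : Commute (P (w + w') 0 * P (w + w') 1) c := ec ▸ (hPr _ 0 _).mul_left (hPr _ 1 _)
    have d0 : Commute (P (w + w') 0 * P (w + w') 1 * P (w + w') 2) d' :=
      ed ▸ ((hPr _ 0 _).mul_left (hPr _ 1 _)).mul_left (hPr _ 2 _)
    calc a * P (w + w') 0 * (b * P (w + w') 1) * (c * P (w + w') 2) * (d' * P (w + w') 3)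
        = a * (P (w + w') 0 * b) * P (w + w') 1 * (c * P (w + w') 2) * (d' * P (w + w') 3) := by group
      _ = a * b * ((P (w + w') 0 * P (w + w') 1) * c) * P (w + w') 2 * (d' * P (w + w') 3) := by rw [b0]; group
      _ = a * b * c * ((P (w + w') 0 * P (w + w') 1 * P (w + w') 2) * d') * P (w + w') 3 := by rw [c0.eq]; group
      _ = _ := by rw [d0.eq]; group
  let f : ExtForm.Ext (ExtForm.Bplus 4) →* G := MonoidHom.mk' (fun x => hypPow r x.a * F x.v) fun x y => by
    rw [ExtForm.mul_a, ExtForm.mul_v, hypPow_add hr, hypPow_add hr,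
      show hypPow r x.a * F x.v * (hypPow r y.a * F y.v) = hypPow r x.a * (F x.v * hypPow r y.a) * F y.v by group,
      (hFr x.v y.a).eq,
      show hypPow r x.a * (hypPow r y.a * F x.v) * F y.v = hypPow r x.a * hypPow r y.a * (F x.v * F y.v) by group, hF]
    group
  have hf : ∀ w, F w ∈ f.range := fun w => ⟨⟨0, w⟩, show hypPow r 0 * F w = F w by rw [hypPow_zero, one_mul]⟩
  have hF0 : F 0 = 1 := by simp [F, P, hypVal_none]
  refine ⟨f, ⟨⟨1, 0⟩, show hypPow r 1 * F 0 = r by rw [hF0, hypPow_one, mul_one]⟩, fun i => ⟨?_, ?_⟩⟩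
  · convert hf (Pi.single (.inl i) 1) using 1
    fin_cases i <;> simp [F, P, hypVal_none, hypVal_left, Pi.single_apply]
  · convert hf (Pi.single (.inr i) 1) using 1
    fin_cases i <;> simp [F, P, hypVal_none, hypVal_right, Pi.single_apply]

/-- Two commuting quaternion pairs contain two commuting hyperbolic pairs generating them. -/
theorem exists_hyperbolic {r a b c d : G} (hr : r * r = 1) (ha : a * a = r) (hb : b * b = r) (hc : c * c = r)
    (hd : d * d = r) (hab : a * b = r * (b * a)) (hcd : c * d = r * (d * c)) (hac : Commute a c) (had : Commute a d)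
    (hbc : Commute b c) (hbd : Commute b d) :
    let s := a * c
    let t := b * c
    let p := a * b * d
    let q := a * b * (c * d)
    (s * s = 1 ∧ t * t = 1 ∧ p * p = 1 ∧ q * q = 1) ∧
      (s * t = r * (t * s) ∧ p * q = r * (q * p)) ∧
      (Commute s p ∧ Commute s q ∧ Commute t p ∧ Commute t q) := by
  intro s t p q
  have ra : Commute r a := by rw [← ha]; exact (Commute.refl a).mul_left (Commute.refl a)
  have rb : Commute r b := by rw [← hb]; exact (Commute.refl b).mul_left (Commute.refl b)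
  have rc : Commute r c := by rw [← hc]; exact (Commute.refl c).mul_left (Commute.refl c)
  have rd : Commute r d := by rw [← hd]; exact (Commute.refl d).mul_left (Commute.refl d)
  have hba : b * a = r * (a * b) := by rw [hab, ← mul_assoc, hr, one_mul]
  have hdc : d * c = r * (c * d) := by rw [hcd, ← mul_assoc, hr, one_mul]
  have e1 : a * (a * b) = r * b := by rw [← mul_assoc, ha]
  have e2 : a * b * a = b := by rw [mul_assoc, hba, ← mul_assoc, ← ra.eq, mul_assoc, e1, ← mul_assoc, hr, one_mul]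
  have e3 : a * b * b = r * a := by rw [mul_assoc, hb, ← ra.eq]
  have e4 : b * (a * b) = a := by rw [← mul_assoc, hba, mul_assoc, e3, ← mul_assoc, hr, one_mul]
  have hcs : ∀ {x y z w : G}, Commute y z → x * y * (z * w) = (x * z) * (y * w) := by
    intro x y z w h
    rw [show x * y * (z * w) = x * (y * z) * w by group, h.eq]
    group
  have abc : Commute (a * b) c := hac.mul_left hbc
  have abd : Commute (a * b) d := had.mul_left hbd
  have sq_ab : a * b * (a * b) = r := by rw [← mul_assoc, e2, hb]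
  have sq_cd : c * d * (c * d) = r := by
    rw [show c * d * (c * d) = c * (d * c) * d by group, hdc, ← mul_assoc, ← rc.eq,
      show r * c * (c * d) * d = r * (c * c) * (d * d) by group, hc, hd, hr, one_mul]
  refine ⟨⟨?_, ?_, ?_, ?_⟩, ⟨?_, ?_⟩, ⟨?_, ?_, ?_, ?_⟩⟩
  · show a * c * (a * c) = 1
    rw [hcs hac.symm, ha, hc, hr]
  · show b * c * (b * c) = 1
    rw [hcs hbc.symm, hb, hc, hr]
  · show a * b * d * (a * b * d) = 1
    rw [hcs abd.symm, sq_ab, hd, hr]
  · show a * b * (c * d) * (a * b * (c * d)) = 1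
    rw [hcs (abc.mul_right abd).symm, sq_ab, sq_cd, hr]
  · show a * c * (b * c) = r * (b * c * (a * c))
    rw [hcs hbc.symm, hcs hac.symm, hc, hab]
    group
  · show a * b * d * (a * b * (c * d)) = r * (a * b * (c * d) * (a * b * d))
    rw [hcs abd.symm, hcs (abc.mul_right abd).symm, ← mul_assoc r, ← sq_ab]
    rw [show d * (c * d) = r * (c * d * d) by rw [← mul_assoc, hdc]; group]
    rw [← mul_assoc (a * b * (a * b)) r]
    rw [sq_ab]
  · show a * c * (a * b * d) = a * b * d * (a * c)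
    rw [hcs abc.symm, hcs had.symm, e1, e2, hdc, ← mul_assoc b r, ← rb.eq]
  · show a * c * (a * b * (c * d)) = a * b * (c * d) * (a * c)
    rw [hcs abc.symm, hcs (hac.mul_right had).symm, e1, e2,
      show c * d * c = c * (d * c) by group, hdc, ← mul_assoc c r, ← rc.eq,
      show b * (r * c * (c * d)) = b * r * (c * (c * d)) by group, ← rb.eq]
  · show b * c * (a * b * d) = a * b * d * (b * c)
    rw [hcs abc.symm, hcs hbd.symm, e3, e4, hdc, ← mul_assoc (r * a) r, mul_assoc r a r, ← ra.eq,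
      ← mul_assoc r r a, hr, one_mul]
  · show b * c * (a * b * (c * d)) = a * b * (c * d) * (b * c)
    rw [hcs abc.symm, hcs (hbc.mul_right hbd).symm, e3, e4, show c * d * c = c * (d * c) by group, hdc,
      ← mul_assoc c r, ← rc.eq, show r * a * (r * c * (c * d)) = r * a * r * (c * (c * d)) by group,
      mul_assoc r a r, ← ra.eq, ← mul_assoc r r a, hr, one_mul]

variable [Finite G]

/-- THEOREM: what normalises `R` and centralises `r` induces at most `O⁺₈(2)` on `R`. -/
theorem card_quot_dvd {r : G} (hr : orderOf r = 2) (R N : Subgroup G) (x y : Fin 4 → G)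
    (hxx : ∀ i, x i * x i = r) (hyy : ∀ i, y i * y i = r) (hxy : ∀ i, x i * y i = r * (y i * x i))
    (hcc : ∀ i j, i ≠ j → Commute (x i) (x j) ∧ Commute (x i) (y j) ∧ Commute (y i) (y j))
    (hR : closure (Set.range x ∪ Set.range y) = R) (hcard : Nat.card ↥R = 512)
    (hC : centralizer (R : Set G) = zpowers r) (hRN : R ≤ N)
    (hN : N ≤ normalizer (R : Set G) ⊓ centralizer ({r} : Set G)) :
    R.relIndex N ∣ 348364800 := by
  classical
  have hr2 : r * r = 1 := by rw [← pow_two, ← hr, pow_orderOf_eq_one]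
  obtain ⟨hs1, hst1, hc1⟩ := exists_hyperbolic hr2 (hxx 0) (hyy 0) (hxx 1) (hyy 1) (hxy 0) (hxy 1)
    (hcc 0 1 (by decide)).1 (hcc 0 1 (by decide)).2.1 (hcc 1 0 (by decide)).2.1.symm (hcc 0 1 (by decide)).2.2
  obtain ⟨hs2, hst2, hc2⟩ := exists_hyperbolic hr2 (hxx 2) (hyy 2) (hxx 3) (hyy 3) (hxy 2) (hxy 3)
    (hcc 2 3 (by decide)).1 (hcc 2 3 (by decide)).2.1 (hcc 3 2 (by decide)).2.1.symm (hcc 2 3 (by decide)).2.2
  have cx : ∀ i, Commute r (x i) := fun i => by
    rw [← hxx i]; exact (Commute.refl _).mul_left (Commute.refl _)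
  have cy : ∀ i, Commute r (y i) := fun i => by
    rw [← hyy i]; exact (Commute.refl _).mul_left (Commute.refl _)
  let u : Fin 4 → G := ![x 0 * x 1, x 0 * y 0 * y 1, x 2 * x 3, x 2 * y 2 * y 3]
  let v : Fin 4 → G := ![y 0 * x 1, x 0 * y 0 * (x 1 * y 1), y 2 * x 3, x 2 * y 2 * (x 3 * y 3)]
  -- everything in the first half commutes with everything in the second
  let A : Subgroup G := closure ({x 0, y 0, x 1, y 1} : Set G)
  let B : Subgroup G := closure ({x 2, y 2, x 3, y 3} : Set G)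
  have hAB : ∀ a ∈ A, ∀ b ∈ B, Commute a b := by
    have hsub : B ≤ centralizer (A : Set G) := by
      rw [centralizer_closure, closure_le]
      intro b hb
      refine mem_centralizer_iff.2 fun a ha => ?_
      simp only [Set.mem_insert_iff, Set.mem_singleton_iff] at ha hb
      rcases ha with rfl | rfl | rfl | rfl <;> rcases hb with rfl | rfl | rfl | rfl <;>
        first
        | exact (hcc _ _ (by decide)).1.eq
        | exact (hcc _ _ (by decide)).2.1.eq
        | exact (hcc _ _ (by decide)).2.1.symm.eq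
        | exact (hcc _ _ (by decide)).2.2.eq
    exact fun a ha b hb => mem_centralizer_iff.1 (hsub hb) a ha
  have mA : x 0 ∈ A ∧ y 0 ∈ A ∧ x 1 ∈ A ∧ y 1 ∈ A :=
    ⟨subset_closure (by simp), subset_closure (by simp), subset_closure (by simp), subset_closure (by simp)⟩
  have mB : x 2 ∈ B ∧ y 2 ∈ B ∧ x 3 ∈ B ∧ y 3 ∈ B :=
    ⟨subset_closure (by simp), subset_closure (by simp), subset_closure (by simp), subset_closure (by simp)⟩
  have uA : u 0 ∈ A ∧ u 1 ∈ A ∧ v 0 ∈ A ∧ v 1 ∈ A :=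
    ⟨mul_mem mA.1 mA.2.2.1, mul_mem (mul_mem mA.1 mA.2.1) mA.2.2.2, mul_mem mA.2.1 mA.2.2.1,
      mul_mem (mul_mem mA.1 mA.2.1) (mul_mem mA.2.2.1 mA.2.2.2)⟩
  have uB : u 2 ∈ B ∧ u 3 ∈ B ∧ v 2 ∈ B ∧ v 3 ∈ B :=
    ⟨mul_mem mB.1 mB.2.2.1, mul_mem (mul_mem mB.1 mB.2.1) mB.2.2.2, mul_mem mB.2.1 mB.2.2.1,
      mul_mem (mul_mem mB.1 mB.2.1) (mul_mem mB.2.2.1 mB.2.2.2)⟩
  obtain ⟨f, hfr, hfuv⟩ := exists_hom hr2 u v
    (by intro i; fin_cases i; exacts [hs1.1, hs1.2.2.1, hs2.1, hs2.2.2.1])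
    (by intro i; fin_cases i; exacts [hs1.2.1, hs1.2.2.2, hs2.2.1, hs2.2.2.2])
    (by intro i; fin_cases i; exacts [(cx 0).mul_right (cx 1), ((cx 0).mul_right (cy 0)).mul_right (cy 1),
      (cx 2).mul_right (cx 3), ((cx 2).mul_right (cy 2)).mul_right (cy 3)])
    (by intro i; fin_cases i; exacts [(cy 0).mul_right (cx 1),
      ((cx 0).mul_right (cy 0)).mul_right ((cx 1).mul_right (cy 1)),
      (cy 2).mul_right (cx 3), ((cx 2).mul_right (cy 2)).mul_right ((cx 3).mul_right (cy 3))])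
    (by intro i; fin_cases i; exacts [hst1.1, hst1.2, hst2.1, hst2.2])
    (by
      intro i j hij; fin_cases i <;> fin_cases j <;> first
        | exact absurd rfl hij
        | exact hc1.1 | exact hc1.1.symm | exact hc2.1 | exact hc2.1.symm
        | exact hAB _ uA.1 _ uB.1 | exact hAB _ uA.1 _ uB.2.1 | exact hAB _ uA.2.1 _ uB.1
        | exact hAB _ uA.2.1 _ uB.2.1 | exact (hAB _ uA.1 _ uB.1).symm | exact (hAB _ uA.1 _ uB.2.1).symm
        | exact (hAB _ uA.2.1 _ uB.1).symm | exact (hAB _ uA.2.1 _ uB.2.1).symm)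
    (by
      intro i j hij; fin_cases i <;> fin_cases j <;> first
        | exact absurd rfl hij
        | exact hc1.2.2.2 | exact hc1.2.2.2.symm | exact hc2.2.2.2 | exact hc2.2.2.2.symm
        | exact hAB _ uA.2.2.1 _ uB.2.2.1 | exact hAB _ uA.2.2.1 _ uB.2.2.2 | exact hAB _ uA.2.2.2 _ uB.2.2.1
        | exact hAB _ uA.2.2.2 _ uB.2.2.2 | exact (hAB _ uA.2.2.1 _ uB.2.2.1).symm
        | exact (hAB _ uA.2.2.1 _ uB.2.2.2).symm | exact (hAB _ uA.2.2.2 _ uB.2.2.1).symm
        | exact (hAB _ uA.2.2.2 _ uB.2.2.2).symm)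
    (by
      intro i j hij; fin_cases i <;> fin_cases j <;> first
        | exact absurd rfl hij
        | exact hc1.2.1 | exact hc1.2.2.1.symm | exact hc2.2.1 | exact hc2.2.2.1.symm
        | exact hAB _ uA.1 _ uB.2.2.1 | exact hAB _ uA.1 _ uB.2.2.2 | exact hAB _ uA.2.1 _ uB.2.2.1
        | exact hAB _ uA.2.1 _ uB.2.2.2 | exact (hAB _ uA.2.2.1 _ uB.1).symm
        | exact (hAB _ uA.2.2.1 _ uB.2.1).symm | exact (hAB _ uA.2.2.2 _ uB.1).symm
        | exact (hAB _ uA.2.2.2 _ uB.2.1).symm)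
  have hxR : ∀ i, x i ∈ R ∧ y i ∈ R := fun i =>
    ⟨hR ▸ subset_closure (Or.inl ⟨i, rfl⟩), hR ▸ subset_closure (Or.inr ⟨i, rfl⟩)⟩
  -- the four generators of a half lie in the range
  have four : ∀ a b c d : G, a * b * d ∈ f.range → a * b * (c * d) ∈ f.range → a * c ∈ f.range →
      b * c ∈ f.range → c * d = r * (d * c) → Commute r d →
      (a ∈ f.range ∧ b ∈ f.range) ∧ (c ∈ f.range ∧ d ∈ f.range) := by
    intro a b c d hp hq hs ht hcd hrd
    have hc : c ∈ f.range := by
      have h1 : (a * b * d)⁻¹ * (a * b * (c * d)) = d⁻¹ * (c * d) := by group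
      have h2 : d⁻¹ * (c * d) = r * c := by rw [hcd, ← mul_assoc, ← hrd.inv_right.eq]; group
      have := mul_mem (inv_mem hp) hq
      rw [h1, h2] at this
      simpa using mul_mem (inv_mem hfr) this
    have ha : a ∈ f.range := by simpa using mul_mem hs (inv_mem hc)
    have hb : b ∈ f.range := by simpa using mul_mem ht (inv_mem hc)
    have hd : d ∈ f.range := by simpa [mul_assoc] using mul_mem (inv_mem (mul_mem ha hb)) hp
    exact ⟨⟨ha, hb⟩, hc, hd⟩
  have h01 := four (x 0) (y 0) (x 1) (y 1) (hfuv 1).1 (hfuv 1).2 (hfuv 0).1 (hfuv 0).2 (hxy 1) (cy 1)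
  have h23 := four (x 2) (y 2) (x 3) (y 3) (hfuv 3).1 (hfuv 3).2 (hfuv 2).1 (hfuv 2).2 (hxy 3) (cy 3)
  have hRf : R ≤ f.range := by
    rw [← hR, closure_le]
    rintro _ (⟨i, rfl⟩ | ⟨i, rfl⟩) <;> fin_cases i
    exacts [h01.1.1, h01.2.1, h23.1.1, h23.2.1, h01.1.2, h01.2.2, h23.1.2, h23.2.2]
  have hcard' : Nat.card (ExtForm.Ext (ExtForm.Bplus 4)) = 512 := by
    rw [ExtForm.card_ext, Fintype.card_sum, Fintype.card_fin]; norm_num
  have hfR : f.range = R := by
    refine ((eq_of_le_of_card_ge hRf ?_)).symm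
    rw [hcard, ← hcard']
    exact Nat.card_le_card_of_surjective _ f.rangeRestrict_surjective
  have hinj : Function.Injective f := by
    have hb : Function.Bijective f.rangeRestrict :=
      (Nat.bijective_iff_surjective_and_card _).2 ⟨f.rangeRestrict_surjective, by rw [hcard', hfR, hcard]⟩
    exact fun a b e => hb.1 (Subtype.ext e)
  let e : ExtForm.Ext (ExtForm.Bplus 4) ≃* ↥R := (MonoidHom.ofInjective hinj).trans (MulEquiv.subgroupCongr hfR)
  obtain ⟨e1⟩ := ExtForm.out_congr e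
  haveI : Nonempty (Fin 4 ⊕ Fin 4) := ⟨.inl 0⟩
  obtain ⟨e2⟩ := ExtForm.out_equiv (ExtForm.nondeg_plus 4) (Cfsg.quadFormPlus 4 (ZMod 2))
    (ExtForm.quadFormPlus_eq 4)
  have hout : Nat.card (Cfsg.Out ↥R) = 348364800 := by
    rw [← Nat.card_congr e1.toEquiv, Nat.card_congr e2.toEquiv]
    exact Omega8Mult.card_O8
  -- the action
  have hnorm : ∀ n : ↥N, (n : G) ∈ normalizer (R : Set G) := fun n => (mem_inf.1 (hN n.2)).1
  let act : ↥N →* MulAut ↥R := (Subgroup.normalizerMonoidHom R).comp (Subgroup.inclusion fun n hn => hnorm ⟨n, hn⟩)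
  let g : ↥N →* Cfsg.Out ↥R := (QuotientGroup.mk' _).comp act
  have hker : g.ker = R.subgroupOf N := by
    ext n
    rw [MonoidHom.mem_ker, mem_subgroupOf]
    refine (QuotientGroup.eq_one_iff _).trans ⟨?_, ?_⟩
    · rintro ⟨k, hk⟩
      have hc : (k : G)⁻¹ * n ∈ centralizer (R : Set G) := by
        refine mem_centralizer_iff.2 fun w hw => ?_
        have e3 : (k : G) * w * (k : G)⁻¹ = (n : G) * w * (n : G)⁻¹ :=
          congrArg (fun φ : MulAut ↥R => ((φ ⟨w, hw⟩ : ↥R) : G)) hk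
        calc w * ((k : G)⁻¹ * n) = (k : G)⁻¹ * ((k : G) * w * (k : G)⁻¹) * n := by group
          _ = _ := by rw [e3]; group
      rw [hC] at hc
      have hrR : r ∈ R := hxx 0 ▸ mul_mem (hxR 0).1 (hxR 0).1
      simpa using mul_mem k.2 (zpowers_le.2 hrR hc)
    · exact fun h => ⟨⟨n, h⟩, MulEquiv.ext fun w => Subtype.ext rfl⟩
  rw [Subgroup.relIndex, ← hker, Subgroup.index_ker, ← hout]
  exact card_subgroup_dvd_card _

end Cfsg.Agent.UThreeLocal.Big
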