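import Cfsg.Agent.Lib.UThreeLocal.Big.Local.Interface

/-!
# Coordinates on `B`, the shift by an element of `Q₂` and the points of `B`

`psB` takes exponents in `F₃⁴ × F₃`; the points of `B` are the four lines of `A` and their two translates.
-/

set_option autoImplicit false
set_option linter.unusedSectionVars false
set_option linter.style.haveILetI false

namespace Cfsg.Agent.UThreeLocal.Big.Local

open Subgroup
open Cfsg.Agent.UThreeLocal.Cand (zp_cases)

universe u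

variable {G : Type u} [Group G]

/-- Exponents on `B`. -/
abbrev ExB : Type := Ex × ZMod 3

/-- The linear form whose kernel gives `H`. -/
def formH (v : Ex) : ZMod 3 := v 0 + v 1 - v 2 - v 3

/-- The power with exponent modulo three. -/
def powB (u : G) (k : ZMod 3) : G := u ^ k.val

/-- The coordinates. -/
def psB (ψ : Ex → G) (u : G) (x : ExB) : G := ψ x.1 * powB u x.2

/-- The action of the shifting element. -/
def qmap (m : ZMod 3) (x : ExB) : ExB := (x.1 + (m * x.1 0 - m * x.2) • zt 0, x.2 + x.1 0)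

/-- The exponents of the points. -/
def ptList (m : ZMod 3) : List ExB :=
  (List.finRange 4).flatMap fun i =>
    [(zt i, 0), (-zt i, 0), qmap m (zt i, 0), qmap m (-zt i, 0), qmap m (qmap m (zt i, 0)),
      qmap m (qmap m (-zt i, 0))]

/-- The linear map with two given values and the identity on `H`. -/
def lmapB (m : ZMod 3) (Z0 P1 x : ExB) : ExB :=
  let w : Ex := x.1 - x.2 • (qmap m (zt 1, 0)).1
  let α : ZMod 3 := -formH w
  ((w - α • zt 0, 0) : ExB) + α • Z0 + x.2 • P1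

theorem powB_zero (u : G) : powB u 0 = 1 := pow_zero u

theorem powB_one (u : G) : powB u 1 = u := pow_one u

theorem powB_add {u : G} (h3 : u ^ 3 = 1) (k l : ZMod 3) : powB u (k + l) = powB u k * powB u l := by
  rw [powB, powB, powB, ← pow_add, pow_eq_pow_mod (k.val + l.val) h3, ZMod.val_add]

theorem powB_neg {u : G} (h3 : u ^ 3 = 1) (k : ZMod 3) : powB u (-k) = (powB u k)⁻¹ :=
  eq_inv_of_mul_eq_one_left (by rw [← powB_add h3, neg_add_cancel, powB_zero])

theorem formH_add (v w : Ex) : formH (v + w) = formH v + formH w := by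
  simp only [formH, Pi.add_apply]; ring

theorem formH_smul (c : ZMod 3) (v : Ex) : formH (c • v) = c * formH v := by
  simp only [formH, Pi.smul_apply, smul_eq_mul]; ring

theorem formH_sub (v w : Ex) : formH (v - w) = formH v - formH w := by
  simp only [formH, Pi.sub_apply]; ring

theorem neg_eq_self : ∀ c : ZMod 3, -c = c → c = 0 := by decide

theorem shift_const : ∀ m c : ZMod 3, m ≠ 0 → c ≠ 0 → m + m + c ≠ 0 → c = -m := by decide

theorem exists_line : ∀ v0 k : ZMod 3, v0 ≠ 0 → k = 0 ∨ k + v0 = 0 ∨ k + v0 + v0 = 0 := by decide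

variable [Finite G] {Z Q Q1 Q2 L1 L2 P W : Subgroup G} {t1 t2 z y g d a n b : G} {ψ : Ex → G}

/-- An element `u` of `⟨a⟩` and `q ∈ Q₂` moving the coordinates by `qmap m`. -/
structure Shift (Q2 : Subgroup G) (a : G) (ψ : Ex → G) (q u : G) (m : ZMod 3) : Prop where
  q_mem : q ∈ Q2
  u_mem : u ∈ zpowers a
  u_ne : u ≠ 1
  m_ne : m ≠ 0
  conj : ∀ x : ExB, q * psB ψ u x * q⁻¹ = psB ψ u (qmap m x)

namespace Coord

variable (D : BigData Z Q Q1 Q2 L1 L2 P t1 t2 z y g d a) (C : Crd Z Q1 Q2 W (AA P y t2) t2 z y d n b ψ)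
include C

theorem mem_A (v : Ex) : ψ v ∈ AA P y t2 := (C.mem _).2 ⟨v, rfl⟩

theorem psi_zero : ψ 0 = 1 := by
  have := C.add 0 0
  rw [add_zero] at this
  exact (left_eq_mul.1 this)

theorem psi_neg (v : Ex) : ψ (-v) = (ψ v)⁻¹ :=
  eq_inv_of_mul_eq_one_left (by rw [← C.add, neg_add_cancel, psi_zero C])

theorem psi_nsmul (k : ℕ) (v : Ex) : ψ (k • v) = ψ v ^ k := by
  induction k with
  | zero => rw [zero_smul, psi_zero C, pow_zero]
  | succ k ih => rw [succ_nsmul, C.add, ih, pow_succ]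

theorem psi_smul (c : ZMod 3) (v : Ex) : ψ (c • v) = ψ v ^ c.val := by
  rw [← psi_nsmul C, ← Nat.cast_smul_eq_nsmul (ZMod 3), ZMod.natCast_zmod_val]

include D

theorem u_facts {u : G} (hu : u ∈ zpowers a) (hu1 : u ≠ 1) :
    u ^ 3 = 1 ∧ zpowers u = zpowers a ∧ t2 * u * t2⁻¹ = u⁻¹ ∧ u ∈ BB P y ∧ u ∈ Q2 ∧ u ∈ cj g Q := by
  haveI : Fact (Nat.Prime 3) := ⟨Nat.prime_three⟩
  have hca : Nat.card ↥(zpowers a) = 3 := by rw [Nat.card_zpowers, orderOf_eq_prime D.a_cube D.a_ne]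
  have hz := zpowers_eq_of_prime hca hu hu1
  obtain ⟨k, rfl⟩ := mem_zpowers_iff.1 hu
  refine ⟨?_, hz, ?_, (zpowers_le.2 (D.W_le_B D.a_W)) hu, (zpowers_le.2 D.flag2.mem) hu,
    (zpowers_le.2 D.a_rad) hu⟩
  · rw [← zpow_natCast, ← zpow_mul, mul_comm, zpow_mul, zpow_natCast, D.a_cube, one_zpow]
  · rw [← conj_zpow, D.a_inv, inv_zpow]

theorem pow_A {u : G} (hu : u ∈ zpowers a) (hu1 : u ≠ 1) {k : ZMod 3} (h : powB u k ∈ AA P y t2) : k = 0 := by
  obtain ⟨h3, hz, -⟩ := u_facts D C hu hu1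
  by_contra hk
  refine D.a_notA ?_
  have huA : u ∈ AA P y t2 := by
    rcases (by decide : ∀ k : ZMod 3, k ≠ 0 → k = 1 ∨ k = 2) k hk with rfl | rfl
    · rwa [powB_one] at h
    · have : u = (powB u 2)⁻¹ := by
        refine eq_inv_of_mul_eq_one_left ?_
        rw [powB, show (2 : ZMod 3).val = 2 from rfl, ← pow_succ', h3]
      rw [this]; exact inv_mem h
  exact (zpowers_le.2 huA) (hz.ge (mem_zpowers a))

variable {u : G} (hu : u ∈ zpowers a) (hu1 : u ≠ 1)
include hu hu1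

theorem psB_mem (x : ExB) : psB ψ u x ∈ BB P y :=
  mul_mem (mem_inf.1 (mem_A C _)).1 (pow_mem (u_facts D C hu hu1).2.2.2.1 _)

theorem psB_add (x w : ExB) : psB ψ u (x + w) = psB ψ u x * psB ψ u w := by
  obtain ⟨h3, -, -, hB, -⟩ := u_facts D C hu hu1
  simp only [psB, Prod.fst_add, Prod.snd_add, C.add, powB_add h3]
  have hc : powB u x.2 * ψ w.1 = ψ w.1 * powB u x.2 :=
    D.B_comm (pow_mem hB _) (mem_inf.1 (mem_A C _)).1
  rw [show ψ x.1 * powB u x.2 * (ψ w.1 * powB u w.2) = ψ x.1 * (powB u x.2 * ψ w.1) * powB u w.2 by group, hc]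
  group

theorem psB_zero : psB ψ u 0 = 1 := by
  simp only [psB, Prod.fst_zero, Prod.snd_zero, psi_zero C, powB_zero, mul_one]

theorem psB_neg (x : ExB) : psB ψ u (-x) = (psB ψ u x)⁻¹ :=
  eq_inv_of_mul_eq_one_left (by rw [← psB_add D C hu hu1, neg_add_cancel, psB_zero D C hu hu1])

theorem psB_nsmul (k : ℕ) (x : ExB) : psB ψ u (k • x) = psB ψ u x ^ k := by
  induction k with
  | zero => rw [zero_smul, psB_zero D C hu hu1, pow_zero]
  | succ k ih => rw [succ_nsmul, psB_add D C hu hu1, ih, pow_succ]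

theorem psB_smul (c : ZMod 3) (x : ExB) : psB ψ u (c • x) = psB ψ u x ^ c.val := by
  rw [← psB_nsmul D C hu hu1, ← Nat.cast_smul_eq_nsmul (ZMod 3), ZMod.natCast_zmod_val]

theorem psB_inj : Function.Injective (psB ψ u) := by
  intro x w e
  obtain ⟨h3, -⟩ := u_facts D C hu hu1
  have h0 : psB ψ u (x - w) = 1 := by
    rw [sub_eq_add_neg, psB_add D C hu hu1, psB_neg D C hu hu1, e, mul_inv_cancel]
  have h2 : (x - w).2 = 0 := pow_A D C hu hu1 (by
    rw [show powB u (x - w).2 = (ψ (x - w).1)⁻¹ * psB ψ u (x - w) by rw [psB, inv_mul_cancel_left], h0, mul_one]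
    exact inv_mem (mem_A C _))
  rw [psB, h2, powB_zero, mul_one, ← psi_zero C] at h0
  exact sub_eq_zero.1 (Prod.ext (C.inj h0) h2)

theorem psB_surj {x : G} (hx : x ∈ BB P y) : ∃ w : ExB, psB ψ u w = x := by
  let f : ExB → ↥(BB P y) := fun w => ⟨psB ψ u w, psB_mem D C hu hu1 w⟩
  have hf : Function.Injective f := fun x w e => psB_inj D C hu hu1 (congrArg Subtype.val e)
  have hb := (Nat.bijective_iff_injective_and_card f).2 ⟨hf, by
    rw [D.card_B, Nat.card_eq_fintype_card]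
    decide +kernel⟩
  obtain ⟨w, hw⟩ := hb.2 ⟨x, hx⟩
  exact ⟨w, congrArg Subtype.val hw⟩

theorem psB_t2 (x : ExB) : t2 * psB ψ u x * t2⁻¹ = psB ψ u (x.1, -x.2) := by
  obtain ⟨h3, -, hinv, -⟩ := u_facts D C hu hu1
  simp only [psB, powB_neg h3]
  rw [show t2 * (ψ x.1 * powB u x.2) * t2⁻¹ = (t2 * ψ x.1 * t2⁻¹) * (t2 * powB u x.2 * t2⁻¹) by group,
    ← D.A_t2 (mem_A C _), mul_inv_cancel_right]
  congr 1
  rw [powB, ← conj_pow, hinv, inv_pow]

/-- An element of `B` inverted by `r` is a power of `u`. -/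
theorem inv_B {x : G} (hx : x ∈ BB P y) (hi : t2 * x * t2⁻¹ = x⁻¹) : ∃ k : ZMod 3, x = powB u k := by
  obtain ⟨w, rfl⟩ := psB_surj D C hu hu1 hx
  rw [psB_t2 D C hu hu1, ← psB_neg D C hu hu1] at hi
  have h1 : w.1 = -w.1 := congrArg Prod.fst (psB_inj D C hu hu1 hi)
  have h0 : w.1 = 0 := funext fun i => neg_eq_self _ (congrFun h1.symm i)
  exact ⟨w.2, by rw [psB, h0, psi_zero C, one_mul]⟩

omit hu hu1

theorem exists_shift : ∃ q u m, Shift Q2 a ψ q u m := by
  have h := D.set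
  have F := D.frame
  obtain ⟨q, hq, u, hu, hu1, w, hw, e⟩ := D.exists_shift2
  obtain ⟨h3, hzu, hinv, huB, huQ2, hug⟩ := u_facts D C hu hu1
  have hqC := h.Q_le (F.pair.le2 hq)
  have huQ := F.pair.le2 huQ2
  have hZ : ∀ w ∈ Z, ∃ c : ZMod 3, w = ψ (c • zt 0) := fun w hw => by
    rcases zp_cases h.Z_card D.z_mem D.z_ne hw with rfl | rfl | rfl
    · exact ⟨0, by rw [zero_smul, psi_zero C]⟩
    · exact ⟨1, by rw [one_smul, C.z_eq]⟩
    · exact ⟨-1, by rw [neg_one_smul, psi_neg C, C.z_eq]⟩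
  obtain ⟨m, hm⟩ := hZ w hw
  have hζ : u⁻¹ * (q * u * q⁻¹) ∈ Z := F.triv_Q (F.pair.le2 hq) F.pair.le2 u huQ2
  obtain ⟨c, hc⟩ := hZ _ hζ
  have equ : q * u * q⁻¹ = psB ψ u (c • zt 0, 1) := by
    have huc : u * ψ (c • zt 0) = ψ (c • zt 0) * u := D.B_comm huB (mem_inf.1 (mem_A C _)).1
    rw [psB, powB_one, ← huc, ← hc, mul_inv_cancel_left]
  have eqy : q * y * q⁻¹ = psB ψ u (zt 1 + m • zt 0, 1) := by
    rw [e, hm, psB, powB_one, C.add, C.y_eq, mul_assoc, D.B_comm huB (mem_inf.1 (mem_A C _)).1, ← mul_assoc]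
  have hm0 : m ≠ 0 := fun hm0 => by
    refine D.not_pt_rad huQ hug hu1 ?_
    have := D.pt.conj q
    rwa [eqy, hm0, zero_smul, add_zero, psB, powB_one, C.y_eq] at this
  have hc0 : c ≠ 0 := fun hc0 => by
    rw [hc0, zero_smul] at hc
    rw [psi_zero C] at hc
    have hqu : u * q = q * u := by
      calc u * q = u * (u⁻¹ * (q * u * q⁻¹)) * q := by rw [hc]; group
        _ = q * u := by group
    have hqa : a * q = q * a := by
      obtain ⟨k, hk⟩ := mem_zpowers_iff.1 (hzu.ge (mem_zpowers a))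
      rw [← hk]
      exact ((show Commute u q from hqu).zpow_left k).eq
    have hqW : q ∈ Z ⊔ zpowers a := by
      rw [← F.pair.symm.cent_eq h D.flag2.mem D.flag2.notZ]
      exact mem_inf.2 ⟨hq, mem_centralizer_singleton_iff.2 hqa.symm⟩
    have hqB : q ∈ BB P y :=
      (sup_le ((h.Z_le_Fx D.y_cent).trans D.W_le_B) (zpowers_le.2 (D.W_le_B D.a_W))) hqW
    have h1 : y = y * u * w := by
      rw [← e, D.B_comm hqB D.y_B, mul_inv_cancel_right]
    rw [mul_assoc, left_eq_mul] at h1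
    refine hu1 (D.rad_inf_Z hug ?_)
    rw [eq_inv_of_mul_eq_one_left h1]; exact inv_mem hw
  have hadd := psB_add D C hu hu1
  have e2 : q * (q * y * q⁻¹) * q⁻¹ = psB ψ u (zt 1 + (m + m + c) • zt 0, 2) := by
    rw [eqy]
    have h1 : psB ψ u (zt 1 + m • zt 0, 1) = psB ψ u (zt 1, 0) * psB ψ u (m • zt 0, 0) * psB ψ u (0, 1) := by
      rw [← hadd, ← hadd]
      simp
    have hz1 : psB ψ u (zt 1, 0) = y := by simp only [psB, powB_zero, mul_one, C.y_eq]
    have hu0 : psB ψ u (0, 1) = u := by simp only [psB, powB_one, psi_zero C, one_mul]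
    have hw0 : psB ψ u (m • zt 0, 0) = w := by simp only [psB, powB_zero, mul_one, hm]
    rw [h1, show q * (psB ψ u (zt 1, 0) * psB ψ u (m • zt 0, 0) * psB ψ u (0, 1)) * q⁻¹ =
      (q * psB ψ u (zt 1, 0) * q⁻¹) * (q * psB ψ u (m • zt 0, 0) * q⁻¹) * (q * psB ψ u (0, 1) * q⁻¹) by group,
      hz1, hu0, hw0, h.conj_Z hqC hw, eqy, equ, ← hw0, ← hadd, ← hadd]
    congr 1
    refine Prod.ext ?_ ?_
    · show zt 1 + m • zt 0 + m • zt 0 + c • zt 0 = zt 1 + (m + m + c) • zt 0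
      simp only [add_smul]; abel
    · show (1 : ZMod 3) + 0 + 1 = 2
      decide
  have hmc : m + m + c ≠ 0 := fun h0 => by
    have hp := (D.pt.conj q).conj q
    rw [e2, h0, zero_smul, add_zero, psB, C.y_eq] at hp
    refine D.not_pt_rad (pow_mem huQ _) (pow_mem hug _) (fun h1 => ?_) hp
    have h2 := pow_A D C hu hu1 (k := (2 : ZMod 3)) (by rw [powB, h1]; exact one_mem _)
    exact absurd h2 (by decide)
  obtain rfl := shift_const m c hm0 hc0 hmc
  refine ⟨q, u, m, hq, hu, hu1, hm0, fun x => ?_⟩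
  obtain ⟨v, k⟩ := x
  set e0 : Ex := v - v 0 • zt 1 with he0
  have he00 : e0 0 = 0 := by simp [he0, zt]
  have hqe : q * psB ψ u (e0, 0) * q⁻¹ = psB ψ u (e0, 0) := by
    simp only [psB, powB_zero, mul_one]
    rw [← D.cent_of_triv (mem_A C _) ((C.triv2 _).2 he00) hq, mul_inv_cancel_right]
  have hy' : psB ψ u (zt 1, 0) = y := by simp only [psB, powB_zero, mul_one, C.y_eq]
  have hu' : psB ψ u (0, 1) = u := by simp only [psB, powB_one, psi_zero C, one_mul]
  have hx : ((v, k) : ExB) = v 0 • ((zt 1, 0) : ExB) + (e0, 0) + k • ((0, 1) : ExB) := by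
    ext <;> simp [he0]
  have hq' : ∀ (c : ZMod 3) (x : ExB), q * psB ψ u (c • x) * q⁻¹ = (q * psB ψ u x * q⁻¹) ^ c.val :=
    fun c x => by rw [psB_smul D C hu hu1, conj_pow]
  rw [hx, hadd, hadd, show q * (psB ψ u (v 0 • ((zt 1, 0) : ExB)) * psB ψ u (e0, 0) *
      psB ψ u (k • ((0, 1) : ExB))) * q⁻¹ = (q * psB ψ u (v 0 • ((zt 1, 0) : ExB)) * q⁻¹) *
      (q * psB ψ u (e0, 0) * q⁻¹) * (q * psB ψ u (k • ((0, 1) : ExB)) * q⁻¹) by group,
    hq', hq', hqe, hy', hu', eqy, equ, ← psB_smul D C hu hu1, ← psB_smul D C hu hu1, ← hadd, ← hadd, ← hx]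
  congr 1
  refine Prod.ext ?_ ?_
  · show v 0 • (zt 1 + m • zt 0) + e0 + k • (-m) • zt 0 = v + (m * v 0 - m * k) • zt 0
    funext j
    simp only [he0, Pi.add_apply, Pi.sub_apply, Pi.smul_apply, smul_eq_mul]
    ring
  · show v 0 * 1 + 0 + k * 1 = k + v 0
    ring

variable {q : G} {m : ZMod 3} (S : Shift Q2 a ψ q u m)
include S

theorem q_norm : q ∈ normalizer (BB P y : Set G) := Subgroup.mem_normalizer_fintype fun x hx => by
  obtain ⟨w, rfl⟩ := psB_surj D C S.u_mem S.u_ne hx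
  rw [S.conj]
  exact psB_mem D C S.u_mem S.u_ne _

theorem qmap_three (x : ExB) : qmap m (qmap m (qmap m x)) = x := by
  refine psB_inj D C S.u_mem S.u_ne ?_
  rw [← S.conj, ← S.conj, ← S.conj]
  have h3 := D.frame.cube q (D.frame.pair.le2 S.q_mem)
  rw [pow_succ, pow_two] at h3
  calc q * (q * (q * psB ψ u x * q⁻¹) * q⁻¹) * q⁻¹ = (q * q * q) * psB ψ u x * (q * q * q)⁻¹ := by group
    _ = _ := by rw [h3, one_mul, inv_one, mul_one]

/-- The points of `B`. -/
theorem isPt_iff (x : ExB) : IsPt Z (psB ψ u x) ↔ x ∈ ptList m := by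
  have hinv : ∀ {w : G}, IsPt Z w → IsPt Z w⁻¹ := by
    rintro w ⟨k, c, hc, hc1, rfl⟩
    exact ⟨k, c⁻¹, inv_mem hc, inv_ne_one.2 hc1, by group⟩
  have hb : ∀ v, IsPt Z (ψ v) → IsPt Z (ψ (pm cyc v)) := fun v hv => C.b_act v ▸ hv.conj b
  have h1 : IsPt Z (ψ (zt 1)) := C.y_eq.symm ▸ D.pt
  have h2 : IsPt Z (ψ (zt 2)) := by
    have := hb _ h1
    rwa [show pm cyc (zt 1) = zt 2 by decide +kernel] at this
  have h3 : IsPt Z (ψ (zt 3)) := by
    have := hb _ h2
    rwa [show pm cyc (zt 2) = zt 3 by decide +kernel] at this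
  have hzt : ∀ i, IsPt Z (ψ (zt i)) := fun i => by
    fin_cases i
    exacts [C.z_eq.symm ▸ IsPt.of_mem D.z_mem D.z_ne, h1, h2, h3]
  constructor
  · intro hp
    obtain ⟨v, k⟩ := x
    have hbase : ∀ v', IsPt Z (psB ψ u (v', 0)) → ∃ i, v' = zt i ∨ v' = -zt i := fun v' hp' => by
      simp only [psB, powB_zero, mul_one] at hp'
      exact C.pts v' hp'
    simp only [ptList, List.mem_flatMap, List.mem_finRange, true_and, List.mem_cons, List.not_mem_nil, or_false]
    by_cases hk : k = 0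
    · subst hk
      obtain ⟨i, e | e⟩ := hbase v hp
      · exact ⟨i, Or.inl (by rw [e])⟩
      · exact ⟨i, Or.inr (Or.inl (by rw [e]))⟩
    have hv0 : v 0 ≠ 0 := fun hv0 => by
      have hBm := psB_mem D C S.u_mem S.u_ne (v, k)
      have hnZ : psB ψ u (v, k) ∉ Z := fun hZ => hk (pow_A D C S.u_mem S.u_ne (by
        rw [show powB u k = (ψ v)⁻¹ * psB ψ u (v, k) by rw [psB, inv_mul_cancel_left]]
        exact mul_mem (inv_mem (mem_A C _))
          (mem_inf.2 ⟨hBm, mem_centralizer_singleton_iff.2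
            (mem_centralizer_iff.1 D.t2_cent _ hZ)⟩)))
      refine (D.frame.nontriv hp (D.P_le (mem_inf.1 hBm).1) hnZ).2 fun w hw => ?_
      rw [psB, shift_mul]
      have hT : Triv Z Q2 (powB u k) := D.frame.triv_Q
        (D.frame.pair.le2 (pow_mem (u_facts D C S.u_mem S.u_ne).2.2.2.2.1 _)) D.frame.pair.le2
      rw [D.set.conj_Z (D.A_le_C (mem_A C _)) (hT w hw)]
      exact mul_mem ((C.triv2 v).2 hv0 w hw) (hT w hw)
    have hp1 : IsPt Z (psB ψ u (qmap m (v, k))) := S.conj (v, k) ▸ hp.conj q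
    have hp2 : IsPt Z (psB ψ u (qmap m (qmap m (v, k)))) := S.conj (qmap m (v, k)) ▸ hp1.conj q
    have h30 := qmap_three D C S (v, k)
    rcases exists_line (v 0) k hv0 with e | e | e
    · exact absurd e hk
    · have hx : qmap m (v, k) = ((qmap m (v, k)).1, 0) := Prod.ext rfl e
      rw [hx] at hp1
      obtain ⟨i, e' | e'⟩ := hbase _ hp1
      · refine ⟨i, Or.inr (Or.inr (Or.inr (Or.inr (Or.inl ?_))))⟩
        conv_lhs => rw [← h30, hx, e']
      · refine ⟨i, Or.inr (Or.inr (Or.inr (Or.inr (Or.inr ?_))))⟩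
        conv_lhs => rw [← h30, hx, e']
    · have hx : qmap m (qmap m (v, k)) = ((qmap m (qmap m (v, k))).1, 0) := by
        refine Prod.ext rfl ?_
        show k + v 0 + (v + (m * v 0 - m * k) • zt 0 : Ex) 0 = 0
        simpa [zt] using e
      rw [hx] at hp2
      obtain ⟨i, e' | e'⟩ := hbase _ hp2
      · refine ⟨i, Or.inr (Or.inr (Or.inl ?_))⟩
        conv_lhs => rw [← h30, hx, e']
      · refine ⟨i, Or.inr (Or.inr (Or.inr (Or.inl ?_)))⟩
        conv_lhs => rw [← h30, hx, e']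
  · intro hx
    simp only [ptList, List.mem_flatMap, List.mem_finRange, true_and, List.mem_cons, List.not_mem_nil, or_false]
      at hx
    obtain ⟨i, hx⟩ := hx
    have hp : IsPt Z (psB ψ u (zt i, 0)) := by simp only [psB, powB_zero, mul_one]; exact hzt i
    have hn : IsPt Z (psB ψ u (-zt i, 0)) := by
      simp only [psB, powB_zero, mul_one, psi_neg C]; exact hinv (hzt i)
    have hq : ∀ w, IsPt Z (psB ψ u w) → IsPt Z (psB ψ u (qmap m w)) := fun w hw => S.conj w ▸ hw.conj q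
    rcases hx with rfl | rfl | rfl | rfl | rfl | rfl
    exacts [hp, hn, hq _ hp, hq _ hn, hq _ (hq _ hp), hq _ (hq _ hn)]

end Coord

end Cfsg.Agent.UThreeLocal.Big.Local
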