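import Cfsg.Agent.Lib.UThreeLocal.Big.Local.Base
import Cfsg.Agent.Lib.UThreeLocal.Big.Interface

/-!
# The pieces of the local analysis in the big case

`Duo`: the plane `W` and the element `n` exchanging `z` and `y` in `C(W) ∩ C(r)`.  `Crd`: coordinates on
`A = F₃⁴` in which the points are the four lines `zt i`.  `Rad`: the product `Rd` of the four quaternion groups.
`Norm`: what the signalizer analysis gives.
-/

set_option autoImplicit false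
set_option linter.unusedSectionVars false

namespace Cfsg.Agent.UThreeLocal.Big.Local

open Subgroup

universe u

variable {G : Type u} [Group G]

/-- The plane of `A` centralising both inverted factors and the element exchanging the two points. -/
structure Duo [Finite G] (Z Q Q1 Q2 L1 L2 P W : Subgroup G) (t1 t2 z y g d a n : G) : Prop where
  data : BigData Z Q Q1 Q2 L1 L2 P t1 t2 z y g d a
  W_le : W ≤ AA P y t2
  W_card : Nat.card ↥W = 9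
  d_W : d ∈ W
  W_Q2 : W ≤ centralizer (Q2 : Set G)
  W_L2 : W ≤ centralizer (L2 : Set G)
  n_W : ∀ w ∈ W, n * w = w * n
  n_t2 : n * t2 = t2 * n
  n_z : n * z * n⁻¹ = y
  n_y : n * y * n⁻¹ = z
  n_A : n ∈ normalizer (AA P y t2 : Set G)
  comm : ∀ l ∈ L2, ∀ m ∈ cj n L2, l * m = m * l
  sig : ∀ K : Subgroup G, (Nat.card ↥K).Coprime 3 → K ≤ centralizer (W : Set G) ⊓ centralizer ({t2} : Set G) →
    z ∈ normalizer (K : Set G) → K ≤ L2 ⊔ cj n L2
  frat : ∀ x ∈ centralizer (W : Set G) ⊓ centralizer ({t2} : Set G),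
    ∃ s ∈ L2 ⊔ cj n L2, s⁻¹ * x ∈ normalizer (AA P y t2 : Set G)

/-- The exponents. -/
abbrev Ex : Type := Fin 4 → ZMod 3

/-- The point lines. -/
def zt (i : Fin 4) : Ex := fun j => if i = j then 0 else 1

/-- The sum-one vector fixed-point-free on the four quaternion groups. -/
def sg : Ex := fun _ => 1

/-- The action of a permutation of the lines. -/
def pm (π : Equiv.Perm (Fin 4)) (v : Ex) : Ex := fun i => v (π.symm i)

/-- The three-cycle `1 → 2 → 3 → 1`. -/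
def cyc : Equiv.Perm (Fin 4) := Equiv.swap 1 2 * Equiv.swap 2 3

/-- The coordinates on `A`. -/
structure Crd (Z Q1 Q2 W A : Subgroup G) (r z y d n b : G) (ψ : Ex → G) : Prop where
  mem : ∀ x, x ∈ A ↔ ∃ v, ψ v = x
  add : ∀ v w, ψ (v + w) = ψ v * ψ w
  inj : Function.Injective ψ
  z_eq : ψ (zt 0) = z
  y_eq : ψ (zt 1) = y
  d_eq : d ∈ zpowers (ψ ![0, 0, 1, -1])
  W_eq : ∀ v, ψ v ∈ W ↔ v 0 = 0 ∧ v 1 = 0
  b_mem : b ∈ Q1
  b_act : ∀ v, b * ψ v * b⁻¹ = ψ (pm cyc v)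
  n_act : ∀ v, n * ψ v * n⁻¹ = ψ (pm (Equiv.swap 0 1) v)
  triv1 : ∀ v, Triv Z Q1 (ψ v) ↔ v 1 + v 2 + v 3 = 0
  triv2 : ∀ v, Triv Z Q2 (ψ v) ↔ v 0 = 0
  pts : ∀ v, IsPt Z (ψ v) → ∃ i, v = zt i ∨ v = -zt i
  act : ∀ g ∈ normalizer (A : Set G) ⊓ centralizer ({r} : Set G), ∃ (ε : ZMod 3) (π : Equiv.Perm (Fin 4)),
    (ε = 1 ∨ ε = -1) ∧ ∀ v, g * ψ v * g⁻¹ = ψ (ε • pm π v)

/-- The conjugating elements. -/
def gv (b n : G) : Fin 4 → G := ![1, n, b * n, b * b * n]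

/-- The quaternion group at the `i`-th point. -/
def Lv (L2 : Subgroup G) (b n : G) (i : Fin 4) : Subgroup G := cj (gv b n i) L2

/-- The product of the four. -/
def Rd (L2 : Subgroup G) (b n : G) : Subgroup G :=
  Lv L2 b n 0 ⊔ Lv L2 b n 1 ⊔ Lv L2 b n 2 ⊔ Lv L2 b n 3

/-- The extraspecial group. -/
structure Rad (Q1 L2 A : Subgroup G) (r b n : G) (ψ : Ex → G) : Prop where
  card : Nat.card ↥(Rd L2 b n) = 512
  extra : Cfsg.IsExtraspecial 2 ↥(Rd L2 b n)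
  centre : (center ↥(Rd L2 b n)).map (Rd L2 b n).subtype = zpowers r
  le : Rd L2 b n ≤ centralizer ({r} : Set G)
  r_mem : ∀ i, r ∈ Lv L2 b n i
  Lv_card : ∀ i, Nat.card ↥(Lv L2 b n i) = 8
  Lv_le : ∀ i, Lv L2 b n i ≤ Rd L2 b n
  comm : ∀ i j, i ≠ j → ∀ x ∈ Lv L2 b n i, ∀ w ∈ Lv L2 b n j, x * w = w * x
  meet : ∀ i j, i ≠ j → Lv L2 b n i ⊓ Lv L2 b n j ≤ zpowers r
  quat : ∀ i, ∃ x y : G, x * x = r ∧ y * y = r ∧ x * y = r * (y * x) ∧ Lv L2 b n i = closure {x, y}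
  inf : ∀ i, Rd L2 b n ⊓ centralizer ({ψ (zt i)} : Set G) = Lv L2 b n i
  fix : ∀ v : Ex, (∀ i, v i ≠ 0) → ∀ x ∈ Rd L2 b n, x * ψ v = ψ v * x → x ∈ zpowers r
  perm : ∀ (g : G) (i j : Fin 4), g * r = r * g → cj g (zpowers (ψ (zt i))) = zpowers (ψ (zt j)) →
    cj g (Lv L2 b n i) = Lv L2 b n j
  A_norm : A ≤ normalizer (Rd L2 b n : Set G)
  Q1_norm : Q1 ≤ normalizer (Rd L2 b n : Set G)
  norm_A : normalizer (A : Set G) ⊓ centralizer ({r} : Set G) ≤ normalizer (Rd L2 b n : Set G)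

/-- The signalizer analysis. -/
structure Norm (Z Q1 L1 L2 W A R : Subgroup G) (r : G) (ψ : Ex → G) : Prop where
  sig : ∀ K : Subgroup G, K ≤ centralizer ({r} : Set G) → (Nat.card ↥K).Coprime 3 →
    A ≤ normalizer (K : Set G) → K ≤ R
  cent_z : ∀ g ∈ centralizer (Z : Set G) ⊓ centralizer ({r} : Set G),
    ∃ q ∈ Q1, ∃ l ∈ L1, ∃ m ∈ L2, ∃ x ∈ A, g = q * l * m * x
  L1_norm : L1 ≤ normalizer (R : Set G)
  L1_sg : ∀ l ∈ L1, l * ψ sg = ψ sg * l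
  cent_A : centralizer (A : Set G) ⊓ centralizer ({r} : Set G) ≤ A ⊔ zpowers r
  cent_W : ∀ g ∈ centralizer (W : Set G) ⊓ centralizer ({r} : Set G), ∃ s ∈ R, s⁻¹ * g ∈ normalizer (A : Set G)
  cent_H : ∀ g ∈ centralizer ({r} : Set G), g * ψ sg = ψ sg * g → g * ψ ![1, -1, 0, 0] = ψ ![1, -1, 0, 0] * g →
    g * ψ ![0, 0, 1, -1] = ψ ![0, 0, 1, -1] * g → g ∈ A ⊔ zpowers r
  cent_R : centralizer (R : Set G) = zpowers r

end Cfsg.Agent.UThreeLocal.Big.Local
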