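import Cfsg.Agent.Lib.UThreeLocal.Big.Local.QuoTools
import Cfsg.Agent.Lib.UThreeLocal.Big.Local.Hyper
import Cfsg.Agent.Lib.Coprime.Generation

/-!
# `L₁` normalises the product of the four quaternion groups

Two exponent vectors fixed only by the trivial monomial map have a centralizer in `C(r)` with `A` as a
self-centralizing Sylow subgroup, hence a normal complement, which lies in `R`.  The conjugate of `R` by an
element of `L₁` is generated by the centralizers of `z`, of `σ` and of such pairs.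
-/

set_option autoImplicit false
set_option linter.unusedSectionVars false
set_option linter.style.haveILetI false
set_option maxRecDepth 100000
set_option synthInstance.maxSize 10000

namespace Cfsg.Agent.UThreeLocal.Big.Local

open Subgroup

universe u

/-- Only the trivial monomial map fixes both vectors. -/
def Rigid (v w : Ex) : Prop :=
  ∀ (ε : ZMod 3) (π : Equiv.Perm (Fin 4)), (ε = 1 ∨ ε = -1) → ε • pm π v = v → ε • pm π w = w →
    ∀ x, ε • pm π x = x

theorem rigid_table : ∀ a c i j : ZMod 3, c ≠ 0 → a ≠ c → j ≠ 0 →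
    Rigid (a • zt 0 + c • (sg - zt 0)) (i • zt 0 + j • dv) := by
  unfold Rigid
  decide +kernel

theorem indep_dv : ∀ i j : ZMod 3, i • zt 0 + j • dv = 0 → i = 0 ∧ j = 0 := by decide +kernel

theorem indep_e0 : ∀ i j : ZMod 3, i • zt 0 + j • (sg - zt 0) = 0 → i = 0 ∧ j = 0 := by decide +kernel

theorem plane_sum : ∀ a c : ZMod 3, (a • zt 0 + c • (sg - zt 0)) 1 + (a • zt 0 + c • (sg - zt 0)) 2 +
    (a • zt 0 + c • (sg - zt 0)) 3 = 0 := by decide +kernel

theorem dv_sum : ∀ i j : ZMod 3, (i • zt 0 + j • dv) 1 + (i • zt 0 + j • dv) 2 + (i • zt 0 + j • dv) 3 = 0 := by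
  decide +kernel

theorem dv_ne : dv ≠ 0 := by decide +kernel

theorem sg_multiple : ∀ c : ZMod 3, c • zt 0 + c • (sg - zt 0) = c • sg := by decide +kernel

variable {G : Type u} [Group G] [Finite G]

/-- A subgroup with two commuting independent exponent vectors acting is generated by their fixed points. -/
theorem le_of_fixed {A : Subgroup G} {ψ : Ex → G} {T K : Subgroup G} (hmem : ∀ v, ψ v ∈ A)
    (hadd : ∀ v w, ψ (v + w) = ψ v * ψ w) (hinj : Function.Injective ψ)
    (hexp : ∀ x ∈ A, x ^ 3 = 1) (v w : Ex) (hind : ∀ i j : ZMod 3, i • v + j • w = 0 → i = 0 ∧ j = 0)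
    (hK : (Nat.card ↥K).Coprime 3) (hn : ∀ i j : ZMod 3, ψ (i • v + j • w) ∈ normalizer (K : Set G))
    (hT : ∀ i j : ZMod 3, (i ≠ 0 ∨ j ≠ 0) → K ⊓ centralizer ({ψ (i • v + j • w)} : Set G) ≤ T) : K ≤ T := by
  classical
  haveI : Fact (Nat.Prime 3) := ⟨Nat.prime_three⟩
  have h0 : ψ 0 = 1 := by
    have := hadd 0 0
    rw [add_zero] at this
    exact left_eq_mul.1 this
  let D : Subgroup G :=
    { carrier := {x | ∃ p : ZMod 3 × ZMod 3, ψ (p.1 • v + p.2 • w) = x}
      one_mem' := ⟨0, by simp [h0]⟩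
      mul_mem' := by
        rintro _ _ ⟨p, rfl⟩ ⟨q, rfl⟩
        exact ⟨p + q, by rw [← hadd]; congr 1; simp only [Prod.fst_add, Prod.snd_add, add_smul]; abel⟩
      inv_mem' := by
        rintro _ ⟨p, rfl⟩
        exact ⟨-p, eq_inv_of_mul_eq_one_left (by rw [← hadd, ← h0]; congr 1; simp only [Prod.fst_neg, Prod.snd_neg, neg_smul]; abel)⟩ }
  haveI : IsMulCommutative ↥D := ⟨⟨by
    rintro ⟨_, p, rfl⟩ ⟨_, q, rfl⟩
    refine Subtype.ext ?_
    show ψ _ * ψ _ = ψ _ * ψ _
    rw [← hadd, ← hadd, add_comm]⟩⟩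
  have hD9 : Nat.card ↥D = 9 := by
    rw [← Nat.card_congr (Equiv.ofBijective (fun p : ZMod 3 × ZMod 3 => (⟨ψ (p.1 • v + p.2 • w), p, rfl⟩ : ↥D))
      ⟨fun p q e => ?_, fun ⟨x, p, hp⟩ => ⟨p, Subtype.ext hp⟩⟩), Nat.card_prod, Nat.card_zmod]
    have e1 : p.1 • v + p.2 • w = q.1 • v + q.2 • w := hinj (congrArg Subtype.val e)
    obtain ⟨e2, e3⟩ := hind (p.1 - q.1) (p.2 - q.2) (by
      rw [sub_smul, sub_smul, show p.1 • v - q.1 • v + (p.2 • w - q.2 • w) =
        p.1 • v + p.2 • w - (q.1 • v + q.2 • w) by abel, e1, sub_self])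
    exact Prod.ext (sub_eq_zero.1 e2) (sub_eq_zero.1 e3)
  have hnc : ¬ IsCyclic ↥D := by
    intro hc
    obtain ⟨x, hx⟩ := hc.exists_generator
    have h1 := orderOf_eq_card_of_forall_mem_zpowers hx
    have h3 : x ^ 3 = 1 := by
      obtain ⟨p, hp⟩ := x.2
      refine Subtype.ext ?_
      rw [SubgroupClass.coe_pow, ← hp]
      exact hexp _ (hmem _)
    have := Nat.le_of_dvd (by norm_num) (orderOf_dvd_of_pow_eq_one h3)
    omega
  have hDK : D ≤ normalizer (K : Set G) := by rintro _ ⟨p, rfl⟩; exact hn p.1 p.2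
  have hcop : (Nat.card ↥D).Coprime (Nat.card ↥K) := by
    rw [hD9, show 9 = 3 ^ 2 by norm_num]; exact (hK.pow_right 2).symm
  rw [← Cfsg.Agent.Coprime.fixedGen_eq hnc hDK hcop]
  refine iSup₂_le fun x hx => ?_
  obtain ⟨⟨p, rfl⟩, hne⟩ := hx
  refine hT p.1 p.2 ?_
  by_contra hc
  push Not at hc
  exact hne (by rw [hc.1, hc.2, zero_smul, zero_smul, add_zero, h0])

variable {Z Q Q1 Q2 L1 L2 P W : Subgroup G} {t1 t2 z y g d a n b : G} {ψ : Ex → G}

/-- Two rigid vectors: the centralizer in `C(r)` has its elements of order prime to three in `R`. -/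
theorem rigid_le {R : Subgroup G} (D : BigData Z Q Q1 Q2 L1 L2 P t1 t2 z y g d a)
    (C : Crd Z Q1 Q2 W (AA P y t2) t2 z y d n b ψ)
    (hsig : ∀ K : Subgroup G, K ≤ centralizer ({t2} : Set G) → (Nat.card ↥K).Coprime 3 →
      AA P y t2 ≤ normalizer (K : Set G) → K ≤ R)
    {v w : Ex} (hr : Rigid v w) {K : Subgroup G} (hK : (Nat.card ↥K).Coprime 3)
    (hKv : ∀ x ∈ K, x * ψ v = ψ v * x) (hKw : ∀ x ∈ K, x * ψ w = ψ w * x)
    (hKr : K ≤ centralizer ({t2} : Set G)) : K ≤ R := by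
  classical
  haveI : Fact (Nat.Prime 3) := ⟨Nat.prime_three⟩
  set A := AA P y t2 with hA
  set Cc := centralizer ({ψ v} : Set G) ⊓ centralizer ({ψ w} : Set G) ⊓ centralizer ({t2} : Set G) with hCc
  have hm : ∀ u, ψ u ∈ A := fun u => (C.mem _).2 ⟨u, rfl⟩
  have hAc : A ≤ Cc := fun x hx => mem_inf.2 ⟨mem_inf.2
    ⟨mem_centralizer_singleton_iff.2 (D.A_comm hx (hm v)), mem_centralizer_singleton_iff.2 (D.A_comm hx (hm w))⟩,
      (mem_inf.1 hx).2⟩
  have hKc : K ≤ Cc := fun x hx => mem_inf.2 ⟨mem_inf.2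
    ⟨mem_centralizer_singleton_iff.2 (hKv x hx), mem_centralizer_singleton_iff.2 (hKw x hx)⟩, hKr hx⟩
  set A' := A.subgroupOf Cc with hA'
  have hA81 : Nat.card ↥A' = 81 := by rw [hA', Nat.card_congr (subgroupOfEquivOfLe hAc).toEquiv, hA, D.card_A]
  have hnorm : ∀ x : ↥Cc, x ∈ normalizer (A' : Set ↥Cc) → (x : G) ∈ A ⊔ zpowers t2 := by
    intro x hx
    obtain ⟨⟨hxv, hxw⟩, hxr⟩ := x.2
    have hxA : (x : G) ∈ normalizer (A : Set G) := Subgroup.mem_normalizer_fintype fun u hu =>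
      (mem_normalizer_iff.1 hx ⟨u, hAc hu⟩).1 hu
    obtain ⟨ε, π, hε, hact⟩ := C.act _ (mem_inf.2 ⟨hxA, hxr⟩)
    have hfix : ∀ u, (x : G) * ψ u = ψ u * (x : G) → ε • pm π u = u := fun u hu =>
      C.inj (by rw [← hact, hu, mul_inv_cancel_right])
    have hid := hr ε π hε (hfix v (mem_centralizer_singleton_iff.1 hxv))
      (hfix w (mem_centralizer_singleton_iff.1 hxw))
    refine cent_A D (mem_inf.2 ⟨mem_centralizer_iff.2 fun u hu => ?_, hxr⟩)
    obtain ⟨u', rfl⟩ := (C.mem u).1 hu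
    have := hact u'
    rw [hid] at this
    exact (mul_inv_eq_iff_eq_mul.1 this).symm
  have hAt : zpowers t2 ≤ normalizer (A : Set G) := zpowers_le.2 (centralizer_le_normalizer _
    (mem_centralizer_iff.2 fun u hu => D.A_t2 hu))
  have h3 : ¬ 3 ∣ A'.index := by
    intro h
    have hdvd : 3 ^ (4 + 1) ∣ Nat.card ↥Cc := by
      obtain ⟨k, hk⟩ := h
      exact ⟨k, by rw [← A'.card_mul_index, hA81, hk]; ring⟩
    have h5 := Sylow.prime_pow_dvd_card_normalizer hdvd (H := A') (by rw [hA81]; norm_num)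
    have hle : Nat.card ↥(normalizer (A' : Set ↥Cc)) ≤ 162 := by
      refine (Nat.card_le_card_of_injective
        (fun x : ↥(normalizer (A' : Set ↥Cc)) => (⟨((x : ↥Cc) : G), hnorm x x.2⟩ : ↥(A ⊔ zpowers t2)))
        fun x x' e => Subtype.ext (Subtype.ext (congrArg Subtype.val e :))).trans ?_
      have h1 := card_sup_mul_inf hAt
      rw [hA, D.card_A, Nat.card_zpowers, D.frame.t2_two] at h1
      exact le_of_le_of_eq (Nat.le_mul_of_pos_right _ Nat.card_pos) h1
    have h243 : 243 ∣ Nat.card ↥(normalizer (A' : Set ↥Cc)) := by simpa using h5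
    have := Nat.le_of_dvd Nat.card_pos h243
    omega
  let S : Sylow 3 ↥Cc := (IsPGroup.of_card (p := 3) (n := 4) (hA81.trans (by norm_num))).toSylow h3
  have hS : (S : Subgroup ↥Cc) = A' := rfl
  have hP : normalizer ((S : Subgroup ↥Cc) : Set ↥Cc) ≤ centralizer ((S : Subgroup ↥Cc) : Set ↥Cc) := by
    intro x hx
    rw [hS] at hx ⊢
    refine mem_centralizer_iff.2 fun u hu => Subtype.ext ?_
    have hle : A ⊔ zpowers t2 ≤ centralizer ({(u : G)} : Set G) := sup_le
      (fun s hs => mem_centralizer_singleton_iff.2 (D.A_comm hs hu))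
      (zpowers_le.2 (mem_centralizer_singleton_iff.2 (D.A_t2 hu).symm))
    exact (mem_centralizer_singleton_iff.1 (hle (hnorm x hx))).symm
  obtain ⟨τ, hker⟩ : ∃ τ : ↥Cc →* ↥(S : Subgroup ↥Cc), (Nat.card ↥τ.ker).Coprime 3 :=
    ⟨MonoidHom.transferSylow S hP, Nat.Coprime.symm
      ((Nat.Prime.coprime_iff_not_dvd Nat.prime_three).2 (MonoidHom.not_dvd_card_ker_transferSylow S hP))⟩
  have hM := hsig (τ.ker.map Cc.subtype) ((map_subtype_le _).trans inf_le_right)
    (by rwa [card_map_of_injective (Subgroup.subtype_injective _)]) (fun u hu => Subgroup.mem_normalizer_fintype (by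
      rintro _ ⟨m, hm, rfl⟩
      exact ⟨⟨u, hAc hu⟩ * m * (⟨u, hAc hu⟩ : ↥Cc)⁻¹, (MonoidHom.normal_ker τ).conj_mem m hm _, rfl⟩))
  intro x hx
  refine hM ⟨⟨x, hKc hx⟩, ?_, rfl⟩
  have h1 : (⟨x, hKc hx⟩ : ↥Cc) ^ Nat.card ↥K = 1 := by
    have := pow_card_eq_one' (x := (⟨x, hx⟩ : ↥K))
    refine Subtype.ext ?_
    have h := congrArg Subtype.val this
    rw [SubgroupClass.coe_pow] at h ⊢
    exact h
  have h2 : τ ⟨x, hKc hx⟩ ^ Nat.card ↥K = 1 := by rw [← map_pow, h1, map_one]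
  have h4 : τ ⟨x, hKc hx⟩ ^ 3 ^ 4 = 1 := by
    have := pow_card_eq_one' (x := τ ⟨x, hKc hx⟩)
    rwa [show Nat.card ↥(S : Subgroup ↥Cc) = 3 ^ 4 by rw [hS, hA81]; norm_num] at this
  have := pow_gcd_eq_one.2 ⟨h2, h4⟩
  rw [(hK.pow_right 4).gcd_eq_one, pow_one] at this
  exact MonoidHom.mem_ker.2 this

/-- THEOREM: `L₁` normalises `R`. -/
theorem L1_norm (U : Duo Z Q Q1 Q2 L1 L2 P W t1 t2 z y g d a n)
    (C : Crd Z Q1 Q2 W (AA P y t2) t2 z y d n b ψ) (Ra : Rad Q1 L2 (AA P y t2) t2 b n ψ)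
    (hsig : ∀ K : Subgroup G, K ≤ centralizer ({t2} : Set G) → (Nat.card ↥K).Coprime 3 →
      AA P y t2 ≤ normalizer (K : Set G) → K ≤ Rd L2 b n)
    (hsg : ∀ l ∈ L1, l * ψ sg = ψ sg * l) : L1 ≤ normalizer (Rd L2 b n : Set G) := by
  classical
  haveI : Fact (Nat.Prime 3) := ⟨Nat.prime_three⟩
  have D := U.data
  have F := D.frame
  set R := Rd L2 b n with hR
  have hm : ∀ u, ψ u ∈ AA P y t2 := fun u => (C.mem _).2 ⟨u, rfl⟩
  have h0 : ψ 0 = 1 := by
    have := C.add 0 0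
    rw [add_zero] at this
    exact left_eq_mul.1 this
  have hneg : ∀ u, ψ (-u) = (ψ u)⁻¹ := fun u =>
    eq_inv_of_mul_eq_one_left (by rw [← C.add, neg_add_cancel, h0])
  have hsm : ∀ (k : ZMod 3) (u : Ex), ψ (k • u) ∈ zpowers (ψ u) := by
    intro k u
    rcases zmod3 k with e | e | e <;> subst e
    · rw [zero_smul, h0]; exact one_mem _
    · rw [one_smul]; exact mem_zpowers _
    · rw [neg_one_smul, hneg]; exact inv_mem (mem_zpowers _)
  have hunit : ∀ (k : ZMod 3) (u : Ex) (x : G), k ≠ 0 → x * ψ (k • u) = ψ (k • u) * x → x * ψ u = ψ u * x := by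
    intro k u x hk hx
    rcases zmod3 k with e | e | e <;> subst e
    · exact absurd rfl hk
    · rwa [one_smul] at hx
    · rw [neg_one_smul, hneg] at hx
      exact Commute.inv_right_iff.1 (show Commute x (ψ u)⁻¹ from hx)
  have hdv : ψ dv ∈ Q1 := by
    have hne : ψ dv ≠ 1 := fun e => dv_ne (C.inj (e.trans h0.symm))
    have hc : Nat.card ↥(zpowers (ψ dv)) = 3 := by
      rw [Nat.card_zpowers, orderOf_eq_prime (D.A_exp (hm dv)) hne]
    exact (zpowers_le.2 D.flag1.mem) ((zpowers_eq_of_prime hc C.d_eq D.d_ne).ge (mem_zpowers _))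
  intro l hl
  have hlt : l * t2 = t2 * l := F.L_comm l hl t2 F.t2_mem
  have hlz : Commute l z := D.z_cent (F.L1_le hl)
  set K0 := cj l R with hK0
  have hK0r : K0 ≤ centralizer ({t2} : Set G) := by
    rintro _ ⟨x, hx, rfl⟩
    exact mul_mem (mul_mem (mem_centralizer_singleton_iff.2 hlt) (Ra.le hx))
      (inv_mem (mem_centralizer_singleton_iff.2 hlt))
  have hK0c : (Nat.card ↥K0).Coprime 3 := by rw [hK0, card_cj, Ra.card]; norm_num
  -- what normalises `K0`
  have hnormconj : ∀ p : G, l⁻¹ * p * l ∈ normalizer (R : Set G) → p ∈ normalizer (K0 : Set G) := by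
    intro p hp
    refine Subgroup.mem_normalizer_fintype fun x hx => ?_
    rw [SetLike.mem_coe, hK0, mem_cj] at hx ⊢
    rw [show l⁻¹ * (p * x * p⁻¹) * l = (l⁻¹ * p * l) * (l⁻¹ * x * l) * (l⁻¹ * p * l)⁻¹ by group]
    exact (mem_normalizer_iff.1 hp _).1 hx
  have hn1 : ∀ p ∈ Q1, p ∈ normalizer (K0 : Set G) := fun p hp =>
    hnormconj p (Ra.Q1_norm ((mem_normalizer_iff''.1 (F.L1_norm hl) p).1 hp))
  have hnσ : ψ sg ∈ normalizer (K0 : Set G) := hnormconj _ (by
    rw [mul_assoc, ← hsg l hl, inv_mul_cancel_left]; exact Ra.A_norm (hm sg))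
  have hn3 : ∀ v : Ex, v 1 + v 2 + v 3 = 0 → ψ v ∈ normalizer (K0 : Set G) := by
    intro v hv
    obtain ⟨i, j, e⟩ := sum_zero_dec v hv
    rw [e, C.add, C.add]
    exact mul_mem (mul_mem ((zpowers_le.2 hnσ) (hsm _ sg))
      ((zpowers_le.2 (hn1 _ (C.z_eq.symm ▸ F.pair.Z1 D.z_mem))) (hsm i _))) ((zpowers_le.2 (hn1 _ hdv)) (hsm j _))
  -- the part centralising `z`
  have hz : ∀ x ∈ K0, x * z = z * x → x ∈ R := by
    rintro _ ⟨s, hs, rfl⟩ hx
    replace hx : Commute (l * s * l⁻¹) z := hx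
    have hsz : Commute s z := by
      have := hx.conj l⁻¹
      rw [show l⁻¹ * z * l⁻¹⁻¹ = z by rw [inv_inv, mul_assoc, ← hlz.eq, inv_mul_cancel_left]] at this
      simpa [mul_assoc] using this
    have hsL : s ∈ L2 := by
      have h1 : s ∈ R ⊓ centralizer ({ψ (zt 0)} : Set G) :=
        mem_inf.2 ⟨hs, mem_centralizer_singleton_iff.2 (by rw [C.z_eq]; exact hsz.eq)⟩
      rw [hR, Ra.inf 0, Lv, show gv b n 0 = 1 from rfl, Cand.cj_one] at h1
      exact h1
    show l * s * l⁻¹ ∈ R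
    rw [F.L_comm l hl s hsL, mul_inv_cancel_right]
    exact hs
  -- the part centralising `σ`
  have hσ : ∀ x ∈ K0, x * ψ sg = ψ sg * x → x ∈ R := by
    rintro _ ⟨s, hs, rfl⟩ hx
    replace hx : Commute (l * s * l⁻¹) (ψ sg) := hx
    have hsσ : Commute s (ψ sg) := by
      have := hx.conj l⁻¹
      rw [show l⁻¹ * ψ sg * l⁻¹⁻¹ = ψ sg by rw [inv_inv, mul_assoc, ← hsg l hl, inv_mul_cancel_left]] at this
      simpa [mul_assoc] using this
    have hsr := Ra.fix sg (by decide) s hs hsσ.eq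
    show l * s * l⁻¹ ∈ R
    obtain ⟨k, rfl⟩ := mem_zpowers_iff.1 hsr
    rw [((show Commute l t2 from hlt).zpow_right k).eq, mul_inv_cancel_right]
    exact hs
  have hmain : K0 ≤ R := by
    refine le_of_fixed (A := AA P y t2) hm C.add C.inj (fun x hx => D.A_exp hx) (zt 0) (sg - zt 0) indep_e0 hK0c
      (fun i j => hn3 _ (plane_sum i j)) fun i j hij => ?_
    by_cases hj : j = 0
    · subst hj
      intro x hx
      refine hz x (mem_inf.1 hx).1 ?_
      have h1 := mem_centralizer_singleton_iff.1 (mem_inf.1 hx).2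
      rw [zero_smul, add_zero] at h1
      exact C.z_eq ▸ hunit i _ x (hij.resolve_right (· rfl)) h1
    by_cases hij' : i = j
    · subst hij'
      intro x hx
      refine hσ x (mem_inf.1 hx).1 ?_
      have h1 := mem_centralizer_singleton_iff.1 (mem_inf.1 hx).2
      rw [sg_multiple] at h1
      exact hunit i _ x hj h1
    set u := i • zt 0 + j • (sg - zt 0) with hu
    set K1 := K0 ⊓ centralizer ({ψ u} : Set G) with hK1
    refine le_of_fixed (A := AA P y t2) hm C.add C.inj (fun x hx => D.A_exp hx) (zt 0) dv indep_dv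
      (hK0c.coprime_dvd_left (card_dvd_of_le inf_le_left)) (fun p q => ?_) fun p q hpq => ?_
    · refine Subgroup.mem_normalizer_fintype fun x hx => ?_
      have hc : Commute (ψ (p • zt 0 + q • dv)) (ψ u) := D.A_comm (hm _) (hm _)
      have hxu : Commute x (ψ u) := mem_centralizer_singleton_iff.1 (mem_inf.1 hx).2
      refine mem_inf.2 ⟨(mem_normalizer_iff.1 (hn3 _ (dv_sum p q)) x).1 (mem_inf.1 hx).1, ?_⟩
      exact mem_centralizer_singleton_iff.2 ((hc.mul_left hxu).mul_left hc.inv_left).eq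
    · by_cases hq : q = 0
      · subst hq
        intro x hx
        refine hz x (mem_inf.1 (mem_inf.1 hx).1).1 ?_
        have h1 := mem_centralizer_singleton_iff.1 (mem_inf.1 hx).2
        rw [zero_smul, add_zero] at h1
        exact C.z_eq ▸ hunit p _ x (hpq.resolve_right (· rfl)) h1
      · refine rigid_le D C hsig (rigid_table i j p q hj hij' hq)
          (hK0c.coprime_dvd_left (card_dvd_of_le (inf_le_left.trans inf_le_left)))
          (fun x hx => mem_centralizer_singleton_iff.1 (mem_inf.1 (mem_inf.1 hx).1).2)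
          (fun x hx => mem_centralizer_singleton_iff.1 (mem_inf.1 hx).2)
          ((inf_le_left.trans inf_le_left).trans hK0r)
  exact Cand.mem_normalizer_of_cj (Subgroup.eq_of_le_of_card_ge hmain (card_cj l R).ge)

end Cfsg.Agent.UThreeLocal.Big.Local
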