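import Cfsg.Agent.Lib.UThreeLocal.Big.Local.QuoCount

/-!
# The data at `r = t₂` in the big case

The image of `⟨σ⟩` in `(C(r) ∩ N(R))/R` is normal, so the preimage `N₀` of the complement `D₀` is normal; an
element of `N(Z) ∩ C(r)` inverting `z` moves to `N(A)`, where it inverts every exponent up to a permutation.
-/

set_option autoImplicit false
set_option linter.unusedSectionVars false
set_option linter.style.haveILetI false
set_option maxRecDepth 100000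

namespace Cfsg.Agent.UThreeLocal.Big.Local

open Subgroup
open scoped Pointwise
open Cfsg.Agent.UThreeLocal.Cand (NN NB pn pn_eq_one pn_eq)

universe u

theorem w_zero : sm ![1, 1, -1, -1] = 0 ∧ ∀ i, (![1, 1, -1, -1] : Ex) i ≠ 0 := by decide +kernel

theorem sm_zt : sm (zt 0) = 0 := by decide +kernel

variable {G : Type u} [Group G] [Finite G]

namespace Qd

variable {Z Q Q1 Q2 L1 L2 P W : Subgroup G} {t1 t2 z y g d a n b : G} {ψ : Ex → G}
  (H : Qd Z Q Q1 Q2 L1 L2 P W t1 t2 z y g d a n b ψ)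
include H

theorem L2_norm : H.KK ≤ normalizer (L2 : Set G) := fun k hk => by
  refine Subgroup.mem_normalizer_fintype fun x hx => H.R_cent_z ?_ ?_
  · exact (mem_normalizer_iff.1 (mem_inf.1 (H.KK_NN hk)).2 x).1 (H.L2_Rd hx)
  · exact H.duo.data.z_cent (mul_mem (mul_mem (mem_inf.1 hk).1 (H.frame.L2_le hx)) (inv_mem (mem_inf.1 hk).1))

theorem qS_cent_z : H.qS ≤ centralizer ({H.qv (zt 0)} : Set (NB t2 (Rd L2 b n))) := by
  refine sup_le (fun x hx => ?_) (zpowers_le.2 (mem_centralizer_singleton_iff.2 ?_))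
  · obtain ⟨v, rfl⟩ := H.mem_qA.1 hx
    exact mem_centralizer_singleton_iff.2 (H.qv_comm v _)
  · exact mul_inv_eq_iff_eq_mul.1 (by rw [H.qb_act, pm_zt, show cyc 0 = 0 by decide])

/-- An inverter of `z` in `N(Z) ∩ C(r)` may be taken in `N(A)`. -/
theorem exists_move {e : G} (he : e ∈ normalizer (Z : Set G)) (het : e * t2 = t2 * e)
    (hez : e * z * e⁻¹ = z⁻¹) :
    ∃ m ∈ normalizer (AA P y t2 : Set G) ⊓ centralizer ({t2} : Set G), m * z * m⁻¹ = z⁻¹ := by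
  classical
  haveI : Fact (Nat.Prime 3) := ⟨Nat.prime_three⟩
  haveI : IsMulCommutative ↥(AA P y t2) := ⟨⟨fun u w => Subtype.ext (H.duo.data.A_comm u.2 w.2)⟩⟩
  have h81 : Nat.card ↥(AA P y t2) = 81 := H.duo.data.card_A
  set M := cj e (AA P y t2) with hM
  have hMK : M ≤ H.KK := by
    rintro _ ⟨x, hx, rfl⟩
    have hxC := H.duo.data.A_le_C hx
    refine mem_inf.2 ⟨mem_centralizer_iff.2 fun w hw => ?_, ?_⟩
    · have hw' : e⁻¹ * w * e ∈ Z := (mem_normalizer_iff''.1 he w).1 hw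
      show w * (e * x * e⁻¹) = e * x * e⁻¹ * w
      calc w * (e * x * e⁻¹) = e * ((e⁻¹ * w * e) * x) * e⁻¹ := by group
        _ = _ := by rw [mem_centralizer_iff.1 hxC _ hw']; group
    · exact mul_mem (mul_mem (mem_centralizer_singleton_iff.2 het) (mem_inf.1 hx).2)
        (inv_mem (mem_centralizer_singleton_iff.2 het))
  have hR81 : (Nat.card ↥(Rd L2 b n)).Coprime 81 := by
    rw [show 81 = 3 ^ 4 by norm_num]; exact H.R_three.pow_right 4
  set Mb := (M.subgroupOf H.KK).map H.kim with hMb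
  have hMb81 : Nat.card ↥Mb = 81 := by
    set f : ↥M →* NB t2 (Rd L2 b n) := H.kim.comp (Subgroup.inclusion hMK) with hf
    have hr : f.range = Mb := by
      ext x
      constructor
      · rintro ⟨c, rfl⟩; exact ⟨_, mem_subgroupOf.2 c.2, rfl⟩
      · rintro ⟨c, hc, rfl⟩; exact ⟨⟨_, hc⟩, rfl⟩
    have hinj : Function.Injective f := (injective_iff_map_eq_one f).2 fun x hx => by
      have hxR : (x : G) ∈ Rd L2 b n := pn_eq_one.1 hx
      have hbot : Rd L2 b n ⊓ M = ⊥ :=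
        inf_eq_bot_of_coprime (by rw [hM, card_cj, h81]; exact hR81)
      exact Subtype.ext (mem_bot.1 (hbot.le (mem_inf.2 ⟨hxR, x.2⟩)))
    rw [← hr, ← Nat.card_congr (MonoidHom.ofInjective hinj).toEquiv, hM, card_cj, h81]
  set C := centralizer ({H.qv (zt 0)} : Set (NB t2 (Rd L2 b n))) with hC
  have hMbC : Mb ≤ C := by
    rintro _ ⟨c, -, rfl⟩
    refine mem_centralizer_singleton_iff.2 ?_
    rw [H.qv_kim, ← map_mul, ← map_mul]
    refine congrArg _ (Subtype.ext ?_)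
    show (c : G) * ψ (zt 0) = ψ (zt 0) * c
    rw [H.crd.z_eq]
    exact H.duo.data.z_cent (mem_inf.1 c.2).1
  obtain ⟨c, hc, hcS⟩ := conj_into H.qS_cent_z hMbC (IsPGroup.of_card (p := 3) (n := 4) (by rw [hMb81]; norm_num))
    H.card_qS ((card_dvd_of_le fun x hx => H.cent_qz (mem_centralizer_singleton_iff.1 hx)).trans H.card_CB.dvd)
  obtain ⟨k, rfl⟩ := H.qz_lift (mem_centralizer_singleton_iff.1 hc)
  have hEq : Mb.map (MulAut.conj (H.kim k)).toMonoidHom = H.qA := by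
    refine H.abelian_unique ?_ ?_ (by rw [card_map_of_injective (MulAut.conj (H.kim k)).injective, hMb81])
    · rintro _ ⟨w, hw, rfl⟩; exact hcS w hw
    · rintro _ ⟨_, ⟨p, hp, rfl⟩, rfl⟩ _ ⟨_, ⟨q, hq, rfl⟩, rfl⟩
      have hpq : Commute p q := by
        obtain ⟨p', hp', ep⟩ := hp
        obtain ⟨q', hq', eq⟩ := hq
        refine Subtype.ext ?_
        show (p : G) * q = q * p
        rw [show (p : G) = e * p' * e⁻¹ from ep.symm, show (q : G) = e * q' * e⁻¹ from eq.symm]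
        exact ((show Commute p' q' from H.duo.data.A_comm hp' hq').conj e).eq
      exact ((hpq.map H.kim).map (MulAut.conj (H.kim k)).toMonoidHom).eq
  -- back to `G`
  set M' := cj ((k : G) * e) (AA P y t2) with hM'
  have hM'K : M' ≤ H.KK := by
    rintro _ ⟨x, hx, rfl⟩
    show (k : G) * e * x * ((k : G) * e)⁻¹ ∈ H.KK
    rw [show (k : G) * e * x * ((k : G) * e)⁻¹ = (k : G) * (e * x * e⁻¹) * (k : G)⁻¹ by group]
    exact mul_mem (mul_mem k.2 (hMK ⟨x, hx, rfl⟩)) (inv_mem k.2)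
  have hAN : AA P y t2 ≤ normalizer (L2 : Set G) := H.A_KK.trans H.L2_norm
  have hM'N : M' ≤ normalizer (L2 : Set G) := hM'K.trans H.L2_norm
  have hle : M' ≤ L2 ⊔ AA P y t2 := by
    rintro _ ⟨x, hx, rfl⟩
    set m : G := (k : G) * e * x * ((k : G) * e)⁻¹ with hm
    have hmK : m ∈ H.KK := hM'K ⟨x, hx, rfl⟩
    have hxM : e * x * e⁻¹ ∈ M := ⟨x, hx, rfl⟩
    have h1 : H.kim ⟨m, hmK⟩ ∈ H.qA := by
      rw [← hEq]
      refine ⟨_, ⟨⟨_, hMK hxM⟩, mem_subgroupOf.2 hxM, rfl⟩, ?_⟩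
      show H.kim k * H.kim ⟨e * x * e⁻¹, hMK hxM⟩ * (H.kim k)⁻¹ = _
      rw [← map_inv, ← map_mul, ← map_mul]
      refine congrArg _ (Subtype.ext ?_)
      show (k : G) * (e * x * e⁻¹) * (k : G)⁻¹ = m
      rw [hm]; group
    obtain ⟨v, hv⟩ := H.mem_qA.1 h1
    have h2 : (ψ v)⁻¹ * m ∈ Rd L2 b n := pn_eq hv
    have h3 : (ψ v)⁻¹ * m ∈ L2 := H.R_cent_z h2 (H.duo.data.z_cent
      (mul_mem (inv_mem (H.duo.data.A_le_C (H.mem v))) (mem_inf.1 hmK).1))
    show m ∈ L2 ⊔ AA P y t2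
    rw [show m = ψ v * ((ψ v)⁻¹ * m) by group]
    exact mul_mem (mem_sup_right (H.mem v)) (mem_sup_left h3)
  have hM'81 : Nat.card ↥M' = 81 := by rw [hM', card_cj, h81]
  have hcop : (Nat.card ↥L2).Coprime 81 := hR81.coprime_dvd_left (card_dvd_of_le H.L2_Rd)
  have hcards : ∀ B : Subgroup G, B ≤ normalizer (L2 : Set G) → Nat.card ↥B = 81 →
      Nat.card ↥(L2 ⊔ B) = Nat.card ↥L2 * 81 := by
    intro B hB hB81
    have hi : L2 ⊓ B = ⊥ := inf_eq_bot_of_coprime (by rw [hB81]; exact hcop)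
    have := card_sup_mul_inf (A := L2) (B := B) hB
    rwa [hi, card_bot, mul_one, hB81] at this
  have heq : L2 ⊔ M' = L2 ⊔ AA P y t2 := Subgroup.eq_of_le_of_card_ge (sup_le le_sup_left hle)
    (by rw [hcards _ hAN h81, hcards _ hM'N hM'81])
  obtain ⟨ρ, hρ, hρe⟩ := Cfsg.Agent.Coprime.exists_conj_eq_of_sup_eq (N := L2) (H := AA P y t2) (K := M')
    hAN hM'N heq.symm (h81 ▸ hcop) (hM'81 ▸ hcop)
    (Or.inr (Cfsg.Agent.Coprime.isSolvable_of_isMulCommutative _))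
  refine ⟨ρ⁻¹ * ((k : G) * e), mem_inf.2 ⟨Cand.mem_normalizer_of_cj ?_, mul_mem
    (inv_mem (H.rad.le (H.L2_Rd hρ))) (mul_mem (mem_inf.1 k.2).2 (mem_centralizer_singleton_iff.2 het))⟩, ?_⟩
  · rw [← Cand.cj_cj, ← hM', ← hρe]
    ext w
    rw [mem_cj, inv_inv, Subgroup.mem_pointwise_smul_iff_inv_smul_mem, ← map_inv]
    show (ρ⁻¹ * (ρ * w * ρ⁻¹) * ρ⁻¹⁻¹) ∈ AA P y t2 ↔ _
    rw [show ρ⁻¹ * (ρ * w * ρ⁻¹) * ρ⁻¹⁻¹ = w by group]
  · have hkρ : Commute (ρ⁻¹ * (k : G)) z⁻¹ := (show Commute (ρ⁻¹ * (k : G)) z from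
      H.duo.data.z_cent (mul_mem (inv_mem (H.frame.L2_le hρ)) (mem_inf.1 k.2).1)).inv_right
    calc ρ⁻¹ * ((k : G) * e) * z * (ρ⁻¹ * ((k : G) * e))⁻¹
        = (ρ⁻¹ * (k : G)) * (e * z * e⁻¹) * (ρ⁻¹ * (k : G))⁻¹ := by group
      _ = z⁻¹ := by rw [hez, hkρ.eq, mul_inv_cancel_right]

/-- The data at `r = t₂`. -/
theorem big_link {e : G} (he : e ∈ normalizer (Z : Set G)) (het : e * t2 = t2 * e)
    (hez : e * z * e⁻¹ = z⁻¹) :
    ∃ N0, BigLink Z L1 L2 t2 (Rd L2 b n) (AA P y t2) N0 z := by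
  classical
  haveI : Fact (Nat.Prime 3) := ⟨Nat.prime_three⟩
  obtain ⟨D0, hD0le, hA, hL1, hinv, θ, hθ⟩ := H.exists_split
  set N0 := (D0.comap (pn t2 (Rd L2 b n))).map (NN t2 (Rd L2 b n)).subtype with hN0
  have hN0le : N0 ≤ NN t2 (Rd L2 b n) := map_subtype_le _
  have hmem : ∀ {m : G} (hm : m ∈ NN t2 (Rd L2 b n)), m ∈ N0 ↔ pn t2 (Rd L2 b n) ⟨m, hm⟩ ∈ D0 :=
    fun {m} hm => ⟨fun ⟨c, hc, e⟩ => (show c = ⟨m, hm⟩ from Subtype.ext e) ▸ hc, fun h => ⟨⟨m, hm⟩, h, rfl⟩⟩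
  have hRN : Rd L2 b n ≤ N0 := fun x hx => (hmem (H.Rd_NN hx)).2 (by rw [pn_eq_one.2 hx]; exact one_mem _)
  have hAN0 : ∀ v, sm v = 0 → ψ v ∈ N0 := fun v hv => (hmem (H.A_NN (H.mem v))).2 ((hA v).2 hv)
  obtain ⟨m, hm, hmz⟩ := H.exists_move he het hez
  have hmN : m ∈ NN t2 (Rd L2 b n) := mem_inf.2 ⟨(mem_inf.1 hm).2, H.rad.norm_A hm⟩
  obtain ⟨ε, π, hε, hact, -⟩ := H.exists_act (c := ⟨m, hmN⟩) hm
  have hε1 : ε = -1 := by
    refine flip_sign ε (π 0) hε (H.crd.inj ?_)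
    rw [← pm_zt, ← hact, H.neg, H.crd.z_eq]
    exact hmz
  refine ⟨N0,
    { two := H.frame.t2_two
      extra := H.rad.extra
      card_R := H.rad.card
      centre := H.rad.centre
      cent := H.nrm.cent_R
      R_le := hRN
      N0_le := hN0le
      normal := fun c hc w hw => ?_
      psp := ⟨ZMod 3, inferInstance, inferInstance, ZMod.card 3, ?_⟩
      A_cent := inf_le_right
      A_norm := H.rad.A_norm
      A_comm := ⟨⟨fun u w => Subtype.ext (H.duo.data.A_comm u.2 w.2)⟩⟩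
      A_exp := fun a ha => H.duo.data.A_exp ha
      A_card := H.duo.data.card_A
      A_R := ?_
      sig := H.nrm.sig
      z_mem := H.z_A
      z_ne := H.duo.data.z_ne
      z_inner := H.crd.z_eq ▸ hAN0 _ sm_zt
      z_fix := ?_
      z_cent := fun c hc => (mem_inf.1 (H.KK_NN (mem_inf.2
        ⟨H.duo.data.mem_CZ (mem_centralizer_singleton_iff.1 (mem_inf.1 hc).1), (mem_inf.1 hc).2⟩))).2
      z_Z := H.duo.data.z_mem
      L1_le := fun l hl => (hmem (H.L1_NN hl)).2 (hL1 l hl)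
      L2_le := H.L2_Rd.trans hRN
      flip := ⟨m, hmN, hmz, fun u hu => ?_⟩ }⟩
  · refine (hmem (mul_mem (mul_mem hc (hN0le hw)) (inv_mem hc))).2 ?_
    exact hinv _ (H.σb_normal (pn _ _ ⟨c, hc⟩)) _ ((hmem (hN0le hw)).1 hw)
  · refine ⟨θ.comp (((pn t2 (Rd L2 b n)).comp (Subgroup.inclusion hN0le)).codRestrict D0
      fun w => (hmem (hN0le w.2)).1 w.2), fun s => ?_, fun w => ?_⟩
    · obtain ⟨⟨x, hx⟩, rfl⟩ := hθ.2 s
      obtain ⟨c, hc⟩ := QuotientGroup.mk'_surjective _ x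
      exact ⟨⟨c, (hmem c.2).2 (hc.symm ▸ hx)⟩, congrArg θ (Subtype.ext hc)⟩
    · constructor
      · intro h
        have := hθ.1 (h.trans (map_one θ).symm)
        exact (pn_eq_one (a := ⟨(w : G), hN0le w.2⟩)).1 (congrArg Subtype.val this)
      · intro h
        refine (congrArg θ (Subtype.ext ?_)).trans (map_one θ)
        exact (pn_eq_one (a := ⟨(w : G), hN0le w.2⟩)).2 h
  · intro x hx
    refine H.rad.fix _ w_zero.2 x (mem_inf.1 hx).1 ?_
    exact (mem_centralizer_iff.1 (mem_inf.1 hx).2 _ (mem_inf.2 ⟨H.mem _, hAN0 _ w_zero.1⟩)).symm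
  · rw [← H.crd.z_eq, H.rad.inf 0]
    exact H.rad.Lv_card 0
  · obtain ⟨v, rfl⟩ := (H.crd.mem u).1 hu
    rw [hact, ← H.crd.add, hε1]
    refine hAN0 _ ?_
    rw [sm_add, neg_one_smul, show sm (-pm π v) = -sm (pm π v) from Finset.sum_neg_distrib _, sm_pm,
      neg_add_cancel]

end Qd

/-- THEOREM: the data at `r = t₂` from the pieces. -/
theorem exists_big_link {Z Q Q1 Q2 L1 L2 P W : Subgroup G} {t1 t2 z y g d a n b : G} {ψ : Ex → G}
    (U : Duo Z Q Q1 Q2 L1 L2 P W t1 t2 z y g d a n) (C : Crd Z Q1 Q2 W (AA P y t2) t2 z y d n b ψ)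
    (Ra : Rad Q1 L2 (AA P y t2) t2 b n ψ) (No : Norm Z Q1 L1 L2 W (AA P y t2) (Rd L2 b n) t2 ψ)
    (hflip : ∃ e ∈ normalizer (Z : Set G), e * t2 = t2 * e ∧ e * z * e⁻¹ = z⁻¹) :
    ∃ N0, BigLink Z L1 L2 t2 (Rd L2 b n) (AA P y t2) N0 z := by
  obtain ⟨e, he, het, hez⟩ := hflip
  exact (Qd.mk U C Ra No).big_link he het hez

end Cfsg.Agent.UThreeLocal.Big.Local
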