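import Cfsg.Agent.Lib.UThreeLocal.Cand.Radical

/-!
# The quaternion group `L₂` from the frame alone

`L₂` consists of the elements of `C(Z) ∩ C(Q₁) ∩ C(r)` of order dividing eight, so `N(Z) ∩ C(r)` normalises it;
an element of order three acting nontrivially on `Q₂/Z` fixes only `⟨r⟩` in it.
-/

set_option autoImplicit false
set_option linter.unusedSectionVars false
set_option linter.style.haveILetI false
set_option maxRecDepth 100000

namespace Cfsg.Agent.UThreeLocal.Big.Local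

open Subgroup
open scoped commutatorElement
open Cfsg.Agent.PSpAmalgam (SL3 negOne)
open Cfsg.Agent.UThreeLocal.Cand (sl_eight slq_card slq_sq slq_center slq_invol exists_sl_action Good)
open Cfsg.Agent.UThreeLocal.Cand (IsQ)

universe u

theorem slq_fix : ∀ p q : SL3, p ^ 3 = 1 → p ≠ 1 → IsQ q → p * q = q * p → q = 1 ∨ q = negOne := by
  decide +kernel

theorem slq_pair : ∃ p q : SL3, IsQ p ∧ IsQ q ∧ p * p = negOne ∧ q * q = negOne ∧ p * q = negOne * (q * p) ∧
    ∀ s : SL3, IsQ s → ∃ (i : Fin 4) (j : Fin 2), s = p ^ (i : ℕ) * q ^ (j : ℕ) := by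
  decide +kernel

theorem slq_sq' : ∀ p : SL3, IsQ p → p * p = 1 ∨ p * p = negOne := by decide +kernel

variable {G : Type u} [Group G] [Finite G] {Z Q Q1 Q2 L1 L2 : Subgroup G} {t1 t2 : G}
  (F : Frame Z Q Q1 Q2 L1 L2 t1 t2)
include F

theorem frame_L2_triv {l : G} (hl : l ∈ L2) (ht : Triv Z Q2 l) : l = 1 := by
  have h1 : Triv Z Q1 l := fun x hx => by
    rw [← mem_centralizer_iff.1 (F.L2_cent hl) x hx, mul_inv_cancel_right, inv_mul_cancel]
    exact one_mem Z
  have h8 : l ^ 8 = 1 := by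
    have h := pow_card_eq_one' (x := (⟨l, hl⟩ : ↥L2))
    rw [F.L2_card] at h
    simpa using congrArg Subtype.val h
  have := pow_gcd_eq_one.2 ⟨h8, F.cube l (F.mem_Q_of_triv (F.L2_le hl) h1 ht)⟩
  rwa [show Nat.gcd 8 3 = 1 from rfl, pow_one] at this

/-- A group containing `L₂` acts on `Q₂/Z` with `L₂` onto the quaternion subgroup. -/
theorem exists_quat_action {z : G} (hz : z ∈ Z) (hz1 : z ≠ 1) {K : Subgroup G} (hKC : K ≤ centralizer (Z : Set G))
    (hKN : K ≤ normalizer (Q2 : Set G)) (hLK : L2 ≤ K) :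
    ∃ π : ↥K →* SL3, (∀ k : ↥K, π k = 1 ↔ Triv Z Q2 (k : G)) ∧
      (∀ l : ↥K, (l : G) ∈ L2 → IsQ (π l)) ∧ (∀ p : SL3, IsQ p → ∃ l : ↥K, (l : G) ∈ L2 ∧ π l = p) ∧
      (∀ l l' : ↥K, (l : G) ∈ L2 → (l' : G) ∈ L2 → π l = π l' → l = l') ∧ π ⟨t2, hLK F.t2_mem⟩ = negOne := by
  classical
  obtain ⟨π, hπ⟩ := exists_sl_action F hz hz1 hKC hKN
  let ρ : ↥L2 →* SL3 := π.comp (inclusion hLK)
  have hinj : Function.Injective ρ := (injective_iff_map_eq_one ρ).2 fun l hl =>
    Subtype.ext (frame_L2_triv F l.2 ((hπ _).1 hl))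
  have h8 : ∀ l : ↥L2, l ^ 8 = 1 := fun l => by rw [← F.L2_card]; exact pow_card_eq_one'
  have hQ : ∀ l : ↥L2, IsQ (ρ l) := fun l => (sl_eight (ρ l)).2.1 (by rw [← map_pow, h8, map_one])
  have hbij : Function.Bijective (fun l : ↥L2 => (⟨ρ l, hQ l⟩ : {p : SL3 // IsQ p})) :=
    (Nat.bijective_iff_injective_and_card _).2 ⟨fun a c e => hinj (congrArg Subtype.val e),
      by rw [F.L2_card, Nat.card_eq_fintype_card, slq_card]⟩
  refine ⟨π, hπ, fun l hl => hQ ⟨(l : G), hl⟩, fun p hp => ?_, fun l l' hl hl' e => ?_, ?_⟩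
  · obtain ⟨m, hm⟩ := hbij.2 ⟨p, hp⟩
    exact ⟨inclusion hLK m, m.2, congrArg Subtype.val hm⟩
  · exact Subtype.ext (congrArg (Subtype.val : ↥L2 → G) (hinj (a₁ := (⟨(l : G), hl⟩ : ↥L2))
      (a₂ := (⟨(l' : G), hl'⟩ : ↥L2)) e))
  · show ρ ⟨t2, F.t2_mem⟩ = negOne
    have hsq : (⟨t2, F.t2_mem⟩ : ↥L2) * ⟨t2, F.t2_mem⟩ = 1 := Subtype.ext (by
      show t2 * t2 = 1
      rw [← pow_two, ← F.t2_two, pow_orderOf_eq_one])
    refine slq_invol _ (by rw [← map_mul, hsq, map_one]) fun e => ?_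
    have h1 := congrArg Subtype.val (hinj (e.trans (map_one ρ).symm))
    have h2 := F.t2_two
    rw [show t2 = 1 from h1, orderOf_one] at h2
    omega

theorem cent_Q1_norm_Q2 {x : G} (hx : x ∈ centralizer (Z : Set G)) (hxQ : ∀ u ∈ Q1, x * u = u * x) :
    x ∈ normalizer (Q2 : Set G) := by
  rcases F.perm x hx with hp | hs
  · exact mem_normalizer_iff.2 hp.2
  · exfalso
    have hle : Q1 ≤ Z := fun u hu => F.not_swap_both hu (by
      have := (hs.1 u).1 hu
      rwa [hxQ u hu, mul_inv_cancel_right] at this)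
    have h27 := Subgroup.card_le_of_le hle
    rw [F.pair.card1, F.set.Z_card] at h27
    omega

/-- The elements of `C(Z) ∩ C(Q₁) ∩ C(r)` of order dividing eight lie in `L₂`. -/
theorem mem_L2_of_cent {z : G} (hz : z ∈ Z) (hz1 : z ≠ 1) {x : G} (hxC : x ∈ centralizer (Z : Set G))
    (hxQ : ∀ u ∈ Q1, x * u = u * x) (hxt : x * t2 = t2 * x) (hx8 : x ^ 8 = 1) : x ∈ L2 := by
  classical
  have h := F.set
  have hxN := cent_Q1_norm_Q2 F hxC hxQ
  obtain ⟨π, hπ, -, hon, -, -⟩ := exists_quat_action F hz hz1 (K := L2 ⊔ zpowers x)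
    (sup_le F.L2_le (zpowers_le.2 hxC)) (sup_le F.L2_norm (zpowers_le.2 hxN)) le_sup_left
  let xK : ↥(L2 ⊔ zpowers x) := ⟨x, mem_sup_right (mem_zpowers x)⟩
  obtain ⟨l, hl, el⟩ := hon (π xK) ((sl_eight (π xK)).2.1 (by
    rw [← map_pow, show xK ^ 8 = 1 from Subtype.ext hx8, map_one]))
  have hk2 : Triv Z Q2 ((l⁻¹ * xK : ↥(L2 ⊔ zpowers x)) : G) := (hπ _).1 (by
    rw [map_mul, map_inv, el, inv_mul_cancel])
  set k := (l : G)⁻¹ * x with hk
  have hkC : k ∈ centralizer (Z : Set G) := mul_mem (inv_mem (F.L2_le hl)) hxC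
  have hkQ1 : ∀ u ∈ Q1, k * u = u * k := fun u hu =>
    ((show Commute (l : G) u from (mem_centralizer_iff.1 (F.L2_cent hl) u hu).symm).inv_left.mul_left
      (show Commute x u from hxQ u hu)).eq
  have hkQ : k ∈ Q := F.mem_Q_of_triv hkC (fun u hu => by
    rw [hkQ1 u hu, mul_inv_cancel_right, inv_mul_cancel]; exact one_mem _) hk2
  have hkt : Commute t2 k := (show Commute t2 (l : G) from F.t2_comm _ hl).inv_right.mul_right
    (show Commute t2 x from hxt.symm)
  have hkZ : k ∈ Z := by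
    obtain ⟨u, hu, v, hv, e⟩ := F.pair.dec k hkQ
    have hut : t2 * u * t2⁻¹ = u := by
      rw [← mem_centralizer_iff.1 (F.L2_cent F.t2_mem) u hu, mul_inv_cancel_right]
    have h1 : t2 * v * t2⁻¹ = v := by
      have h2 : t2 * k * t2⁻¹ = k := by rw [hkt.eq, mul_inv_cancel_right]
      rw [e, show t2 * (u * v) * t2⁻¹ = (t2 * u * t2⁻¹) * (t2 * v * t2⁻¹) by group, hut] at h2
      exact mul_left_cancel h2
    have h3 := F.t2_inv v hv
    rw [h1] at h3
    have hvZ : v ∈ Z := by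
      rw [show v = (v * v)⁻¹ * v ^ 3 by rw [pow_succ, pow_two]; group, F.cube v (F.pair.le2 hv), mul_one]
      exact inv_mem h3
    rw [e]
    refine mul_mem ?_ hvZ
    by_contra huZ
    obtain ⟨w, hw, huw⟩ := F.pair.exists_noncomm h hu huZ
    refine huw ?_
    have h4 := hkQ1 w hw
    rw [e, mul_assoc, h.comm_Z (F.pair.le1 hw) hvZ, ← mul_assoc, ← mul_assoc] at h4
    exact mul_right_cancel h4
  have hlk : Commute (l : G) k := (mem_centralizer_iff.1 (F.L2_le hl) k hkZ).symm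
  have hl8 : (l : G) ^ 8 = 1 := by
    have h0 := pow_card_eq_one' (x := (⟨(l : G), hl⟩ : ↥L2))
    rw [F.L2_card] at h0
    simpa using congrArg Subtype.val h0
  have h8 := hx8
  rw [show x = (l : G) * k by rw [hk, mul_inv_cancel_left], hlk.mul_pow, hl8, one_mul] at h8
  have h3 := pow_gcd_eq_one.2 ⟨h8, F.cube k hkQ⟩
  rw [show Nat.gcd 8 3 = 1 from rfl, pow_one] at h3
  rw [show x = (l : G) * k by rw [hk, mul_inv_cancel_left], h3, mul_one]
  exact hl

theorem mem_Q1_of_fix {x : G} (hx : x ∈ Q) (hxt : t2 * x = x * t2) : x ∈ Q1 := by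
  obtain ⟨u, hu, v, hv, e⟩ := F.pair.dec x hx
  have hut : t2 * u * t2⁻¹ = u := by
    rw [← mem_centralizer_iff.1 (F.L2_cent F.t2_mem) u hu, mul_inv_cancel_right]
  have h1 : t2 * v * t2⁻¹ = v := by
    have h2 : t2 * x * t2⁻¹ = x := by rw [hxt, mul_inv_cancel_right]
    rw [e, show t2 * (u * v) * t2⁻¹ = (t2 * u * t2⁻¹) * (t2 * v * t2⁻¹) by group, hut] at h2
    exact mul_left_cancel h2
  have h3 := F.t2_inv v hv
  rw [h1] at h3
  rw [e]
  refine mul_mem hu (F.pair.Z1 ?_)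
  rw [show v = (v * v)⁻¹ * v ^ 3 by rw [pow_succ, pow_two]; group, F.cube v (F.pair.le2 hv), mul_one]
  exact inv_mem h3

theorem norm_Q1_of_fix {c : G} (hc : c ∈ normalizer (Z : Set G)) (hct : c * t2 = t2 * c) :
    c ∈ normalizer (Q1 : Set G) := Subgroup.mem_normalizer_fintype fun x hx => by
  refine mem_Q1_of_fix F ((mem_normalizer_iff.1 (F.normalizer_le_normalizer_Q hc) x).1 (F.pair.le1 hx)) ?_
  have h1 : Commute t2 x := (mem_centralizer_iff.1 (F.L2_cent F.t2_mem) x hx).symm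
  have h2 : Commute t2 c := hct.symm
  exact ((h2.mul_right h1).mul_right h2.inv_right).eq

/-- `N(Z) ∩ C(r)` normalises `L₂`. -/
theorem norm_L2_of_fix {z : G} (hz : z ∈ Z) (hz1 : z ≠ 1) {c : G} (hc : c ∈ normalizer (Z : Set G))
    (hct : c * t2 = t2 * c) : c ∈ normalizer (L2 : Set G) := Subgroup.mem_normalizer_fintype fun x hx => by
  refine mem_L2_of_cent F hz hz1 (mem_centralizer_iff.2 fun w hw => ?_) (fun u hu => ?_) ?_ ?_
  · have hw' : c⁻¹ * w * c ∈ Z := by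
      have := (mem_normalizer_iff.1 (inv_mem hc) w).1 hw
      rwa [inv_inv] at this
    calc w * (c * x * c⁻¹) = c * ((c⁻¹ * w * c) * x) * c⁻¹ := by group
      _ = _ := by rw [mem_centralizer_iff.1 (F.L2_le hx) _ hw']; group
  · have hu' : c⁻¹ * u * c ∈ Q1 := by
      have := (mem_normalizer_iff.1 (inv_mem (norm_Q1_of_fix F hc hct)) u).1 hu
      rwa [inv_inv] at this
    calc c * x * c⁻¹ * u = c * (x * (c⁻¹ * u * c)) * c⁻¹ := by group
      _ = _ := by rw [← mem_centralizer_iff.1 (F.L2_cent hx) _ hu']; group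
  · have h1 : Commute c t2 := hct
    exact ((h1.mul_left (show Commute x t2 from (F.t2_comm x hx).symm)).mul_left h1.inv_left).eq
  · have h0 := pow_card_eq_one' (x := (⟨x, hx⟩ : ↥L2))
    rw [F.L2_card] at h0
    rw [conj_pow, show x ^ 8 = 1 by simpa using congrArg Subtype.val h0, mul_one, mul_inv_cancel]

/-- `L₂` is a quaternion group at `r`. -/
theorem quat_L2 {z : G} (hz : z ∈ Z) (hz1 : z ≠ 1) : Good t2 L2 ∧
    ∃ x y : G, x * x = t2 ∧ y * y = t2 ∧ x * y = t2 * (y * x) ∧ x * y ≠ y * x ∧ L2 = closure {x, y} := by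
  classical
  obtain ⟨π, -, hQ, hon, hinj, ht⟩ := exists_quat_action F hz hz1 F.L2_le F.L2_norm le_rfl
  have hinj' : Function.Injective π := fun l l' e => hinj l l' l.2 l'.2 e
  let tK : ↥L2 := ⟨t2, F.t2_mem⟩
  refine ⟨⟨F.t2_mem, fun l hl => (F.t2_comm l hl).symm, fun l hl => ?_, fun l hl hc => ?_⟩, ?_⟩
  · rcases slq_sq' _ (hQ ⟨l, hl⟩ hl) with e | e
    · exact Or.inl (congrArg Subtype.val (hinj' (a₁ := ⟨l, hl⟩ * ⟨l, hl⟩) (a₂ := (1 : ↥L2))
        (by rw [map_mul, map_one, e])))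
    · exact Or.inr (congrArg Subtype.val (hinj' (a₁ := ⟨l, hl⟩ * ⟨l, hl⟩) (a₂ := tK) (by rw [map_mul, e, ht])))
  · have hc' := slq_center (π ⟨l, hl⟩) (hQ _ hl) fun q hq => by
      obtain ⟨m, hm, rfl⟩ := hon q hq
      rw [← map_mul, ← map_mul]
      exact congrArg π (Subtype.ext (hc m m.2))
    rcases hc' with e | e
    · exact Or.inl (congrArg Subtype.val (hinj' (e.trans (map_one π).symm)))
    · exact Or.inr (congrArg Subtype.val (hinj' (e.trans ht.symm)))
  · obtain ⟨p, q, hp, hq, ep, eq', epq, hall⟩ := slq_pair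
    obtain ⟨x, -, hx⟩ := hon p hp
    obtain ⟨y, -, hy⟩ := hon q hq
    have exy : x * y = tK * (y * x) := hinj' (by rw [map_mul, map_mul, map_mul, hx, hy, ht, epq])
    refine ⟨x, y, congrArg Subtype.val (hinj' (a₁ := x * x) (a₂ := tK) (by rw [map_mul, hx, ep, ht])),
      congrArg Subtype.val (hinj' (a₁ := y * y) (a₂ := tK) (by rw [map_mul, hy, eq', ht])),
      congrArg Subtype.val exy, fun e => ?_, le_antisymm (fun l hl => ?_) ((closure_le L2).2 (by
        rintro w (rfl | rfl)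
        exacts [x.2, y.2]))⟩
    · have e' : x * y = y * x := Subtype.ext e
      have h1 : tK * (y * x) = y * x := exy.symm.trans e'
      have h2 : (tK : G) = 1 := congrArg Subtype.val (mul_eq_right.1 h1)
      have h3 := F.t2_two
      rw [show t2 = 1 from h2, orderOf_one] at h3
      omega
    · obtain ⟨i, j, e⟩ := hall (π ⟨l, hl⟩) (hQ _ hl)
      have h1 : (⟨l, hl⟩ : ↥L2) = x ^ (i : ℕ) * y ^ (j : ℕ) := hinj' (by rw [map_mul, map_pow, map_pow, hx, hy, e])
      have hlx : l = (x : G) ^ (i : ℕ) * (y : G) ^ (j : ℕ) := by simpa using congrArg Subtype.val h1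
      have hxc : (x : G) ∈ closure ({(x : G), (y : G)} : Set G) := subset_closure (Set.mem_insert _ _)
      have hyc : (y : G) ∈ closure ({(x : G), (y : G)} : Set G) := subset_closure (Set.mem_insert_of_mem _ rfl)
      rw [hlx]
      exact mul_mem (pow_mem hxc _) (pow_mem hyc _)

/-- An element of order three moving `Q₂/Z` fixes only `⟨r⟩` in `L₂`. -/
theorem fix_L2 {z : G} (hz : z ∈ Z) (hz1 : z ≠ 1) {a : G} (haC : a ∈ centralizer (Z : Set G))
    (haN : a ∈ normalizer (Q2 : Set G)) (ha3 : a ^ 3 = 1) (han : ¬ Triv Z Q2 a) {l : G} (hl : l ∈ L2)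
    (hla : l * a = a * l) : l ∈ zpowers t2 := by
  classical
  obtain ⟨π, hπ, hQ, -, hinj, ht⟩ := exists_quat_action F hz hz1 (K := L2 ⊔ zpowers a)
    (sup_le F.L2_le (zpowers_le.2 haC)) (sup_le F.L2_norm (zpowers_le.2 haN)) le_sup_left
  let aK : ↥(L2 ⊔ zpowers a) := ⟨a, mem_sup_right (mem_zpowers a)⟩
  let lK : ↥(L2 ⊔ zpowers a) := ⟨l, mem_sup_left hl⟩
  rcases slq_fix (π aK) (π lK) (by rw [← map_pow, show aK ^ 3 = 1 from Subtype.ext ha3, map_one])
    (fun e => han ((hπ aK).1 e)) (hQ lK hl)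
    (by rw [← map_mul, ← map_mul]; exact congrArg π (Subtype.ext hla.symm)) with e | e
  · have := congrArg Subtype.val (hinj lK 1 hl (one_mem L2) (e.trans (map_one π).symm))
    rw [show l = 1 from this]
    exact one_mem _
  · have := congrArg Subtype.val (hinj lK ⟨t2, mem_sup_left F.t2_mem⟩ hl F.t2_mem (e.trans ht.symm))
    rw [show l = t2 from this]
    exact mem_zpowers _

end Cfsg.Agent.UThreeLocal.Big.Local
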