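import Cfsg.Agent.Lib.UThreeLocal.Big.Local.Coord
import Cfsg.Agent.Lib.UThreeLocal.Big.Local.HyperCoord
import Cfsg.Agent.Lib.UThreeLocal.Big.Local.Quat

/-!
# The extraspecial group of order `2⁹` in the big case

`Rd` is the product of the four conjugates of `L₂` at the points; an element of `C(r)` carrying one point line
to another carries the quaternion groups along.
-/

set_option autoImplicit false
set_option linter.unusedSectionVars false
set_option linter.style.haveILetI false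
set_option maxRecDepth 100000

namespace Cfsg.Agent.UThreeLocal.Big.Local

open Subgroup
open scoped commutatorElement
open Cfsg.Agent.UThreeLocal.Cand (Good cj_cj cj_one cj_zpowers cj_of_mem_normalizer mem_normalizer_of_cj)

universe u

theorem zt_perm (π : Equiv.Perm (Fin 4)) (i : Fin 4) : pm π (zt i) = zt (π i) := by
  funext j
  simp only [pm, zt, Equiv.eq_symm_apply]

theorem cyc_val : cyc 0 = 0 ∧ cyc 1 = 2 ∧ cyc 2 = 3 ∧ cyc 3 = 1 := by decide +kernel

theorem gP_back : ∀ (i : Fin 4) (v : Ex), pm (gP i).symm v 0 = v i ∧ pm (gP i) (pm (gP i).symm v) = v := by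
  decide +kernel

/-- A splitting of a fixed element of a commuting product. -/
theorem fix_split {G : Type u} [Group G] {S T : Subgroup G} {r a x : G} (hr : r * r = 1)
    (hc : ∀ s ∈ S, ∀ t ∈ T, s * t = t * s) (hST : S ⊓ T ≤ zpowers r) (har : a * r = r * a) (ha3 : a ^ 3 = 1)
    (haS : a ∈ normalizer (S : Set G)) (haT : a ∈ normalizer (T : Set G)) (hx : x ∈ S ⊔ T)
    (hxa : x * a = a * x) : ∃ s ∈ S, ∃ t ∈ T, s * t = x ∧ s * a = a * s ∧ t * a = a * t := by
  have hn : T ≤ normalizer (S : Set G) := fun t ht => mem_normalizer_iff.2 fun s =>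
    ⟨fun hs => by rw [← hc s hs t ht, mul_inv_cancel_right]; exact hs, fun hs => by
      have h1 := hc _ hs t ht
      rw [show t * s * t⁻¹ * t = t * s by group, mul_right_inj] at h1
      rw [h1]; exact hs⟩
  rw [← SetLike.mem_coe, Subgroup.coe_mul_of_right_le_normalizer_left S T hn, Set.mem_mul] at hx
  obtain ⟨s, hs, t, ht, rfl⟩ := hx
  have hs' := (mem_normalizer_iff.1 haS s).1 hs
  have ht' := (mem_normalizer_iff.1 haT t).1 ht
  have e : a * s * a⁻¹ * (a * t * a⁻¹) = s * t := by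
    rw [show a * s * a⁻¹ * (a * t * a⁻¹) = a * (s * t) * a⁻¹ by group, ← hxa, mul_inv_cancel_right]
  set c := s⁻¹ * (a * s * a⁻¹) with hcdef
  have hcS : c ∈ S := mul_mem (inv_mem hs) hs'
  have hcT : c ∈ T := by
    have : c = t * (a * t * a⁻¹)⁻¹ := by
      rw [hcdef, eq_mul_inv_iff_mul_eq, mul_assoc, e, inv_mul_cancel_left]
    rw [this]; exact mul_mem ht (inv_mem ht')
  obtain ⟨k, hk⟩ := mem_zpowers_iff.1 (hST (mem_inf.2 ⟨hcS, hcT⟩))
  have hac : a * c * a⁻¹ = c := by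
    rw [← hk, ← conj_zpow, har, mul_inv_cancel_right]
  have e1 : a * s * a⁻¹ = s * c := by rw [hcdef, mul_inv_cancel_left]
  have e3 : a ^ 3 * s * (a ^ 3)⁻¹ = s * (c * c * c) := by
    calc a ^ 3 * s * (a ^ 3)⁻¹ = a * (a * (a * s * a⁻¹) * a⁻¹) * a⁻¹ := by simp [pow_succ, mul_assoc]
      _ = a * (a * (s * c) * a⁻¹) * a⁻¹ := by rw [e1]
      _ = a * ((a * s * a⁻¹) * (a * c * a⁻¹)) * a⁻¹ := by group
      _ = a * (s * c * c) * a⁻¹ := by rw [hac, e1]
      _ = (a * s * a⁻¹) * (a * c * a⁻¹) * (a * c * a⁻¹) := by group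
      _ = s * (c * c * c) := by rw [e1, hac]; simp only [mul_assoc]
  rw [ha3, one_mul, inv_one, mul_one, left_eq_mul] at e3
  have hc2 : c * c = 1 := by
    rw [← hk, ← (Commute.refl r).mul_zpow, hr, one_zpow]
  rw [hc2, one_mul] at e3
  rw [e3, mul_one] at e1
  have hsa : s * a = a * s := (mul_inv_eq_iff_eq_mul.1 e1).symm
  refine ⟨s, hs, t, ht, rfl, hsa, ?_⟩
  refine mul_left_cancel (a := s) ?_
  rw [← mul_assoc, hxa, ← mul_assoc, ← mul_assoc, hsa]

variable {G : Type u} [Group G] [Finite G] {Z Q Q1 Q2 L1 L2 P W : Subgroup G} {t1 t2 z y g d a n b : G}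
  {ψ : Ex → G}

theorem gv_act (C : Crd Z Q1 Q2 W (AA P y t2) t2 z y d n b ψ) (i : Fin 4) (v : Ex) :
    gv b n i * ψ v * (gv b n i)⁻¹ = ψ (pm (gP i) v) := by
  fin_cases i
  · show 1 * ψ v * (1 : G)⁻¹ = ψ v
    group
  · exact C.n_act v
  · show b * n * ψ v * (b * n)⁻¹ = ψ (pm cyc (pm (Equiv.swap 0 1) v))
    rw [← C.b_act, ← C.n_act]; group
  · show b * b * n * ψ v * (b * b * n)⁻¹ = ψ (pm cyc (pm cyc (pm (Equiv.swap 0 1) v)))
    rw [← C.b_act, ← C.b_act, ← C.n_act]; group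

theorem gv_commute (U : Duo Z Q Q1 Q2 L1 L2 P W t1 t2 z y g d a n)
    (C : Crd Z Q1 Q2 W (AA P y t2) t2 z y d n b ψ) (i : Fin 4) : gv b n i * t2 = t2 * gv b n i := by
  have cb : Commute b t2 := (U.data.t2_fix C.b_mem).symm
  have cn : Commute n t2 := U.n_t2
  fin_cases i
  exacts [(Commute.one_left t2).eq, cn.eq, (cb.mul_left cn).eq, ((cb.mul_left cb).mul_left cn).eq]

theorem gv_Z (U : Duo Z Q Q1 Q2 L1 L2 P W t1 t2 z y g d a n)
    (C : Crd Z Q1 Q2 W (AA P y t2) t2 z y d n b ψ) (i : Fin 4) : cj (gv b n i) Z = zpowers (ψ (zt i)) := by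
  rw [← zpowers_eq_of_prime U.data.set.Z_card U.data.z_mem U.data.z_ne, cj_zpowers, ← C.z_eq, gv_act C,
    zt_perm, (gP_facts i).1]

/-- An element of `C(r)` carrying one point line to another carries the quaternion groups along. -/
theorem Lv_map (U : Duo Z Q Q1 Q2 L1 L2 P W t1 t2 z y g d a n)
    (C : Crd Z Q1 Q2 W (AA P y t2) t2 z y d n b ψ) {h : G} (hh : h * t2 = t2 * h) {i j : Fin 4}
    (e : cj h (zpowers (ψ (zt i))) = zpowers (ψ (zt j))) : cj h (Lv L2 b n i) = Lv L2 b n j := by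
  set c := (gv b n j)⁻¹ * h * gv b n i with hc
  have hcZ : c ∈ normalizer (Z : Set G) := mem_normalizer_of_cj (by
    rw [hc, ← cj_cj, ← cj_cj, gv_Z U C i, e, ← gv_Z U C j, cj_cj, inv_mul_cancel, cj_one])
  have hct : c * t2 = t2 * c :=
    (((show Commute (gv b n j) t2 from gv_commute U C j).inv_left.mul_left (show Commute h t2 from hh)).mul_left
      (show Commute (gv b n i) t2 from gv_commute U C i)).eq
  have h1 := cj_of_mem_normalizer (norm_L2_of_fix U.data.frame U.data.z_mem U.data.z_ne hcZ hct)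
  show cj h (cj (gv b n i) L2) = cj (gv b n j) L2
  rw [cj_cj, show h * gv b n i = gv b n j * c by rw [hc]; group, ← cj_cj, h1]

theorem Lv_le_Rd (i : Fin 4) : Lv L2 b n i ≤ Rd L2 b n := by
  fin_cases i
  · exact le_sup_left.trans (le_sup_left.trans le_sup_left)
  · exact le_sup_right.trans (le_sup_left.trans le_sup_left)
  · exact le_sup_right.trans le_sup_left
  · exact le_sup_right

theorem Lv_zero : Lv L2 b n 0 = L2 := by rw [Lv, show gv b n 0 = 1 from rfl, cj_one]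

/-- An element of `C(r)` permuting the point lines normalises `Rd`. -/
theorem norm_of_lines (U : Duo Z Q Q1 Q2 L1 L2 P W t1 t2 z y g d a n)
    (C : Crd Z Q1 Q2 W (AA P y t2) t2 z y d n b ψ) {h : G} (hh : h * t2 = t2 * h)
    (hl : ∀ i, ∃ j, cj h (zpowers (ψ (zt i))) = zpowers (ψ (zt j))) :
    h ∈ normalizer (Rd L2 b n : Set G) := by
  refine mem_normalizer_of_cj (Subgroup.eq_of_le_of_card_ge ?_ (by rw [card_cj]))
  have hle : ∀ i, cj h (Lv L2 b n i) ≤ Rd L2 b n := fun i => by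
    obtain ⟨j, e⟩ := hl i
    rw [Lv_map U C hh e]
    exact Lv_le_Rd j
  rw [Rd, cj, Subgroup.map_sup, Subgroup.map_sup, Subgroup.map_sup]
  exact sup_le (sup_le (sup_le (hle 0) (hle 1)) (hle 2)) (hle 3)

/-- THEOREM: the extraspecial group. -/
theorem exists_rad (U : Duo Z Q Q1 Q2 L1 L2 P W t1 t2 z y g d a n)
    (C : Crd Z Q1 Q2 W (AA P y t2) t2 z y d n b ψ) : Rad Q1 L2 (AA P y t2) t2 b n ψ := by
  classical
  haveI : Fact (Nat.Prime 3) := ⟨Nat.prime_three⟩
  have D := U.data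
  have F := D.frame
  have h := D.set
  obtain ⟨hG, x0, y0, hx0, hy0, hxy, hne, hcl⟩ := quat_L2 F D.z_mem D.z_ne
  have hA := Coord.mem_A C
  have hneg := Coord.psi_neg C
  have hline : ∀ (g' : G) (ε : ZMod 3) (π : Equiv.Perm (Fin 4)), (ε = 1 ∨ ε = -1) →
      (∀ v, g' * ψ v * g'⁻¹ = ψ (ε • pm π v)) → ∀ i, cj g' (zpowers (ψ (zt i))) = zpowers (ψ (zt (π i))) := by
    intro g' ε π hε hv i
    rw [cj_zpowers, hv, zt_perm]
    rcases hε with rfl | rfl
    · rw [one_smul]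
    · rw [neg_one_smul, hneg, zpowers_inv]
  have hbt : b * t2 = t2 * b := (D.t2_fix C.b_mem).symm
  have hbl : ∀ i, cj b (zpowers (ψ (zt i))) = zpowers (ψ (zt (cyc i))) :=
    hline b 1 cyc (Or.inl rfl) fun v => by rw [one_smul]; exact C.b_act v
  have hnl : ∀ i, cj n (zpowers (ψ (zt i))) = zpowers (ψ (zt (Equiv.swap (0 : Fin 4) 1 i))) :=
    hline n 1 _ (Or.inl rfl) fun v => by rw [one_smul]; exact C.n_act v
  -- pairwise commuting
  let CP : Fin 4 → Fin 4 → Prop := fun i j => ∀ x ∈ Lv L2 b n i, ∀ w ∈ Lv L2 b n j, x * w = w * x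
  have hsymm : ∀ {i j}, CP i j → CP j i := fun h x hx w hw => (h w hw x hx).symm
  have hmove : ∀ {f : G} (σ : Equiv.Perm (Fin 4)), f * t2 = t2 * f →
      (∀ i, cj f (zpowers (ψ (zt i))) = zpowers (ψ (zt (σ i)))) → ∀ i j, CP i j → CP (σ i) (σ j) := by
    intro f σ hf hl i j hP x hx w hw
    rw [← Lv_map U C hf (hl i), mem_cj] at hx
    rw [← Lv_map U C hf (hl j), mem_cj] at hw
    have := hP _ hx _ hw
    calc x * w = f * ((f⁻¹ * x * f) * (f⁻¹ * w * f)) * f⁻¹ := by group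
      _ = w * x := by rw [this]; group
  obtain ⟨c0, c1, c2, -⟩ := cyc_val
  have h01 : CP 0 1 := fun x hx w hw => U.comm x (by rwa [Lv_zero] at hx) w hw
  have h02 : CP 0 2 := by
    have := hmove cyc hbt hbl 0 1 h01
    rwa [c0, c1] at this
  have h03 : CP 0 3 := by
    have := hmove cyc hbt hbl 0 2 h02
    rwa [c0, c2] at this
  have h12 : CP 1 2 := by
    have := hmove _ U.n_t2 hnl 0 2 h02
    rwa [Equiv.swap_apply_left, Equiv.swap_apply_of_ne_of_ne (by decide) (by decide)] at this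
  have h13 : CP 1 3 := by
    have := hmove _ U.n_t2 hnl 0 3 h03
    rwa [Equiv.swap_apply_left, Equiv.swap_apply_of_ne_of_ne (by decide) (by decide)] at this
  have h23 : CP 2 3 := by
    have := hmove cyc hbt hbl 1 2 h12
    rwa [c1, c2] at this
  have hcomm : ∀ i j, i ≠ j → CP i j := by
    intro i j hij
    fin_cases i <;> fin_cases j
    all_goals first
      | exact absurd rfl hij
      | exact h01 | exact hsymm h01 | exact h02 | exact hsymm h02 | exact h03 | exact hsymm h03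
      | exact h12 | exact hsymm h12 | exact h13 | exact hsymm h13 | exact h23 | exact hsymm h23
  -- the product
  have hL : ∀ i, Good t2 (Lv L2 b n i) ∧ Nat.card ↥(Lv L2 b n i) = 8 := fun i =>
    ⟨hG.conj (gv_commute U C i), by rw [Lv, card_cj, F.L2_card]⟩
  have hj2 : ∀ s ∈ Lv L2 b n 0 ⊔ Lv L2 b n 1, ∀ t ∈ Lv L2 b n 2, s * t = t * s := fun s hs t ht =>
    (mem_centralizer_iff.1 ((sup_le (fun x hx => mem_centralizer_iff.2 fun w hw => (h02 x hx w hw).symm)
      (fun x hx => mem_centralizer_iff.2 fun w hw => (h12 x hx w hw).symm) :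
        _ ≤ centralizer ((Lv L2 b n 2 : Subgroup G) : Set G)) hs) t ht).symm
  have hj3 : ∀ s ∈ Lv L2 b n 0 ⊔ Lv L2 b n 1 ⊔ Lv L2 b n 2, ∀ t ∈ Lv L2 b n 3, s * t = t * s := fun s hs t ht =>
    (mem_centralizer_iff.1 ((sup_le (sup_le (fun x hx => mem_centralizer_iff.2 fun w hw => (h03 x hx w hw).symm)
      (fun x hx => mem_centralizer_iff.2 fun w hw => (h13 x hx w hw).symm))
      (fun x hx => mem_centralizer_iff.2 fun w hw => (h23 x hx w hw).symm) :
        _ ≤ centralizer ((Lv L2 b n 3 : Subgroup G) : Set G)) hs) t ht).symm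
  obtain ⟨g1, c1'⟩ := (hL 0).1.join (hL 1).1 D.t2_ne h01
  obtain ⟨g2, c2'⟩ := g1.join (hL 2).1 D.t2_ne hj2
  obtain ⟨g3, c3'⟩ := g2.join (hL 3).1 D.t2_ne hj3
  rw [(hL 0).2, (hL 1).2] at c1'
  rw [(hL 2).2] at c2'
  rw [(hL 3).2] at c3'
  have hcard : Nat.card ↥(Rd L2 b n) = 512 := by
    show Nat.card ↥(Lv L2 b n 0 ⊔ Lv L2 b n 1 ⊔ Lv L2 b n 2 ⊔ Lv L2 b n 3) = 512
    omega
  have h2r : Nat.Coprime (Nat.card ↥(Rd L2 b n)) 3 := by rw [hcard]; norm_num
  have hRle : Rd L2 b n ≤ centralizer ({t2} : Set G) := fun x hx =>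
    mem_centralizer_singleton_iff.2 (g3.fix x hx)
  have hz_line : zpowers (ψ (zt 0)) = Z := by
    rw [C.z_eq, zpowers_eq_of_prime h.Z_card D.z_mem D.z_ne]
  -- `A`
  have hAn : AA P y t2 ≤ normalizer (Rd L2 b n : Set G) := fun x hx =>
    norm_of_lines U C (D.A_t2 hx) fun i => ⟨i, by
      rw [cj_zpowers, D.A_comm hx (hA _), mul_inv_cancel_right]⟩
  have hnA : normalizer (AA P y t2 : Set G) ⊓ centralizer ({t2} : Set G) ≤ normalizer (Rd L2 b n : Set G) := by
    intro g' hg'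
    obtain ⟨ε, π, hε, hv⟩ := C.act g' hg'
    exact norm_of_lines U C (mem_centralizer_singleton_iff.1 (mem_inf.1 hg').2)
      fun i => ⟨π i, hline g' ε π hε hv i⟩
  -- `Q₁`
  have hbn : b ∈ normalizer (Rd L2 b n : Set G) := norm_of_lines U C hbt fun i => ⟨cyc i, hbl i⟩
  have hQ1n : Q1 ≤ normalizer (Rd L2 b n : Set G) := by
    have hdQ := F.pair.le1 D.flag1.mem
    have hle : (Z ⊔ zpowers d) ⊔ zpowers b ≤ Q1 :=
      sup_le (sup_le F.pair.Z1 (zpowers_le.2 D.flag1.mem)) (zpowers_le.2 C.b_mem)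
    have hZdA : Z ⊔ zpowers d ≤ AA P y t2 := sup_le
      (hz_line ▸ zpowers_le.2 (hA _)) (zpowers_le.2 D.d_A)
    have hbA : b ∉ Z ⊔ zpowers d := fun hm => by
      have h1 := C.b_act (zt 1)
      rw [D.A_comm (hZdA hm) (hA _), mul_inv_cancel_right] at h1
      have h2 := congrFun (C.inj h1) 1
      revert h2
      decide +kernel
    have hfull : (Z ⊔ zpowers d) ⊔ zpowers b = Q1 := by
      refine Subgroup.eq_of_le_of_card_ge hle ?_
      obtain ⟨k, -, ek⟩ := (Nat.dvd_prime_pow Nat.prime_three).1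
        (show _ ∣ 3 ^ 3 from F.pair.card1 ▸ card_dvd_of_le hle)
      have h9 := F.card_flag D.flag1
      have hlt : 9 < Nat.card ↥((Z ⊔ zpowers d) ⊔ zpowers b) := by
        by_contra hlt
        exact hbA ((Subgroup.eq_of_le_of_card_ge (le_sup_left : Z ⊔ zpowers d ≤ (Z ⊔ zpowers d) ⊔ zpowers b)
          (by rw [h9]; omega)).ge (mem_sup_right (mem_zpowers b)))
      have hk3 : Nat.card ↥((Z ⊔ zpowers d) ⊔ zpowers b) ≤ 27 := F.pair.card1 ▸ Subgroup.card_le_of_le hle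
      rw [ek] at hlt hk3
      rw [F.pair.card1, ek]
      rcases (show k ≤ 2 ∨ 3 ≤ k by omega) with hk | hk
      · have := Nat.pow_le_pow_right (by norm_num : 1 ≤ 3) hk
        omega
      · exact (Nat.pow_le_pow_right (by norm_num : 1 ≤ 3) hk)
    rw [← hfull]
    exact sup_le (hZdA.trans hAn) (zpowers_le.2 hbn)
  -- the centralizer of a point
  have hbase : ∀ x ∈ Rd L2 b n, x * z = z * x → x ∈ L2 := by
    intro x hx hxz
    have hxC := D.mem_CZ hxz
    have hxQ : ∀ u ∈ Q1, x * u = u * x := by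
      intro u hu
      have hkR : u * x * u⁻¹ * x⁻¹ ∈ Rd L2 b n :=
        mul_mem ((mem_normalizer_iff.1 (hQ1n hu) x).1 hx) (inv_mem hx)
      have hkQ : u * x * u⁻¹ * x⁻¹ ∈ Q := by
        rw [show u * x * u⁻¹ * x⁻¹ = u * (x * u⁻¹ * x⁻¹) by group]
        exact mul_mem (F.pair.le1 hu) (h.conj_mem hxC (inv_mem (F.pair.le1 hu)))
      have h1 : (u * x * u⁻¹ * x⁻¹) ^ Nat.card ↥(Rd L2 b n) = 1 :=
        congrArg Subtype.val (pow_card_eq_one' (x := (⟨_, hkR⟩ : ↥(Rd L2 b n))))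
      have h2 := pow_gcd_eq_one.2 ⟨h1, F.cube _ hkQ⟩
      rw [h2r.gcd_eq_one, pow_one] at h2
      exact (mul_inv_eq_iff_eq_mul.1 (mul_inv_eq_one.1 h2)).symm
    refine mem_L2_of_cent F D.z_mem D.z_ne hxC hxQ (g3.fix x hx) ?_
    rcases g3.sq x hx with e | e
    · rw [show x ^ 8 = (x * x) ^ 4 by rw [← pow_two, ← pow_mul], e, one_pow]
    · rw [show x ^ 8 = (x * x) ^ 4 by rw [← pow_two, ← pow_mul], e,
        show t2 ^ 4 = (t2 * t2) ^ 2 by rw [← pow_two, ← pow_mul], D.t2_sq, one_pow]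
  have hgn : ∀ i, gv b n i ∈ normalizer (Rd L2 b n : Set G) := fun i =>
    norm_of_lines U C (gv_commute U C i) fun k => ⟨gP i k, by rw [cj_zpowers, gv_act C, zt_perm]⟩
  have hinf : ∀ i, Rd L2 b n ⊓ centralizer ({ψ (zt i)} : Set G) = Lv L2 b n i := by
    intro i
    have hzi : ψ (zt i) = gv b n i * z * (gv b n i)⁻¹ := by
      rw [← C.z_eq, gv_act C, zt_perm, (gP_facts i).1]
    refine le_antisymm (fun x hx => ?_) (le_inf (Lv_le_Rd i) fun x hx => ?_)
    · rw [Lv, mem_cj]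
      refine hbase _ ?_ ?_
      · have := (mem_normalizer_iff.1 (inv_mem (hgn i)) x).1 (mem_inf.1 hx).1
        rwa [inv_inv] at this
      · have h1 := mem_centralizer_singleton_iff.1 (mem_inf.1 hx).2
        rw [hzi] at h1
        calc (gv b n i)⁻¹ * x * gv b n i * z
            = (gv b n i)⁻¹ * (x * (gv b n i * z * (gv b n i)⁻¹)) * gv b n i := by group
          _ = _ := by rw [h1]; group
    · rw [Lv, mem_cj] at hx
      refine mem_centralizer_singleton_iff.2 ?_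
      rw [hzi]
      have h1 := D.z_cent (F.L2_le hx)
      calc x * (gv b n i * z * (gv b n i)⁻¹)
          = gv b n i * (((gv b n i)⁻¹ * x * gv b n i) * z) * (gv b n i)⁻¹ := by group
        _ = _ := by rw [h1]; group
  have hr_mem : ∀ i, t2 ∈ Lv L2 b n i := fun i => (hL i).1.mem
  have hmeet : ∀ i j, i ≠ j → Lv L2 b n i ⊓ Lv L2 b n j ≤ zpowers t2 := fun i j hij x hx => by
    rcases (hL i).1.center x hx.1 (fun w hw => hcomm i j hij w hw x hx.2) with e | e
    · rw [e]; exact one_mem _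
    · rw [e]; exact mem_zpowers _
  -- the vectors without zero coordinate
  have hfix : ∀ v : Ex, (∀ i, v i ≠ 0) → ∀ x ∈ Rd L2 b n, x * ψ v = ψ v * x → x ∈ zpowers t2 := by
    intro v hv x hx hxv
    have hav : ∀ i, ψ v ∈ normalizer (Lv L2 b n i : Set G) := fun i => mem_normalizer_of_cj
      (Lv_map U C (D.A_t2 (hA v)) (by rw [cj_zpowers, D.A_comm (hA v) (hA _), mul_inv_cancel_right]))
    have h3 : ψ v ^ 3 = 1 := D.A_exp (hA v)
    have har := D.A_t2 (hA v)
    have hrr := D.t2_sq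
    have hzp : ∀ {S T : Subgroup G}, Good t2 T → (∀ s ∈ S, ∀ t ∈ T, s * t = t * s) → S ⊓ T ≤ zpowers t2 := by
      intro S T hT hc u hu
      rcases hT.center u hu.2 (fun w hw => (hc u hu.1 w hw).symm) with e | e
      · rw [e]; exact one_mem _
      · rw [e]; exact mem_zpowers _
    have hnsup : ∀ {S T : Subgroup G}, ψ v ∈ normalizer (S : Set G) → ψ v ∈ normalizer (T : Set G) →
        ψ v ∈ normalizer ((S ⊔ T : Subgroup G) : Set G) := fun hS hT => mem_normalizer_of_cj (by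
      rw [cj, Subgroup.map_sup]
      exact congrArg₂ (· ⊔ ·) (cj_of_mem_normalizer hS) (cj_of_mem_normalizer hT))
    obtain ⟨s3, hs3, x3, hx3, e3, hs3a, hx3a⟩ := fix_split hrr hj3 (hzp (hL 3).1 hj3) har h3
      (hnsup (hnsup (hav 0) (hav 1)) (hav 2)) (hav 3) hx hxv
    obtain ⟨s2, hs2, x2, hx2, e2, hs2a, hx2a⟩ := fix_split hrr hj2 (hzp (hL 2).1 hj2) har h3
      (hnsup (hav 0) (hav 1)) (hav 2) hs3 hs3a
    obtain ⟨x0', hx0', x1, hx1, e1, hx0a, hx1a⟩ := fix_split hrr h01 (hzp (hL 1).1 h01) har h3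
      (hav 0) (hav 1) hs2 hs2a
    have hcomp : ∀ i, ∀ u ∈ Lv L2 b n i, u * ψ v = ψ v * u → u ∈ zpowers t2 := by
      intro i u hu hua
      obtain ⟨hv0, hback⟩ := gP_back i v
      set w := pm (gP i).symm v
      have hw : gv b n i * ψ w * (gv b n i)⁻¹ = ψ v := by rw [gv_act C, hback]
      rw [Lv, mem_cj] at hu
      set l := (gv b n i)⁻¹ * u * gv b n i with hl
      have hwn : ¬ Triv Z Q2 (ψ w) := fun e => hv i (hv0 ▸ (C.triv2 w).1 e)
      have hN2 : ψ w ∈ normalizer (Q2 : Set G) := by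
        refine Subgroup.mem_normalizer_fintype fun q hq => ?_
        exact F.symm.conj_mem1 D.P_pgroup D.P_le (D.A_le_P (hA w)) hq
      have hla : l * ψ w = ψ w * l := by
        rw [← hw] at hua
        calc l * ψ w = (gv b n i)⁻¹ * (u * (gv b n i * ψ w * (gv b n i)⁻¹)) * gv b n i := by rw [hl]; group
          _ = _ := by rw [hua, hl]; group
      obtain ⟨k, hk⟩ := mem_zpowers_iff.1
        (fix_L2 F D.z_mem D.z_ne (D.A_le_C (hA w)) hN2 (D.A_exp (hA w)) hwn hu hla)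
      refine mem_zpowers_iff.2 ⟨k, ?_⟩
      have e : gv b n i * l * (gv b n i)⁻¹ = u := by rw [hl]; group
      rw [← e, ← hk, ← conj_zpow, gv_commute U C i, mul_inv_cancel_right]
    rw [← e3, ← e2, ← e1]
    exact mul_mem (mul_mem (mul_mem (hcomp 0 _ hx0' hx0a) (hcomp 1 _ hx1 hx1a)) (hcomp 2 _ hx2 hx2a))
      (hcomp 3 _ hx3 hx3a)
  have hqz : ∀ i, ∃ x w : G, x * x = t2 ∧ w * w = t2 ∧ x * w = t2 * (w * x) ∧ Lv L2 b n i = closure {x, w} := by
    intro i
    set c := gv b n i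
    have hc : c * t2 * c⁻¹ = t2 := by rw [gv_commute U C i, mul_inv_cancel_right]
    have hφ : ∀ u : G, (MulAut.conj c).toMonoidHom u = c * u * c⁻¹ := fun u => rfl
    refine ⟨c * x0 * c⁻¹, c * y0 * c⁻¹, ?_, ?_, ?_, ?_⟩
    · rw [show c * x0 * c⁻¹ * (c * x0 * c⁻¹) = c * (x0 * x0) * c⁻¹ by group, hx0, hc]
    · rw [show c * y0 * c⁻¹ * (c * y0 * c⁻¹) = c * (y0 * y0) * c⁻¹ by group, hy0, hc]
    · rw [show c * x0 * c⁻¹ * (c * y0 * c⁻¹) = c * (x0 * y0) * c⁻¹ by group, hxy,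
        show c * (t2 * (y0 * x0)) * c⁻¹ = (c * t2 * c⁻¹) * (c * y0 * c⁻¹ * (c * x0 * c⁻¹)) by group, hc]
    · rw [Lv, cj, hcl, MonoidHom.map_closure, Set.image_pair, hφ, hφ]
  have hx0R : x0 ∈ Rd L2 b n := Lv_le_Rd 0 (by rw [Lv_zero, hcl]; exact subset_closure (Set.mem_insert _ _))
  have hy0R : y0 ∈ Rd L2 b n :=
    Lv_le_Rd 0 (by rw [Lv_zero, hcl]; exact subset_closure (Set.mem_insert_of_mem _ rfl))
  exact
    { card := hcard
      extra := LargeExtra.Affine.isExtraspecial_mk (z := t2) (IsPGroup.of_card (n := 9) (by rw [hcard]; norm_num))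
        g3.mem D.t2_ne g3.fix g3.sq g3.center ⟨y0, hy0R, x0, hx0R, hne⟩
      centre := by
        refine le_antisymm ?_ (zpowers_le.2 ⟨⟨t2, g3.mem⟩, mem_center_iff.2 fun u => Subtype.ext (g3.fix u u.2), rfl⟩)
        rintro _ ⟨u, hu, rfl⟩
        rcases g3.center u u.2 (fun w hw => congrArg Subtype.val (mem_center_iff.1 hu ⟨w, hw⟩)) with e | e
        · show (u : G) ∈ _
          rw [e]; exact one_mem _
        · show (u : G) ∈ _
          rw [e]; exact mem_zpowers _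
      le := hRle
      r_mem := hr_mem
      Lv_card := fun i => (hL i).2
      Lv_le := fun i => Lv_le_Rd i
      comm := hcomm
      meet := hmeet
      quat := hqz
      inf := hinf
      fix := hfix
      perm := fun g' i j hg he => Lv_map U C hg he
      A_norm := hAn
      Q1_norm := hQ1n
      norm_A := hnA }

end Cfsg.Agent.UThreeLocal.Big.Local
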