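import Cfsg.Agent.Lib.UThreeLocal.End.Steps
import Cfsg.Agent.Lib.UThreeLocal.Big.Local.Quo
import Cfsg.Agent.Lib.UThreeLocal.Big.Local.Inverter
import Cfsg.Agent.Lib.UThreeLocal.Big.Local.Swap.Main
import Cfsg.Agent.Lib.UThreeLocal.Big.Local.Coord
import Cfsg.Agent.Lib.UThreeLocal.Big.Local.Radical
import Cfsg.Agent.Lib.UThreeLocal.Big.Local.CentR
import Cfsg.Agent.Lib.UThreeLocal.Big.Local.CentZ
import Cfsg.Agent.Lib.UThreeLocal.Big.Local.L1Norm

/-!
# The assembly of the local analysis in the big case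

The hypothesis on the outer class passes to every Sylow subgroup of `C(Z)`; the pieces then give the data at `t₂`.
-/

set_option autoImplicit false
set_option linter.unusedSectionVars false
set_option linter.style.haveILetI false

namespace Cfsg.Agent.UThreeLocal.Big.Local

open Subgroup
open scoped commutatorElement Pointwise

universe u

/-- The coordinates and the extraspecial group from the exchange. -/
def ExistsCrd : Prop :=
  ∀ {G : Type u} [Group G] [Finite G] {Z Q Q1 Q2 L1 L2 P W : Subgroup G} {t1 t2 z y g d a n : G},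
    Duo Z Q Q1 Q2 L1 L2 P W t1 t2 z y g d a n →
    ∃ (b : G) (ψ : Ex → G), Crd Z Q1 Q2 W (AA P y t2) t2 z y d n b ψ ∧ Rad Q1 L2 (AA P y t2) t2 b n ψ

/-- The signalizer analysis from the coordinates. -/
def ExistsNorm : Prop :=
  ∀ {G : Type u} [Group G] [Finite G] {Z Q Q1 Q2 L1 L2 P W : Subgroup G} {t1 t2 z y g d a n b : G}
    {ψ : Ex → G}, Duo Z Q Q1 Q2 L1 L2 P W t1 t2 z y g d a n →
    Crd Z Q1 Q2 W (AA P y t2) t2 z y d n b ψ → Rad Q1 L2 (AA P y t2) t2 b n ψ →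
    Norm Z Q1 L1 L2 W (AA P y t2) (Rd L2 b n) t2 ψ

/-- The coordinates exist. -/
theorem existsCrd : ExistsCrd.{u} := fun U =>
  have ⟨b, ψ, C⟩ := exists_crd U
  ⟨b, ψ, C, exists_rad U C⟩

/-- The subgroups of `C(r)` of order prime to three normalised by `A` lie in `R`. -/
def ExistsSig : Prop :=
  ∀ {G : Type u} [Group G] [Finite G] {Z Q Q1 Q2 L1 L2 P W : Subgroup G} {t1 t2 z y g d a n b : G}
    {ψ : Ex → G}, Duo Z Q Q1 Q2 L1 L2 P W t1 t2 z y g d a n →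
    Crd Z Q1 Q2 W (AA P y t2) t2 z y d n b ψ → Rad Q1 L2 (AA P y t2) t2 b n ψ →
    ∀ K : Subgroup G, K ≤ centralizer ({t2} : Set G) → (Nat.card ↥K).Coprime 3 →
      AA P y t2 ≤ normalizer (K : Set G) → K ≤ Rd L2 b n

/-- The signalizer analysis, given the maximality of `R`. -/
theorem existsNorm_of (hS : ExistsSig.{u}) : ExistsNorm.{u} := by
  intro G _ _ Z Q Q1 Q2 L1 L2 P W t1 t2 z y g d a n b ψ U C Ra
  have hsig := hS U C Ra
  refine ⟨hsig, cent_z U, L1_norm U C Ra hsig (L1_sg U C), L1_sg U C, cent_A U.data, fun c hc => ?_, cent_H U C,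
    cent_R U C Ra hsig⟩
  obtain ⟨s, hs, hsA⟩ := U.frat c hc
  refine ⟨s, ?_, hsA⟩
  have hle : L2 ⊔ cj n L2 ≤ Rd L2 b n :=
    sup_le ((Lv_zero (b := b) (n := n)).ge.trans (Ra.Lv_le 0)) (Ra.Lv_le 1)
  exact hle hs

variable {G : Type u} [Group G] [Finite G] {Z Q Q1 Q2 L1 L2 : Subgroup G} {t1 t2 : G}

/-- The hypothesis on the outer class passes to another Sylow subgroup of `C(Z)`. -/
theorem hout_conj (F : Frame Z Q Q1 Q2 L1 L2 t1 t2) {P P' : Subgroup G} (hP : IsPGroup 3 ↥P)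
    (hPC : P ≤ centralizer (Z : Set G)) (hPc : Nat.card ↥P = 2187) (hP' : IsPGroup 3 ↥P')
    (hP'C : P' ≤ centralizer (Z : Set G))
    (hout : ∀ c ∈ P, (∀ m ∈ normalizer (Z : Set G), ⁅m, c⁆ ∈ Q ⊔ (L1 ⊔ L2)) → c ∈ Q) :
    ∀ c ∈ P', (∀ m ∈ normalizer (Z : Set G), ⁅m, c⁆ ∈ Q ⊔ (L1 ⊔ L2)) → c ∈ Q := by
  classical
  haveI : Fact (Nat.Prime 3) := ⟨Nat.prime_three⟩
  set C := centralizer (Z : Set G) with hC
  obtain ⟨S, hS⟩ := (hP.of_equiv (subgroupOfEquivOfLe hPC).symm).exists_le_sylow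
  obtain ⟨S', hS'⟩ := (hP'.of_equiv (subgroupOfEquivOfLe hP'C).symm).exists_le_sylow
  obtain ⟨x, hx⟩ := MulAction.exists_smul_eq ↥C S' S
  have hSP : (S : Subgroup ↥C).map C.subtype = P := by
    refine (Subgroup.eq_of_le_of_card_ge ?_ ?_).symm
    · exact fun p hp => ⟨⟨p, hPC hp⟩, hS hp, rfl⟩
    · exact (Nat.le_of_dvd (by norm_num) (F.card_three_le (S.2.map _) (map_subtype_le _))).trans hPc.ge
  intro c hc hm
  have hcx : (x : G) * c * (x : G)⁻¹ ∈ P := by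
    rw [← hSP]
    refine ⟨x * ⟨c, hP'C hc⟩ * x⁻¹, ?_, rfl⟩
    show MulAut.conj x • (⟨c, hP'C hc⟩ : ↥C) ∈ (S : Subgroup ↥C)
    rw [← hx, Sylow.coe_subgroup_smul]
    exact smul_mem_pointwise_smul _ _ _ (hS' hc)
  have hxN : (x : G) ∈ normalizer (Z : Set G) := centralizer_le_normalizer _ x.2
  have h1 := hout _ hcx fun m hmN => by
    have h2 := hm ((x : G)⁻¹ * m * x) (mul_mem (mul_mem (inv_mem hxN) hmN) hxN)
    have h3 := (mem_normalizer_iff.1 (F.norm_L x.2) _).1 h2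
    rwa [show (x : G) * ⁅(x : G)⁻¹ * m * x, c⁆ * (x : G)⁻¹ = ⁅m, (x : G) * c * (x : G)⁻¹⁆ by
      simp only [commutatorElement_def]; group] at h3
  have h2 := (mem_normalizer_iff''.1 (F.set.Q_norm x.2) _).1 h1
  rwa [show (x : G)⁻¹ * ((x : G) * c * (x : G)⁻¹) * x = c by group] at h2

/-- THEOREM: the big case, from the coordinates and the signalizer analysis. -/
theorem existsBig_of (hB : ExistsCrd.{u}) (hD : ExistsNorm.{u}) : End.ExistsBig.{u} := by
  intro G _ _ Z Q Q1 Q2 L1 L2 E t1 t2 z0 y0 a1 a2 hcore P0 hP0 hP0C hP0c hout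
  obtain ⟨P, z, y, g, d, a, D0⟩ :=
    exists_bigData hcore.frame hcore.pt hcore.y_cent hcore.y_not P0 hP0 hP0C hP0c
  obtain ⟨W, y', n, U⟩ := exists_duo D0
  obtain ⟨b, ψ, C, Ra⟩ := hB U
  obtain ⟨e, he, het, hez⟩ :=
    exists_inverter U.data (hout_conj hcore.frame hP0 hP0C hP0c D0.P_pgroup D0.P_le hout)
  obtain ⟨N0, h⟩ := exists_big_link U C Ra (hD U C Ra) ⟨e, he, het, hez⟩
  exact ⟨_, _, N0, z, h⟩

end Cfsg.Agent.UThreeLocal.Big.Local
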