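import Cfsg.Agent.Lib.UThreeLocal.Big.Local.QuoTools

/-!
# The quotient of `C(r) ∩ N(R)` by `R`: the images of `A` and of `b`

`Qd` collects the pieces; `qv v` is the image of `ψ v`, `qA` that of `A`, `qS` that of `Q₁A`.
-/

set_option autoImplicit false
set_option linter.unusedSectionVars false
set_option linter.style.haveILetI false
set_option maxRecDepth 100000

namespace Cfsg.Agent.UThreeLocal.Big.Local

open Subgroup
open scoped commutatorElement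
open Cfsg.Agent.UThreeLocal.Cand (NN NB pn pn_eq_one pn_eq mem_sup_zpowers)

universe u

variable {G : Type u} [Group G] [Finite G]

/-- The pieces of the local analysis together. -/
structure Qd (Z Q Q1 Q2 L1 L2 P W : Subgroup G) (t1 t2 z y g d a n b : G) (ψ : Ex → G) : Prop where
  duo : Duo Z Q Q1 Q2 L1 L2 P W t1 t2 z y g d a n
  crd : Crd Z Q1 Q2 W (AA P y t2) t2 z y d n b ψ
  rad : Rad Q1 L2 (AA P y t2) t2 b n ψ
  nrm : Norm Z Q1 L1 L2 W (AA P y t2) (Rd L2 b n) t2 ψ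

namespace Qd

variable {Z Q Q1 Q2 L1 L2 P W : Subgroup G} {t1 t2 z y g d a n b : G} {ψ : Ex → G}
  (H : Qd Z Q Q1 Q2 L1 L2 P W t1 t2 z y g d a n b ψ)
include H

theorem frame : Frame Z Q Q1 Q2 L1 L2 t1 t2 := H.duo.data.frame

theorem setting : Setting Z Q := H.frame.set

theorem mem (v : Ex) : ψ v ∈ AA P y t2 := (H.crd.mem _).2 ⟨v, rfl⟩

theorem zero : ψ 0 = 1 := by
  have := H.crd.add 0 0
  rw [add_zero] at this
  exact left_eq_mul.1 this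

theorem neg (v : Ex) : ψ (-v) = (ψ v)⁻¹ := by
  refine eq_inv_of_mul_eq_one_left ?_
  rw [← H.crd.add, neg_add_cancel, H.zero]

theorem comm (v w : Ex) : ψ v * ψ w = ψ w * ψ v := by rw [← H.crd.add, ← H.crd.add, add_comm]

theorem ne_one {v : Ex} (hv : v ≠ 0) : ψ v ≠ 1 := fun e => hv (H.crd.inj (e.trans H.zero.symm))

theorem cube (v : Ex) : ψ v ^ 3 = 1 := H.duo.data.A_exp (H.mem v)

theorem smul_mem (k : ZMod 3) (v : Ex) : ψ (k • v) ∈ zpowers (ψ v) := by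
  rcases zmod3 k with e | e | e <;> subst e
  · rw [zero_smul, H.zero]; exact one_mem _
  · rw [one_smul]; exact mem_zpowers _
  · rw [neg_one_smul, H.neg]; exact inv_mem (mem_zpowers _)

theorem z_A : z ∈ AA P y t2 := H.crd.z_eq ▸ H.mem _

theorem d_A : d ∈ AA P y t2 := by
  obtain ⟨i, hi⟩ := mem_zpowers_iff.1 H.crd.d_eq
  exact hi ▸ zpow_mem (H.mem _) i

theorem R_three : (Nat.card ↥(Rd L2 b n)).Coprime 3 := by rw [H.rad.card]; norm_num

theorem A_NN : AA P y t2 ≤ NN t2 (Rd L2 b n) := le_inf inf_le_right H.rad.A_norm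

theorem b_cube : b ^ 3 = 1 := H.frame.cube b (H.frame.pair.le1 H.crd.b_mem)

theorem b_t2 : b * t2 = t2 * b := fix_r H.frame H.crd.b_mem

theorem Q1_NN : Q1 ≤ NN t2 (Rd L2 b n) :=
  le_inf (fun _ hx => mem_centralizer_singleton_iff.2 (fix_r H.frame hx)) H.rad.Q1_norm

theorem L1_NN : L1 ≤ NN t2 (Rd L2 b n) :=
  le_inf (fun l hl => mem_centralizer_singleton_iff.2 (H.frame.L_comm l hl t2 H.frame.t2_mem)) H.nrm.L1_norm

theorem Rd_NN : Rd L2 b n ≤ NN t2 (Rd L2 b n) := le_inf H.rad.le le_normalizer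

theorem L2_eq : L2 = Lv L2 b n 0 := by rw [Lv, show gv b n 0 = 1 from rfl, Cand.cj_one]

theorem L2_Rd : L2 ≤ Rd L2 b n := H.L2_eq.le.trans (H.rad.Lv_le 0)

theorem R_cent_z {x : G} (hx : x ∈ Rd L2 b n) (hxz : x * z = z * x) : x ∈ L2 := by
  rw [H.L2_eq, ← H.rad.inf 0, H.crd.z_eq]
  exact mem_inf.2 ⟨hx, mem_centralizer_singleton_iff.2 hxz⟩

theorem eq_one_of_A_R {x : G} (hx : x ∈ AA P y t2) (hR : x ∈ Rd L2 b n) : x = 1 := by
  have h1 : x ^ Nat.card ↥(Rd L2 b n) = 1 := congrArg Subtype.val (pow_card_eq_one' (x := (⟨x, hR⟩ : ↥(Rd L2 b n))))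
  have := pow_gcd_eq_one.2 ⟨h1, H.duo.data.A_exp hx⟩
  rwa [H.R_three.gcd_eq_one, pow_one] at this

/-- The image of a point of `A`. -/
def qv (v : Ex) : NB t2 (Rd L2 b n) := pn t2 (Rd L2 b n) ⟨ψ v, H.A_NN (H.mem v)⟩

/-- The image of `b`. -/
def qb : NB t2 (Rd L2 b n) := pn t2 (Rd L2 b n) ⟨b, H.Q1_NN H.crd.b_mem⟩

/-- The image of `σ`. -/
def σb : NB t2 (Rd L2 b n) := H.qv sg

/-- The image of `A`. -/
def qA (_ : Qd Z Q Q1 Q2 L1 L2 P W t1 t2 z y g d a n b ψ) : Subgroup (NB t2 (Rd L2 b n)) :=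
  ((AA P y t2).subgroupOf (NN t2 (Rd L2 b n))).map (pn t2 (Rd L2 b n))

/-- The image of `Q₁A`. -/
def qS : Subgroup (NB t2 (Rd L2 b n)) := H.qA ⊔ zpowers H.qb

theorem qv_add (v w : Ex) : H.qv (v + w) = H.qv v * H.qv w := by
  unfold qv
  rw [← map_mul]
  exact congrArg _ (Subtype.ext (H.crd.add v w))

theorem qv_zero : H.qv 0 = 1 := pn_eq_one.2 (by show ψ 0 ∈ _; rw [H.zero]; exact one_mem _)

theorem qv_neg (v : Ex) : H.qv (-v) = (H.qv v)⁻¹ :=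
  eq_inv_of_mul_eq_one_left (by rw [← H.qv_add, neg_add_cancel, H.qv_zero])

theorem qv_inj : Function.Injective H.qv := by
  intro v w e
  refine H.crd.inj (inv_mul_eq_one.1 (H.eq_one_of_A_R ?_ (pn_eq e)))
  exact mul_mem (inv_mem (H.mem v)) (H.mem w)

theorem qv_comm (v w : Ex) : H.qv v * H.qv w = H.qv w * H.qv v := by rw [← H.qv_add, ← H.qv_add, add_comm]

theorem qv_cube (v : Ex) : H.qv v ^ 3 = 1 := by
  rw [qv, ← map_pow, show (⟨ψ v, _⟩ : ↥(NN t2 (Rd L2 b n))) ^ 3 = 1 from Subtype.ext (H.cube v), map_one]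

theorem qv_smul (k : ZMod 3) (v : Ex) : H.qv (k • v) ∈ zpowers (H.qv v) := by
  rcases zmod3 k with e | e | e <;> subst e
  · rw [zero_smul, H.qv_zero]; exact one_mem _
  · rw [one_smul]; exact mem_zpowers _
  · rw [neg_one_smul, H.qv_neg]; exact inv_mem (mem_zpowers _)

theorem pn_A {x : ↥(NN t2 (Rd L2 b n))} (hx : (x : G) ∈ AA P y t2) : ∃ v, H.qv v = pn _ _ x := by
  obtain ⟨v, hv⟩ := (H.crd.mem _).1 hx
  exact ⟨v, congrArg _ (Subtype.ext hv)⟩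

theorem mem_qA {x : NB t2 (Rd L2 b n)} : x ∈ H.qA ↔ ∃ v, H.qv v = x := by
  constructor
  · rintro ⟨c, hc, rfl⟩
    exact H.pn_A hc
  · rintro ⟨v, rfl⟩
    exact ⟨_, H.mem v, rfl⟩

theorem qA_qv (v : Ex) : H.qv v ∈ H.qA := H.mem_qA.2 ⟨v, rfl⟩

theorem card_qA : Nat.card ↥H.qA = 81 := by
  rw [← Nat.card_congr (Equiv.ofBijective (fun v : Ex => (⟨H.qv v, H.qA_qv v⟩ : ↥H.qA))
    ⟨fun v w e => H.qv_inj (congrArg Subtype.val e), fun x => by
      obtain ⟨v, hv⟩ := H.mem_qA.1 x.2; exact ⟨v, Subtype.ext hv⟩⟩)]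
  simp [Ex]

theorem qb_act (v : Ex) : H.qb * H.qv v * H.qb⁻¹ = H.qv (pm cyc v) := by
  unfold qb qv
  rw [← map_inv, ← map_mul, ← map_mul]
  exact congrArg _ (Subtype.ext (H.crd.b_act v))

theorem qb_cube : H.qb ^ 3 = 1 := by
  rw [qb, ← map_pow, show (⟨b, _⟩ : ↥(NN t2 (Rd L2 b n))) ^ 3 = 1 from Subtype.ext H.b_cube, map_one]

theorem qb_pow_act (i : Fin 3) (v : Ex) :
    H.qb ^ (i : ℕ) * H.qv v * (H.qb ^ (i : ℕ))⁻¹ = H.qv (pm (cyc ^ (i : ℕ)) v) := by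
  fin_cases i
  · simp [show pm 1 v = v from rfl]
  · simpa using H.qb_act v
  · show H.qb ^ 2 * H.qv v * (H.qb ^ 2)⁻¹ = H.qv (pm (cyc ^ 2) v)
    rw [pow_two, pow_two, pm_comp, ← H.qb_act (pm cyc v), ← H.qb_act v]
    group

theorem qA_norm : H.qS ≤ normalizer (H.qA : Set (NB t2 (Rd L2 b n))) := by
  refine sup_le le_normalizer (zpowers_le.2 (Subgroup.mem_normalizer_fintype fun x hx => ?_))
  obtain ⟨v, rfl⟩ := H.mem_qA.1 hx
  rw [SetLike.mem_coe, H.qb_act]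
  exact H.qA_qv _

theorem qb_notA : H.qb ∉ H.qA := by
  intro hm
  obtain ⟨w, hw⟩ := H.mem_qA.1 hm
  have : pm cyc ![0, 1, 0, 0] = ![0, 1, 0, 0] := H.qv_inj (by
    rw [← H.qb_act, ← hw, H.qv_comm, mul_inv_cancel_right])
  exact (by decide : pm cyc ![0, 1, 0, 0] ≠ ![0, 1, 0, 0]) this

theorem mem_qS {x : NB t2 (Rd L2 b n)} (hx : x ∈ H.qS) : ∃ v, ∃ i : Fin 3, x = H.qv v * H.qb ^ (i : ℕ) := by
  obtain ⟨c, hc, i, rfl⟩ := mem_sup_zpowers (le_trans le_sup_right H.qA_norm) H.qb_cube hx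
  obtain ⟨v, rfl⟩ := H.mem_qA.1 hc
  exact ⟨v, i, rfl⟩

theorem card_qS : Nat.card ↥H.qS = 243 := by
  haveI : Fact (Nat.Prime 3) := ⟨Nat.prime_three⟩
  have h := card_sup_mul_inf (le_trans le_sup_right H.qA_norm : zpowers H.qb ≤ _)
  have hne : H.qb ≠ 1 := fun e => H.qb_notA (e ▸ one_mem _)
  have hord : Nat.card ↥(zpowers H.qb) = 3 := by rw [Nat.card_zpowers, orderOf_eq_prime H.qb_cube hne]
  have hinf : Nat.card ↥(H.qA ⊓ zpowers H.qb) = 1 := by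
    rcases (Nat.dvd_prime Nat.prime_three).1 (hord ▸ card_dvd_of_le
      (inf_le_right : H.qA ⊓ zpowers H.qb ≤ zpowers H.qb)) with e | e
    · exact e
    · exact absurd ((Subgroup.eq_of_le_of_card_ge (inf_le_right : H.qA ⊓ zpowers H.qb ≤ _)
        (by rw [hord, e])).ge (mem_zpowers H.qb)).1 H.qb_notA
  rw [hinf, hord, H.card_qA, mul_one] at h
  exact h

theorem qS_pgroup : IsPGroup 3 ↥H.qS := IsPGroup.of_card (n := 5) (by rw [H.card_qS]; norm_num)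

/-- An abelian subgroup of order `81` of the image of `Q₁A` is the image of `A`. -/
theorem abelian_unique {M : Subgroup (NB t2 (Rd L2 b n))} (hM : M ≤ H.qS)
    (hc : ∀ x ∈ M, ∀ w ∈ M, x * w = w * x) (h81 : Nat.card ↥M = 81) : M = H.qA := by
  classical
  refine Subgroup.eq_of_le_of_card_ge (fun x hx => ?_) (by rw [H.card_qA, h81])
  by_contra hxA
  obtain ⟨v0, i, rfl⟩ := H.mem_qS (hM hx)
  have hi : (i : ℕ) ≠ 0 := fun e => hxA (by rw [e, pow_zero, mul_one]; exact H.qA_qv _)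
  have h := card_sup_mul_inf (hM.trans H.qA_norm)
  rw [H.card_qA, h81] at h
  have hsup : Nat.card ↥(H.qA ⊔ M) ≤ 243 := H.card_qS ▸ Subgroup.card_le_of_le (sup_le le_sup_left hM)
  have h27 : 27 ≤ Nat.card ↥(H.qA ⊓ M) := by
    have := Nat.mul_le_mul_right (Nat.card ↥(H.qA ⊓ M)) hsup
    omega
  have hfix : ∀ m : ↥(H.qA ⊓ M), ∃ w, H.qv w = m ∧ pm cyc w = w := by
    intro m
    obtain ⟨w, hw⟩ := H.mem_qA.1 m.2.1
    refine ⟨w, hw, ?_⟩
    have e1 : H.qb ^ (i : ℕ) * H.qv w * (H.qb ^ (i : ℕ))⁻¹ = H.qv w := by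
      have e2 := hc _ hx _ (hw ▸ m.2.2 : H.qv w ∈ M)
      calc _ = (H.qv v0)⁻¹ * (H.qv v0 * H.qb ^ (i : ℕ) * H.qv w) * (H.qb ^ (i : ℕ))⁻¹ := by group
        _ = (H.qv v0)⁻¹ * (H.qv w * H.qv v0) := by rw [e2]; group
        _ = _ := by rw [H.qv_comm w v0, inv_mul_cancel_left]
    rw [H.qb_pow_act] at e1
    have e3 := H.qv_inj e1
    fin_cases i
    · exact absurd rfl hi
    · simpa using e3
    · have e4 : pm (cyc * cyc) w = w := by simpa [pow_two] using e3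
      rw [← two_step, e4, e4]
  choose f hf hf' using hfix
  have hle : Nat.card ↥(H.qA ⊓ M) ≤ 9 := by
    refine (Nat.card_le_card_of_injective (fun m => (⟨f m, Finset.mem_filter.2 ⟨Finset.mem_univ _, hf' m⟩⟩ :
      ↥(Finset.univ.filter fun v : Ex => pm cyc v = v))) fun m m' e => Subtype.ext ?_).trans ?_
    · have e' : f m = f m' := congrArg Subtype.val e
      rw [← hf m, ← hf m', e']
    · rw [Nat.card_eq_fintype_card, Fintype.card_coe, cyc_fix_count]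
  omega

/-- An element normalising the image of `A` lifts to `N(A) ∩ C(r)`. -/
theorem lift_norm {x : NB t2 (Rd L2 b n)} (hx : x ∈ normalizer (H.qA : Set (NB t2 (Rd L2 b n)))) :
    ∃ c : ↥(NN t2 (Rd L2 b n)), pn _ _ c = x ∧
      (c : G) ∈ normalizer (AA P y t2 : Set G) ⊓ centralizer ({t2} : Set G) := by
  classical
  haveI : IsMulCommutative ↥(AA P y t2) := ⟨⟨fun u w => Subtype.ext (H.duo.data.A_comm u.2 w.2)⟩⟩
  obtain ⟨c, rfl⟩ := QuotientGroup.mk'_surjective _ x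
  have hcN : (c : G) ∈ normalizer ((Rd L2 b n) : Set G) := (mem_inf.1 c.2).2
  have hle : cj (c : G) (AA P y t2) ≤ (Rd L2 b n) ⊔ AA P y t2 := by
    intro w hw
    rw [mem_cj] at hw
    obtain ⟨v, hv⟩ := H.mem_qA.1
      ((mem_normalizer_iff.1 hx _).1 (show pn t2 (Rd L2 b n) ⟨_, H.A_NN hw⟩ ∈ H.qA from ⟨_, hw, rfl⟩))
    unfold qv at hv
    rw [← map_inv, ← map_mul, ← map_mul] at hv
    have h2 := pn_eq hv
    push_cast at h2
    rw [show (c : G) * ((c : G)⁻¹ * w * (c : G)) * (c : G)⁻¹ = w by group] at h2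
    have h3 := mul_mem (mem_sup_right (H.mem v) : ψ v ∈ (Rd L2 b n) ⊔ AA P y t2)
      (mem_sup_left h2 : (ψ v)⁻¹ * w ∈ (Rd L2 b n) ⊔ AA P y t2)
    rwa [mul_inv_cancel_left] at h3
  have hN' : cj (c : G) (AA P y t2) ≤ normalizer ((Rd L2 b n) : Set G) := by
    rintro _ ⟨w, hw, rfl⟩
    exact mul_mem (mul_mem hcN (H.rad.A_norm hw)) (inv_mem hcN)
  have hA : Nat.card ↥(AA P y t2) = 81 := H.duo.data.card_A
  have hA' : Nat.card ↥(cj (c : G) (AA P y t2)) = 81 := by rw [card_cj, hA]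
  have hcop : (Nat.card ↥(Rd L2 b n)).Coprime 81 := by
    rw [show 81 = 3 ^ 4 by norm_num]; exact H.R_three.pow_right 4
  have hcards : ∀ B : Subgroup G, B ≤ normalizer ((Rd L2 b n) : Set G) → Nat.card ↥B = 81 →
      Nat.card ↥((Rd L2 b n) ⊔ B) = Nat.card ↥(Rd L2 b n) * 81 := by
    intro B hB hB81
    have hi : (Rd L2 b n) ⊓ B = ⊥ := inf_eq_bot_of_coprime (by rw [hB81]; exact hcop)
    have := card_sup_mul_inf (A := (Rd L2 b n)) (B := B) hB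
    rwa [hi, card_bot, mul_one, hB81] at this
  have heq : (Rd L2 b n) ⊔ cj (c : G) (AA P y t2) = (Rd L2 b n) ⊔ AA P y t2 := Subgroup.eq_of_le_of_card_ge
    (sup_le le_sup_left hle) (by rw [hcards _ H.rad.A_norm hA, hcards _ hN' hA'])
  obtain ⟨ρ, hρ, he⟩ := Cfsg.Agent.Coprime.exists_conj_eq_of_sup_eq (N := (Rd L2 b n)) (H := AA P y t2)
    (K := cj (c : G) (AA P y t2)) H.rad.A_norm hN' heq.symm (hA ▸ hcop) (hA' ▸ hcop)
    (Or.inr (Cfsg.Agent.Coprime.isSolvable_of_isMulCommutative _))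
  refine ⟨⟨ρ⁻¹, H.Rd_NN (inv_mem hρ)⟩ * c, ?_, mem_inf.2 ⟨Cand.mem_normalizer_of_cj ?_, ?_⟩⟩
  · rw [map_mul, pn_eq_one.2 (inv_mem hρ), one_mul]
  · show cj (ρ⁻¹ * (c : G)) (AA P y t2) = AA P y t2
    rw [← Cand.cj_cj, ← he]
    ext w
    rw [mem_cj, inv_inv, Subgroup.mem_pointwise_smul_iff_inv_smul_mem, ← map_inv]
    show (ρ⁻¹ * (ρ * w * ρ⁻¹) * ρ⁻¹⁻¹) ∈ AA P y t2 ↔ _
    rw [show ρ⁻¹ * (ρ * w * ρ⁻¹) * ρ⁻¹⁻¹ = w by group]
  · exact mul_mem (inv_mem (H.rad.le hρ)) (mem_inf.1 c.2).1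

/-- The action of an element of `N(A) ∩ C(r)` on the image of `A`. -/
theorem exists_act {c : ↥(NN t2 (Rd L2 b n))}
    (hc : (c : G) ∈ normalizer (AA P y t2 : Set G) ⊓ centralizer ({t2} : Set G)) :
    ∃ (ε : ZMod 3) (π : Equiv.Perm (Fin 4)), (ε = 1 ∨ ε = -1) ∧
      (∀ v, (c : G) * ψ v * (c : G)⁻¹ = ψ (ε • pm π v)) ∧
      ∀ v, pn _ _ c * H.qv v * (pn _ _ c)⁻¹ = H.qv (ε • pm π v) := by
  obtain ⟨ε, π, hε, h⟩ := H.crd.act _ hc
  refine ⟨ε, π, hε, h, fun v => ?_⟩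
  unfold qv
  rw [← map_inv, ← map_mul, ← map_mul]
  exact congrArg _ (Subtype.ext (h v))

end Qd

end Cfsg.Agent.UThreeLocal.Big.Local
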