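import Cfsg.Agent.Lib.UThreeLocal.Cand.Side
import Cfsg.Agent.Lib.UThreeLocal.Cand.Symp

/-!
# Small tools for the big case

`no_inverter`: an element of `N(Z)` inverting `Z` does not commute modulo the kernel with a transvection of
`Q₁/Z`, since the form `w ↦ [w, x w]` takes one nontrivial value only.
-/

set_option autoImplicit false
set_option linter.unusedSectionVars false
set_option linter.style.haveILetI false

namespace Cfsg.Agent.UThreeLocal.Big.Local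

open Subgroup
open scoped commutatorElement
open Cfsg.Agent.UThreeLocal.Cand (zp_cases shift_of_fix)

universe u

variable {G : Type u} [Group G] [Finite G] {Z Q Q1 Q2 L1 L2 : Subgroup G} {t1 t2 : G}

/-- An inverter of `Z` moves a transvection on `Q₁/Z` that is trivial on `Q₂/Z` to the other class. -/
theorem no_inverter (F : Frame Z Q Q1 Q2 L1 L2 t1 t2) {g x a z : G} (hgQ : g ∈ normalizer (Q : Set G))
    (hz : z ∈ Z) (hz1 : z ≠ 1) (hgz : g * z * g⁻¹ = z⁻¹) (hx : x ∈ centralizer (Z : Set G))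
    (ha : a ∈ Q1) (haZ : a ∉ Z) (hfix : a⁻¹ * (x * a * x⁻¹) ∈ Z) (hnt : ¬ Triv Z Q1 x)
    (ht2 : Triv Z Q2 x) (heq : ∀ u ∈ Q, (x * u * x⁻¹)⁻¹ * ((g * x * g⁻¹) * u * (g * x * g⁻¹)⁻¹) ∈ Z) : False := by
  classical
  haveI : Fact (Nat.Prime 3) := ⟨Nat.prime_three⟩
  have h := F.set
  have le1 := F.pair.le1
  set A := Z ⊔ zpowers a with hA
  have hAQ1 : A ≤ Q1 := sup_le F.pair.Z1 (zpowers_le.2 ha)
  have hAc : A = Q1 ⊓ centralizer ({a} : Set G) := (F.pair.cent_eq h ha haZ).symm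
  have hshift : ∀ w ∈ Q1, w⁻¹ * (x * w * x⁻¹) ∈ A := fun w hw => (shift_of_fix F hx ha haZ hfix hw).2
  have hAfix : ∀ e ∈ A, e⁻¹ * (x * e * x⁻¹) ∈ Z := by
    intro e he
    have hle : A ≤ h.Mt x hx := sup_le
      (fun w hw => ⟨h.Z_le hw, by rw [h.conj_Z hx hw, inv_mul_cancel]; exact one_mem _⟩)
      (zpowers_le.2 ⟨le1 ha, hfix⟩)
    exact (hle he).2
  obtain ⟨v, hv, hvs⟩ : ∃ v ∈ Q1, v⁻¹ * (x * v * x⁻¹) ∉ Z := by
    simpa [Triv, Classical.not_forall] using hnt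
  have hvA : v ∉ A := fun hm => hvs (hAfix v hm)
  set s := v⁻¹ * (x * v * x⁻¹) with hs
  have hsA : s ∈ A := hshift v hv
  have hsQ : s ∈ Q := le1 (hAQ1 hsA)
  have hvQ : v ∈ Q := le1 hv
  set ζ := ⁅v, s⁆ with hζ
  have hζZ : ζ ∈ Z := h.comm_mem hvQ hsQ
  have hζ1 : ζ ≠ 1 := fun e => hvA (by
    have hvm : v ∈ Q1 ⊓ centralizer ({s} : Set G) := mem_inf.2 ⟨hv, mem_centralizer_singleton_iff.2
      (commutatorElement_eq_one_iff_mul_comm.1 e)⟩
    rw [F.pair.cent_eq h (hAQ1 hsA) hvs] at hvm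
    exact (sup_le le_sup_left (zpowers_le.2 hsA) : Z ⊔ zpowers s ≤ A) hvm)
  have hcommA : ∀ e ∈ A, ∀ e' ∈ A, ⁅e, e'⁆ = 1 := by
    intro e he e' he'
    have hle : A ≤ centralizer (A : Set G) := by
      refine sup_le (fun w hw => mem_centralizer_iff.2 fun m hm => (h.comm_Z (le1 (hAQ1 hm)) hw).symm)
        (zpowers_le.2 (mem_centralizer_iff.2 fun m hm => ?_))
      exact mem_centralizer_singleton_iff.1 (hAc.le hm).2
    exact commutatorElement_eq_one_iff_mul_comm.2 (mem_centralizer_iff.1 (hle he') e he)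
  -- the values of the form
  have hgen : Q1 ≤ A ⊔ zpowers v := by
    have hle : A ⊔ zpowers v ≤ Q1 := sup_le hAQ1 (zpowers_le.2 hv)
    refine (Subgroup.eq_of_le_of_card_ge hle ?_).ge
    have h9 : Nat.card ↥A = 9 := by
      rw [hA]
      obtain ⟨b, hb, hab⟩ := F.pair.exists_noncomm h ha haZ
      have hdvd : Nat.card ↥(Z ⊔ zpowers a) ∣ 27 := F.pair.card1 ▸ card_dvd_of_le hAQ1
      have h3 : 3 < Nat.card ↥(Z ⊔ zpowers a) := by
        by_contra hlt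
        refine haZ ((Subgroup.eq_of_le_of_card_ge (le_sup_left : Z ≤ Z ⊔ zpowers a)
          (by rw [h.Z_card]; omega)).ge (mem_sup_right (mem_zpowers a)))
      have h27 : Nat.card ↥(Z ⊔ zpowers a) ≠ 27 := fun e => hab (by
        have := (Subgroup.eq_of_le_of_card_ge hAQ1 (by rw [F.pair.card1, hA, e])).ge hb
        exact (mem_centralizer_singleton_iff.1 (hAc.le this).2).symm)
      obtain ⟨k, hk, ek⟩ := (Nat.dvd_prime_pow Nat.prime_three).1 (show _ ∣ 3 ^ 3 from hdvd)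
      rw [ek] at h3 h27 ⊢
      interval_cases k <;> norm_num at *
    have hdvd : Nat.card ↥(A ⊔ zpowers v) ∣ 27 := F.pair.card1 ▸ card_dvd_of_le hle
    have hlt : 9 < Nat.card ↥(A ⊔ zpowers v) := by
      by_contra hlt
      exact hvA ((Subgroup.eq_of_le_of_card_ge (le_sup_left : A ≤ A ⊔ zpowers v) (by rw [h9]; omega)).ge
        (mem_sup_right (mem_zpowers v)))
    obtain ⟨k, hk, ek⟩ := (Nat.dvd_prime_pow Nat.prime_three).1 (show _ ∣ 3 ^ 3 from hdvd)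
    rw [ek] at hlt ⊢
    rw [F.pair.card1]
    interval_cases k <;> norm_num at *
  have hform : ∀ w ∈ Q1, ⁅w, x * w * x⁻¹⁆ = 1 ∨ ⁅w, x * w * x⁻¹⁆ = ζ := by
    intro w hw
    have hvn : zpowers v ≤ normalizer (A : Set G) := zpowers_le.2 (Subgroup.mem_normalizer_fintype fun e he => by
      rw [SetLike.mem_coe, show v * e * v⁻¹ = ⁅v, e⁆ * e by rw [commutatorElement_def]; group]
      exact mul_mem (mem_sup_left (h.comm_mem hvQ (le1 (hAQ1 he)))) he)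
    obtain ⟨e, he, i, rfl⟩ := Cand.mem_sup_zpowers hvn (F.cube v hvQ) (hgen hw)
    have heQ := le1 (hAQ1 he)
    have hviQ : v ^ (i : ℕ) ∈ Q := pow_mem hvQ _
    have hwQ := le1 hw
    set c := e⁻¹ * (x * e * x⁻¹) with hc
    have hcZ : c ∈ Z := hAfix e he
    have hxv : x * v * x⁻¹ = v * s := by rw [hs, mul_inv_cancel_left]
    have e1 : ∀ m ∈ Q, ⁅m, x * (e * v ^ (i : ℕ)) * x⁻¹⁆ = ⁅m, e⁆ * ⁅m, (v * s) ^ (i : ℕ)⁆ := by
      intro m hm
      have : x * (e * v ^ (i : ℕ)) * x⁻¹ = e * c * (v * s) ^ (i : ℕ) := by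
        rw [← hxv, conj_pow, hc]; group
      rw [this, h.comm_mul_right (mul_mem heQ (h.Z_le hcZ)) (pow_mem (mul_mem hvQ hsQ) _) hm,
        h.comm_mul_right heQ (h.Z_le hcZ) hm,
        commutatorElement_eq_one_iff_mul_comm.2 (h.comm_Z hm hcZ).symm, mul_one]
    have hvse : ⁅e, v * s⁆ = ⁅e, v⁆ := by
      rw [h.comm_mul_right hvQ hsQ heQ, hcommA e he s hsA, mul_one]
    have hvvs : ⁅v, v * s⁆ = ζ := by rw [h.comm_mul_right hvQ hsQ hvQ, commutatorElement_self, one_mul]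
    have hpowR : ∀ m ∈ Q, ∀ u ∈ Q, ∀ k : ℕ, ⁅m, u ^ k⁆ = ⁅m, u⁆ ^ k := by
      intro m hm u hu k
      induction k with
      | zero => simp
      | succ k ih => rw [pow_succ, pow_succ, h.comm_mul_right (pow_mem hu _) hu hm, ih]
    have hxwQ : x * (e * v ^ (i : ℕ)) * x⁻¹ ∈ Q :=
      (mem_normalizer_iff.1 (h.Q_norm hx) _).1 (mul_mem heQ hviQ)
    have hL : ∀ u ∈ Q, ⁅v ^ (i : ℕ), u⁆ = ⁅v, u⁆ ^ (i : ℕ) := fun u hu => by
      rw [← commutatorElement_inv u, hpowR u hu v hvQ, ← inv_pow, commutatorElement_inv]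
    have hinvcomm : ⁅e, v⁆ * ⁅v, e⁆ = 1 := by rw [← commutatorElement_inv e v, mul_inv_cancel]
    have hcomm : Commute ⁅e, v⁆ ⁅v, e⁆ := h.comm_Z (h.Z_le (h.comm_mem hvQ heQ)) (h.comm_mem heQ hvQ)
    rw [h.comm_mul_left heQ hviQ hxwQ, e1 e heQ, e1 _ hviQ, commutatorElement_self, one_mul,
      hpowR e heQ _ (mul_mem hvQ hsQ), hvse, hpowR _ hviQ _ (mul_mem hvQ hsQ), hL e heQ,
      hL _ (mul_mem hvQ hsQ), hvvs, ← mul_assoc, ← hcomm.mul_pow, hinvcomm, one_pow, one_mul, ← pow_mul]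
    have h4 : ζ ^ 4 = ζ := by rw [pow_succ, h.Z_cube hζZ, one_mul]
    fin_cases i
    · left; simp
    · right; simp
    · right; simpa using h4
  -- transport by `g`
  have hgv : g * v * g⁻¹ ∈ Q := (mem_normalizer_iff.1 hgQ v).1 hvQ
  set w := g * v * g⁻¹ with hw
  have hdiff := heq w hgv
  set c := (x * w * x⁻¹)⁻¹ * (g * x * g⁻¹ * w * (g * x * g⁻¹)⁻¹) with hc
  have hxw : x * w * x⁻¹ ∈ Q := (mem_normalizer_iff.1 (h.Q_norm hx) _).1 hgv
  have e2 : g * (x * v * x⁻¹) * g⁻¹ = x * w * x⁻¹ * c := by rw [hc, hw]; group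
  have e3 : g * ζ * g⁻¹ = ⁅w, x * w * x⁻¹⁆ := by
    have hvs' : ζ = ⁅v, x * v * x⁻¹⁆ := by
      rw [show x * v * x⁻¹ = v * s by rw [hs, mul_inv_cancel_left], h.comm_mul_right hvQ hsQ hvQ,
        commutatorElement_self, one_mul]
    rw [hvs']
    calc g * ⁅v, x * v * x⁻¹⁆ * g⁻¹ = ⁅w, g * (x * v * x⁻¹) * g⁻¹⁆ := by
          rw [hw]; simp only [commutatorElement_def]; group
      _ = ⁅w, x * w * x⁻¹⁆ * ⁅w, c⁆ := by rw [e2, h.comm_mul_right hxw (h.Z_le hdiff) hgv]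
      _ = _ := by rw [commutatorElement_eq_one_iff_mul_comm.2 (h.comm_Z hgv hdiff).symm, mul_one]
  have hgζ : g * ζ * g⁻¹ = ζ⁻¹ := by
    rcases zp_cases h.Z_card hz hz1 hζZ with e | e | e
    · exact absurd e hζ1
    · rw [e, hgz]
    · rw [e, inv_inv, ← conj_inv, hgz, inv_inv]
  have hformQ : ⁅w, x * w * x⁻¹⁆ = 1 ∨ ⁅w, x * w * x⁻¹⁆ = ζ := by
    obtain ⟨p, hp, q, hq, e⟩ := F.pair.dec w hgv
    set k := q⁻¹ * (x * q * x⁻¹) with hk
    have hkZ : k ∈ Z := ht2 q hq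
    have hxp : x * p * x⁻¹ ∈ Q1 := (shift_of_fix F hx ha haZ hfix hp).1
    have hqQ := F.pair.le2 hq
    have e1 : x * w * x⁻¹ = x * p * x⁻¹ * (q * k) := by rw [hk, e]; group
    have h1 : ⁅p, q * k⁆ = 1 := by
      rw [h.comm_mul_right hqQ (h.Z_le hkZ) (le1 hp), commutatorElement_eq_one_iff_mul_comm.2 (F.pair.comm p hp q hq),
        commutatorElement_eq_one_iff_mul_comm.2 (h.comm_Z (le1 hp) hkZ).symm, mul_one]
    have h2 : ⁅q, x * p * x⁻¹⁆ = 1 :=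
      commutatorElement_eq_one_iff_mul_comm.2 (F.pair.comm _ hxp q hq).symm
    have h3 : ⁅q, q * k⁆ = 1 := by
      rw [h.comm_mul_right hqQ (h.Z_le hkZ) hqQ, commutatorElement_self, one_mul,
        commutatorElement_eq_one_iff_mul_comm.2 (h.comm_Z hqQ hkZ).symm]
    have hxpQ := le1 hxp
    rw [e1, e, h.comm_mul_left (le1 hp) hqQ (mul_mem hxpQ (mul_mem hqQ (h.Z_le hkZ))),
      h.comm_mul_right hxpQ (mul_mem hqQ (h.Z_le hkZ)) (le1 hp),
      h.comm_mul_right hxpQ (mul_mem hqQ (h.Z_le hkZ)) hqQ, h1, h2, h3, mul_one, mul_one, mul_one]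
    exact hform p hp
  rcases hformQ with e | e <;> rw [← e3, hgζ] at e
  · exact hζ1 (inv_eq_one.1 e)
  · have h3 := h.Z_cube hζZ
    rw [pow_succ, pow_two, show ζ * ζ = 1 by nth_rewrite 1 [← e]; exact inv_mul_cancel ζ, one_mul] at h3
    exact hζ1 h3

end Cfsg.Agent.UThreeLocal.Big.Local
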