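import Cfsg.Agent.Lib.UThreeLocal.Big.Local.QuoBase
import Cfsg.Agent.Lib.UThreeLocal.Big.Local.Tools
import Cfsg.Agent.Lib.SpThreeCent.PartOne.Main
import Cfsg.Agent.Lib.SpThreeCent.Main
import Cfsg.Agent.Lib.Classical.Symplectic

/-!
# The quotient `C(σ)/⟨σ⟩` is `PSp₄(3)`

The centralizer of the image of `z` is the image of `Q₁L₁A` and lies in `C(σ)`; it gives the centralizer data,
`A` gives the coordinates, `z` is not inverted and the diagonal signs occur.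
-/

set_option autoImplicit false
set_option linter.unusedSectionVars false
set_option linter.style.haveILetI false
set_option maxRecDepth 100000
set_option synthInstance.maxSize 10000

namespace Cfsg.Agent.UThreeLocal.Big.Local

open Subgroup
open scoped commutatorElement
open Cfsg.Agent.NineSym (Mn Wt V3 InL Wok jM wM wact)
open Cfsg.Agent.SpThreeCent (CentData JData Loc psp_of_four)
open Cfsg.Agent.PSpAmalgam (SL3)
open Cfsg.Agent.UThreeLocal.Cand (NN NB pn pn_eq_one pn_eq XX pr pr_eq_one pr_eq pr_surj exists_sl_action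
  exists_lift_cent exists_loc_of_data centData_of mem_sup_zpowers zp_cases cd_false_fix)

theorem cyc_e1 : ![0, 1, 0, 0] ≠ pm cyc ![0, 1, 0, 0] := by decide

theorem real_w : ∀ cd : Bool, ∃ w : Wt, Wok true cd w ∧ wact w (1, 1, 1) = -((1, 1, 1) : V3) := by
  decide +kernel

universe u

variable {G : Type u} [Group G] [Finite G]

namespace Qd

variable {Z Q Q1 Q2 L1 L2 P W : Subgroup G} {t1 t2 z y g d a n b : G} {ψ : Ex → G}
  (H : Qd Z Q Q1 Q2 L1 L2 P W t1 t2 z y g d a n b ψ)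
include H

theorem dv_zp : ψ dv ∈ zpowers d := by
  haveI : Fact (Nat.Prime 3) := ⟨Nat.prime_three⟩
  have hc : Nat.card ↥(zpowers (ψ dv)) = 3 := by
    rw [Nat.card_zpowers, orderOf_eq_prime (H.cube dv) (H.ne_one (by decide))]
  exact (zpowers_eq_of_prime hc H.crd.d_eq H.duo.data.d_ne).ge (mem_zpowers _)

theorem dv_Q1 : ψ dv ∈ Q1 := (zpowers_le.2 H.duo.data.flag1.mem) H.dv_zp

theorem z_Q1 : z ∈ Q1 := H.frame.pair.Z1 H.duo.data.z_mem

theorem Q1_le : Q1 ≤ AA P y t2 ⊔ zpowers b := by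
  haveI : Fact (Nat.Prime 3) := ⟨Nat.prime_three⟩
  have F := H.frame
  set U := Z ⊔ zpowers d with hU
  have hUA : U ≤ AA P y t2 := sup_le
    (fun w hw => (zpowers_le.2 H.z_A) ((zpowers_eq_of_prime F.set.Z_card H.duo.data.z_mem H.duo.data.z_ne).ge hw))
    (zpowers_le.2 H.d_A)
  have hbU : b ∉ U := fun hb => by
    have := H.crd.b_act ![0, 1, 0, 0]
    rw [H.duo.data.A_comm (hUA hb) (H.mem _), mul_inv_cancel_right] at this
    exact cyc_e1 (H.crd.inj this)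
  have hle : U ⊔ zpowers b ≤ Q1 :=
    sup_le (sup_le F.pair.Z1 (zpowers_le.2 H.duo.data.flag1.mem)) (zpowers_le.2 H.crd.b_mem)
  have hU9 : 9 ≤ Nat.card ↥U := by
    have hdvd : Nat.card ↥U ∣ 3 ^ 3 :=
      (show (3 : ℕ) ^ 3 = 27 from rfl).symm ▸ F.pair.card1 ▸ card_dvd_of_le (le_trans le_sup_left hle)
    have h3 : 3 < Nat.card ↥U := by
      by_contra hlt
      refine H.duo.data.flag1.notZ ((Subgroup.eq_of_le_of_card_ge (le_sup_left : Z ≤ U)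
        (by rw [F.set.Z_card]; exact not_lt.1 hlt)).ge (mem_sup_right (mem_zpowers d)))
    obtain ⟨k, hk, ek⟩ := (Nat.dvd_prime_pow Nat.prime_three).1 hdvd
    rw [ek] at h3 ⊢
    interval_cases k <;> norm_num at *
  have heq : U ⊔ zpowers b = Q1 := by
    refine Subgroup.eq_of_le_of_card_ge hle ?_
    have hdvd : Nat.card ↥(U ⊔ zpowers b) ∣ 3 ^ 3 :=
      (show (3 : ℕ) ^ 3 = 27 from rfl).symm ▸ F.pair.card1 ▸ card_dvd_of_le hle
    have hlt : 9 < Nat.card ↥(U ⊔ zpowers b) := by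
      by_contra hlt
      exact hbU ((Subgroup.eq_of_le_of_card_ge (le_sup_left : U ≤ U ⊔ zpowers b) (by omega)).ge
        (mem_sup_right (mem_zpowers b)))
    obtain ⟨k, hk, ek⟩ := (Nat.dvd_prime_pow Nat.prime_three).1 hdvd
    rw [ek] at hlt ⊢
    rw [F.pair.card1]
    interval_cases k <;> norm_num at *
  exact heq ▸ sup_le_sup_right hUA _

theorem sg_comm {x : G} (hx : x ∈ Q1) : x * ψ sg = ψ sg * x := by
  have hle : AA P y t2 ⊔ zpowers b ≤ centralizer ({ψ sg} : Set G) := by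
    refine sup_le (fun w hw => mem_centralizer_singleton_iff.2 (H.duo.data.A_comm hw (H.mem _)))
      (zpowers_le.2 (mem_centralizer_singleton_iff.2 ?_))
    have := H.crd.b_act sg
    rw [pm_sg] at this
    exact mul_inv_eq_iff_eq_mul.1 this
  exact mem_centralizer_singleton_iff.1 (hle (H.Q1_le hx))

/-- `C(Z) ∩ C(r)`. -/
def KK (_ : Qd Z Q Q1 Q2 L1 L2 P W t1 t2 z y g d a n b ψ) : Subgroup G :=
  centralizer (Z : Set G) ⊓ centralizer ({t2} : Set G)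

theorem Q1_KK : Q1 ≤ H.KK := fun _ hx => mem_inf.2
  ⟨H.setting.Q_le (H.frame.pair.le1 hx), mem_centralizer_singleton_iff.2 (fix_r H.frame hx)⟩

theorem L1_KK : L1 ≤ H.KK := fun l hl => mem_inf.2
  ⟨H.frame.L1_le hl, mem_centralizer_singleton_iff.2 (H.frame.L_comm l hl t2 H.frame.t2_mem)⟩

theorem A_KK : AA P y t2 ≤ H.KK := fun _ hx =>
  mem_inf.2 ⟨H.duo.data.A_le_C hx, (mem_inf.1 hx).2⟩

theorem KK_dec {k : G} (hk : k ∈ H.KK) : ∃ q ∈ Q1, ∃ l ∈ L1, ∃ m ∈ L2, ∃ v, k = q * l * m * ψ v := by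
  obtain ⟨q, hq, l, hl, m, hm, x, hx, e⟩ := H.nrm.cent_z k hk
  obtain ⟨v, rfl⟩ := (H.crd.mem _).1 hx
  exact ⟨q, hq, l, hl, m, hm, v, e⟩

theorem KK_NN : H.KK ≤ NN t2 (Rd L2 b n) := fun k hk => by
  obtain ⟨q, hq, l, hl, m, hm, v, rfl⟩ := H.KK_dec hk
  exact mul_mem (mul_mem (mul_mem (H.Q1_NN hq) (H.L1_NN hl)) (H.Rd_NN (H.L2_Rd hm))) (H.A_NN (H.mem v))

theorem KK_norm1 : H.KK ≤ normalizer (Q1 : Set G) := fun _ hk =>
  (norm_Q12 H.frame (centralizer_le_normalizer _ (mem_inf.1 hk).1)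
    (mem_centralizer_singleton_iff.1 (mem_inf.1 hk).2)).1

/-- The image in the quotient of an element of `C(Z) ∩ C(r)`. -/
def kim : ↥H.KK →* NB t2 (Rd L2 b n) := (pn t2 (Rd L2 b n)).comp (Subgroup.inclusion H.KK_NN)

theorem qv_kim (v : Ex) : H.qv v = H.kim ⟨ψ v, H.A_KK (H.mem v)⟩ := rfl

theorem kim_sg (k : ↥H.KK) : H.kim k * H.σb = H.σb * H.kim k := by
  obtain ⟨q, hq, l, hl, m, hm, v, e⟩ := H.KK_dec k.2
  have hqlv : q * l * ψ v ∈ NN t2 (Rd L2 b n) :=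
    mul_mem (mul_mem (H.Q1_NN hq) (H.L1_NN hl)) (H.A_NN (H.mem v))
  have e1 : H.kim k = pn _ _ ⟨q * l * ψ v, hqlv⟩ := by
    refine QuotientGroup.eq.2 (mem_subgroupOf.2 ?_)
    show (k : G)⁻¹ * (q * l * ψ v) ∈ Rd L2 b n
    rw [e, show (q * l * m * ψ v)⁻¹ * (q * l * ψ v) = (ψ v)⁻¹ * m⁻¹ * ψ v by group]
    exact (mem_normalizer_iff''.1 (H.rad.A_norm (H.mem v)) _).1 (inv_mem (H.L2_Rd hm))
  rw [e1, σb, qv, ← map_mul, ← map_mul]
  refine congrArg _ (Subtype.ext ?_)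
  exact (((show Commute q (ψ sg) from H.sg_comm hq).mul_left
    (show Commute l (ψ sg) from H.nrm.L1_sg l hl)).mul_left (show Commute (ψ v) (ψ sg) from H.comm v sg)).eq

theorem qz_lift {x : NB t2 (Rd L2 b n)} (hx : x * H.qv (zt 0) = H.qv (zt 0) * x) :
    ∃ k : ↥H.KK, H.kim k = x := by
  obtain ⟨c, rfl⟩ := QuotientGroup.mk'_surjective _ x
  obtain ⟨ρ, hρ, hc⟩ := exists_lift_cent H.R_three (a := ⟨ψ (zt 0), H.A_NN (H.mem _)⟩) (g := c)
    (H.cube _) hx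
  have hk : (c : G) * ρ ∈ H.KK := mem_inf.2 ⟨H.duo.data.mem_CZ (H.crd.z_eq ▸ hc),
    mul_mem (mem_inf.1 c.2).1 (H.rad.le hρ)⟩
  refine ⟨⟨_, hk⟩, QuotientGroup.eq.2 (mem_subgroupOf.2 ?_)⟩
  show ((c : G) * ρ)⁻¹ * (c : G) ∈ Rd L2 b n
  rw [show ((c : G) * ρ)⁻¹ * (c : G) = ρ⁻¹ by group]
  exact inv_mem hρ

/-- The centralizer of the image of `z` centralises the image of `σ`. -/
theorem cent_qz {x : NB t2 (Rd L2 b n)} (hx : x * H.qv (zt 0) = H.qv (zt 0) * x) :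
    x ∈ centralizer ({H.σb} : Set (NB t2 (Rd L2 b n))) := by
  obtain ⟨k, rfl⟩ := H.qz_lift hx
  exact mem_centralizer_singleton_iff.2 (H.kim_sg k)

/-- A conjugate of the image of `z` in the image of `A` is the image of a point. -/
theorem pt_image {x : NB t2 (Rd L2 b n)} {w : Ex} (h : x * H.qv (zt 0) * x⁻¹ = H.qv w) : IsPt Z (ψ w) := by
  obtain ⟨c, rfl⟩ := QuotientGroup.mk'_surjective _ x
  unfold qv at h
  rw [← map_inv, ← map_mul, ← map_mul] at h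
  have h1 := pn_eq h
  push_cast at h1
  rw [H.crd.z_eq] at h1
  have hN : (c : G) * z * (c : G)⁻¹ ∈ normalizer (Rd L2 b n : Set G) :=
    mul_mem (mul_mem (mem_inf.1 c.2).2 (H.rad.A_norm H.z_A)) (inv_mem (mem_inf.1 c.2).2)
  obtain ⟨ρ, -, he⟩ := conj_of_coset H.R_three hN
    (by rw [conj_pow, H.duo.data.A_exp H.z_A, mul_one, mul_inv_cancel]) (H.cube w) h1
  exact he ▸ ((IsPt.of_mem H.duo.data.z_mem H.duo.data.z_ne).conj _).conj ρ

theorem qv_cent (v : Ex) : H.qv v ∈ centralizer ({H.σb} : Set (NB t2 (Rd L2 b n))) :=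
  mem_centralizer_singleton_iff.2 (H.qv_comm v sg)

theorem σb_ne : H.σb ≠ 1 := fun e => (by decide : sg ≠ 0) (H.qv_inj (e.trans H.qv_zero.symm))

theorem σb_order : orderOf H.σb = 3 := by
  haveI : Fact (Nat.Prime 3) := ⟨Nat.prime_three⟩
  exact orderOf_eq_prime (H.qv_cube _) H.σb_ne

theorem zp_σb {x : NB t2 (Rd L2 b n)} (hx : x ∈ zpowers H.σb) : ∃ k : ZMod 3, H.qv (k • sg) = x := by
  rcases zp_cases (by rw [Nat.card_zpowers, H.σb_order]) (mem_zpowers _) H.σb_ne hx with e | e | e <;> subst e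
  · exact ⟨0, by rw [zero_smul, H.qv_zero]⟩
  · exact ⟨1, by rw [one_smul]; rfl⟩
  · exact ⟨-1, by rw [neg_one_smul, H.qv_neg]; rfl⟩

/-- The map to `C(σ)/⟨σ⟩` on the image of `A`. -/
def yv (v : Ex) : XX H.σb := pr H.σb ⟨H.qv v, H.qv_cent v⟩

theorem yv_eq {v : Ex} {x : ↥(centralizer ({H.σb} : Set (NB t2 (Rd L2 b n))))} (e : H.yv v = pr H.σb x) :
    ∃ k : ZMod 3, H.qv (v + k • sg) = x := by
  obtain ⟨k, hk⟩ := H.zp_σb (pr_eq e)
  exact ⟨k, by rw [H.qv_add, hk]; group⟩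

theorem yv_eq_yv {v w : Ex} (e : H.yv v = H.yv w) : ∃ k : ZMod 3, v + k • sg = w := by
  obtain ⟨k, hk⟩ := H.yv_eq e
  exact ⟨k, H.qv_inj hk⟩

theorem yv_add (v w : Ex) : H.yv (v + w) = H.yv v * H.yv w := by
  unfold yv
  rw [← map_mul]
  exact congrArg _ (Subtype.ext (H.qv_add v w))

theorem yv_neg (v : Ex) : H.yv (-v) = (H.yv v)⁻¹ := by
  unfold yv
  rw [← map_inv]
  exact congrArg _ (Subtype.ext (H.qv_neg v))

theorem yv_sg (k : ZMod 3) : H.yv (k • sg) = 1 := pr_eq_one.2 (H.qv_smul k sg)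

/-- The map of `C(Z) ∩ C(r)` to `C(σ)/⟨σ⟩`. -/
def kY : ↥H.KK →* XX H.σb :=
  (pr H.σb).comp (H.kim.codRestrict _ fun k => mem_centralizer_singleton_iff.2 (H.kim_sg k))

theorem kY_qv (v : Ex) : H.kY ⟨ψ v, H.A_KK (H.mem v)⟩ = H.yv v := rfl

/-- The image of `Q₁`. -/
def RY : Subgroup (XX H.σb) := (Q1.subgroupOf H.KK).map H.kY

theorem mem_conj_z {k : ZMod 3} {ε : Bool}
    (h : IsPt Z (ψ ((if ε then -zt 0 else zt 0) + k • sg))) : k = 0 := by
  obtain ⟨i, hi⟩ := H.crd.pts _ h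
  cases ε
  · exact (pt_shift k i).1 hi
  · exact (pt_shift k i).2 hi

theorem centData : CentData (H.yv (zt 0)) H.RY := by
  classical
  have F := H.frame
  have h := H.setting
  have hz0 : ψ (zt 0) ∈ Z := H.crd.z_eq.symm ▸ H.duo.data.z_mem
  have hz01 : ψ (zt 0) ≠ 1 := H.ne_one (by decide)
  obtain ⟨π, hπ⟩ := exists_sl_action F.symm hz0 hz01 (K := H.KK) inf_le_left H.KK_norm1
  refine centData_of F.symm hz0 hz01 (K := H.KK) inf_le_left H.KK_norm1 H.Q1_KK H.kY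
    (fun x hx e => ?_) (fun w hw => ?_) (fun k hk => ?_) (fun k hk => ?_)
    ⟨L1, H.L1_KK, F.L1_card, fun m hm ht => L1_triv F hm ht⟩
    ⟨y, H.A_KK (H.duo.data.y_A), H.duo.data.y_cube, H.duo.data.nontriv.1⟩
  · obtain ⟨i, hi⟩ := H.zp_σb (pr_eq_one.1 e : H.kim ⟨x, H.Q1_KK hx⟩ ∈ zpowers H.σb)
    have h1 : (ψ (i • sg))⁻¹ * x ∈ Rd L2 b n := pn_eq hi
    have hc : Commute (ψ (i • sg))⁻¹ x := by
      obtain ⟨j, hj⟩ := mem_zpowers_iff.1 (H.smul_mem i sg)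
      rw [← hj]
      exact (((show Commute x (ψ sg) from H.sg_comm hx).zpow_right j).symm).inv_left
    have h3 : ((ψ (i • sg))⁻¹ * x) ^ 3 = 1 := by
      rw [hc.mul_pow, inv_pow, H.cube, inv_one, one_mul, F.cube x (F.pair.le1 hx)]
    have h2 : ((ψ (i • sg))⁻¹ * x) ^ Nat.card ↥(Rd L2 b n) = 1 :=
      congrArg Subtype.val (pow_card_eq_one' (x := (⟨_, h1⟩ : ↥(Rd L2 b n))))
    have hxe := pow_gcd_eq_one.2 ⟨h2, h3⟩
    rw [H.R_three.gcd_eq_one, pow_one, inv_mul_eq_one] at hxe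
    rcases zmod3 i with rfl | rfl | rfl
    · rw [← hxe, zero_smul, H.zero]
    all_goals
      exfalso
      have ht := (H.crd.triv2 _).1 (hxe ▸ F.triv_Q (F.pair.le1 hx) F.pair.le2)
      revert ht
      decide
  · obtain ⟨c, rfl⟩ := pr_surj H.σb w
    have e1 : pr H.σb c * H.yv (zt 0) * (pr H.σb c)⁻¹ = H.yv (zt 0) := by
      rw [mul_inv_eq_iff_eq_mul]; exact hw
    unfold yv at e1
    rw [← map_inv, ← map_mul, ← map_mul] at e1
    obtain ⟨k, hk⟩ := H.yv_eq (v := zt 0) e1.symm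
    push_cast at hk
    obtain rfl := H.mem_conj_z (ε := false) (H.pt_image hk.symm)
    rw [zero_smul, add_zero] at hk
    obtain ⟨x, hx⟩ := H.qz_lift (mul_inv_eq_iff_eq_mul.1 hk.symm)
    exact ⟨x, congrArg (pr H.σb) (Subtype.ext hx)⟩
  · obtain ⟨i, hi⟩ := H.zp_σb (pr_eq_one.1 hk : H.kim k ∈ zpowers H.σb)
    have h1 : (ψ (i • sg))⁻¹ * (k : G) ∈ Rd L2 b n := pn_eq hi
    have hm : (ψ (i • sg))⁻¹ * (k : G) ∈ L2 := H.R_cent_z h1 (H.duo.data.z_cent (mul_mem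
      (inv_mem (H.duo.data.A_le_C (H.mem _))) (mem_inf.1 k.2).1))
    intro x hx
    rw [show (k : G) = ψ (i • sg) * ((ψ (i • sg))⁻¹ * (k : G)) by group, shift_mul,
      ← mem_centralizer_iff.1 (F.L2_cent hm) x hx, mul_inv_cancel_right, inv_mul_cancel]
    simp only [mul_one, mul_inv_cancel]
    exact (H.crd.triv1 (i • sg)).2 (by rcases zmod3 i with rfl | rfl | rfl <;> decide) x hx
  · obtain ⟨q, hq, l, hl, m, hm, v, e⟩ := H.KK_dec k.2
    have hmK : m ∈ H.KK := mem_inf.2 ⟨F.L2_le hm, H.rad.le (H.L2_Rd hm)⟩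
    have hkd : k = ⟨q, H.Q1_KK hq⟩ * ⟨l, H.L1_KK hl⟩ * ⟨m, hmK⟩ * ⟨ψ v, H.A_KK (H.mem v)⟩ := Subtype.ext e
    have hq1 : π ⟨q, H.Q1_KK hq⟩ = 1 := (hπ _).2 (F.triv_Q (F.pair.le1 hq) F.pair.le1)
    have hm1 : π ⟨m, hmK⟩ = 1 := (hπ _).2 fun x hx => by
      show x⁻¹ * (m * x * m⁻¹) ∈ Z
      rw [← mem_centralizer_iff.1 (F.L2_cent hm) x hx, mul_inv_cancel_right, inv_mul_cancel]; exact one_mem _
    have h0 : π ⟨l, H.L1_KK hl⟩ * π ⟨ψ v, H.A_KK (H.mem v)⟩ = 1 := by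
      have := (hπ k).2 hk
      rwa [hkd, map_mul, map_mul, map_mul, hq1, hm1, one_mul, mul_one] at this
    have hl8 : π ⟨l, H.L1_KK hl⟩ ^ 8 = 1 := by
      have h8 : l ^ 8 = 1 := by
        have := pow_card_eq_one' (x := (⟨l, hl⟩ : ↥L1))
        rw [F.L1_card] at this
        simpa using congrArg Subtype.val this
      rw [← map_pow, show (⟨l, H.L1_KK hl⟩ : ↥H.KK) ^ 8 = 1 from Subtype.ext h8, map_one]
    have hv3 : π ⟨ψ v, H.A_KK (H.mem v)⟩ ^ 3 = 1 := by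
      rw [← map_pow, show (⟨ψ v, H.A_KK (H.mem v)⟩ : ↥H.KK) ^ 3 = 1 from Subtype.ext (H.cube v), map_one]
    have hl1 : π ⟨l, H.L1_KK hl⟩ = 1 := by
      have h3 : π ⟨l, H.L1_KK hl⟩ ^ 3 = 1 := by
        rw [eq_inv_of_mul_eq_one_left h0, inv_pow, hv3, inv_one]
      have := pow_gcd_eq_one.2 ⟨hl8, h3⟩
      rwa [show Nat.gcd 8 3 = 1 from rfl, pow_one] at this
    rw [hl1, one_mul] at h0
    have hl' : l = 1 := L1_triv F hl ((hπ _).1 hl1)
    obtain ⟨i, j, hv⟩ := sum_zero_dec v ((H.crd.triv1 v).1 ((hπ _).1 h0))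
    set w := i • zt 0 + j • dv with hw
    have hwQ : ψ w ∈ Q1 := by
      rw [hw, H.crd.add]
      refine mul_mem ((zpowers_le.2 (F.pair.Z1 hz0)) (H.smul_mem i _)) ((zpowers_le.2 H.dv_Q1) (H.smul_mem j _))
    refine ⟨⟨q * ψ w, H.Q1_KK (mul_mem hq hwQ)⟩, mul_mem hq hwQ, ?_⟩
    have hmY : H.kY ⟨m, hmK⟩ = 1 :=
      pr_eq_one.2 (by show H.kim ⟨m, hmK⟩ ∈ _; rw [show H.kim ⟨m, hmK⟩ = 1 from pn_eq_one.2 (H.L2_Rd hm)]; exact one_mem _)
    have hlY : H.kY ⟨l, H.L1_KK hl⟩ = 1 := by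
      rw [show (⟨l, H.L1_KK hl⟩ : ↥H.KK) = 1 from Subtype.ext hl', map_one]
    have hyv : H.yv v = H.yv w := by
      rw [hv, show v 0 • sg + i • zt 0 + j • dv = v 0 • sg + w by rw [hw, add_assoc], H.yv_add, H.yv_sg, one_mul]
    rw [hkd, map_mul, map_mul, map_mul, hlY, hmY, mul_one, mul_one,
      show (⟨q * ψ w, _⟩ : ↥H.KK) = ⟨q, H.Q1_KK hq⟩ * ⟨ψ w, H.A_KK (H.mem w)⟩ from rfl, map_mul, H.kY_qv, H.kY_qv,
      hyv]

/-- The image of `A` in `C(σ)/⟨σ⟩`. -/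
def JY : Subgroup (XX H.σb) := ((AA P y t2).subgroupOf H.KK).map H.kY

theorem mem_JY {x : XX H.σb} : x ∈ H.JY ↔ ∃ v, H.yv v = x := by
  constructor
  · rintro ⟨c, hc, rfl⟩
    obtain ⟨v, hv⟩ := (H.crd.mem _).1 hc
    exact ⟨v, congrArg H.kY (Subtype.ext hv : (⟨ψ v, H.A_KK (H.mem v)⟩ : ↥H.KK) = c)⟩
  · rintro ⟨v, rfl⟩
    exact ⟨⟨ψ v, H.A_KK (H.mem v)⟩, H.mem v, rfl⟩

theorem jData : JData (H.yv (zt 0)) H.RY H.JY := by
  classical
  refine ⟨fun x hx => ?_, fun x hx w hw => ?_, fun x hx => ?_, ?_⟩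
  · obtain ⟨v, rfl⟩ := H.mem_JY.1 hx
    exact mem_centralizer_singleton_iff.2 (by rw [← H.yv_add, ← H.yv_add, add_comm])
  · obtain ⟨v, rfl⟩ := H.mem_JY.1 hx
    obtain ⟨u, rfl⟩ := H.mem_JY.1 hw
    rw [← H.yv_add, ← H.yv_add, add_comm]
  · obtain ⟨v, rfl⟩ := H.mem_JY.1 hx
    rw [yv, ← map_pow, show (⟨H.qv v, _⟩ : ↥(centralizer ({H.σb} : Set (NB t2 (Rd L2 b n))))) ^ 3 = 1 from
      Subtype.ext (H.qv_cube v), map_one]
  · set f : ↥H.qA →* XX H.σb := (pr H.σb).comp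
      (Subgroup.inclusion (fun x hx => by obtain ⟨v, rfl⟩ := H.mem_qA.1 hx; exact H.qv_cent v :
        H.qA ≤ centralizer ({H.σb} : Set (NB t2 (Rd L2 b n))))) with hf
    have hr : f.range = H.JY := by
      ext x
      rw [H.mem_JY]
      constructor
      · rintro ⟨c, rfl⟩
        obtain ⟨v, hv⟩ := H.mem_qA.1 c.2
        exact ⟨v, congrArg (pr H.σb) (Subtype.ext hv)⟩
      · rintro ⟨v, rfl⟩
        exact ⟨⟨_, H.qA_qv v⟩, rfl⟩
    have hk : f.ker = (zpowers H.σb).subgroupOf H.qA := by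
      ext c
      rw [MonoidHom.mem_ker, mem_subgroupOf]
      exact pr_eq_one
    have := f.ker.card_mul_index
    rw [Subgroup.index_ker, hr, hk, Nat.card_congr (subgroupOfEquivOfLe
      (zpowers_le.2 (H.qA_qv sg) : zpowers H.σb ≤ H.qA)).toEquiv, H.card_qA, Nat.card_zpowers, H.σb_order] at this
    omega

theorem sigY (K : Subgroup (XX H.σb)) (hK : (Nat.card ↥K).Coprime 3)
    (hn : H.JY ≤ normalizer (K : Set (XX H.σb))) : K = ⊥ := by
  classical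
  obtain ⟨M, hMc, hMn⟩ := exists_coprime_part H.σb_order K hK
  set P' := (M.comap (pn t2 (Rd L2 b n))).map (NN t2 (Rd L2 b n)).subtype with hP'
  have hcard : (Nat.card ↥P').Coprime 3 := by
    rw [hP', card_map_of_injective (Subgroup.subtype_injective _)]
    set f : ↥(M.comap (pn t2 (Rd L2 b n))) →* NB t2 (Rd L2 b n) :=
      (pn t2 (Rd L2 b n)).comp (M.comap (pn t2 (Rd L2 b n))).subtype with hf
    have h1 := f.ker.card_mul_index
    have hr : f.range = M := by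
      ext x
      refine ⟨fun ⟨c, hc⟩ => hc ▸ c.2, fun hx => ?_⟩
      obtain ⟨c, rfl⟩ := QuotientGroup.mk'_surjective _ x
      exact ⟨⟨c, hx⟩, rfl⟩
    rw [Subgroup.index_ker, hr, hMc] at h1
    have hk : Nat.card ↥f.ker ∣ Nat.card ↥(Rd L2 b n) := by
      refine Subgroup.card_dvd_of_injective
        (({ toFun := fun c => ⟨((c : ↥(M.comap (pn t2 (Rd L2 b n)))) : ↥(NN t2 (Rd L2 b n))), pn_eq_one.1 c.2⟩
            map_one' := rfl
            map_mul' := fun _ _ => rfl } : ↥f.ker →* ↥(Rd L2 b n))) fun c c' e => ?_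
      exact Subtype.ext (Subtype.ext (Subtype.ext (congrArg (fun w : ↥(Rd L2 b n) => (w : G)) e)))
    rw [← h1]
    exact Nat.Coprime.mul_left (H.R_three.coprime_dvd_left hk) hK
  have hAn : AA P y t2 ≤ normalizer (P' : Set G) := fun x hx => by
    obtain ⟨v, rfl⟩ := (H.crd.mem x).1 hx
    refine Subgroup.mem_normalizer_fintype ?_
    rintro _ ⟨c, hc, rfl⟩
    refine ⟨⟨ψ v, H.A_NN (H.mem v)⟩ * c * ⟨ψ v, H.A_NN (H.mem v)⟩⁻¹, ?_, rfl⟩
    show pn t2 (Rd L2 b n) _ ∈ M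
    rw [map_mul, map_mul, map_inv]
    exact (mem_normalizer_iff.1 (hMn ⟨H.qv v, H.qv_cent v⟩ (hn (H.mem_JY.2 ⟨v, rfl⟩))) _).1 hc
  have hle := H.nrm.sig P' ((map_subtype_le _).trans inf_le_left) hcard hAn
  have hM1 : M = ⊥ := by
    refine eq_bot_iff.2 fun x hx => mem_bot.2 ?_
    obtain ⟨c, rfl⟩ := QuotientGroup.mk'_surjective _ x
    exact pn_eq_one.2 (hle ⟨c, hx, rfl⟩)
  rw [hM1, card_bot] at hMc
  exact Subgroup.card_eq_one.1 hMc.symm

theorem not_inverted (x : XX H.σb) : x * H.yv (zt 0) * x⁻¹ ≠ (H.yv (zt 0))⁻¹ := by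
  intro e
  obtain ⟨c, rfl⟩ := pr_surj H.σb x
  rw [← H.yv_neg] at e
  have e' := e.symm
  unfold yv at e'
  rw [← map_inv, ← map_mul, ← map_mul] at e'
  obtain ⟨k, hk⟩ := H.yv_eq (v := -zt 0) e'
  push_cast at hk
  obtain rfl := H.mem_conj_z (ε := true) (H.pt_image hk.symm)
  rw [zero_smul, add_zero] at hk
  have hcσ := mem_centralizer_singleton_iff.1 c.2
  obtain ⟨c0, hc0⟩ := QuotientGroup.mk'_surjective _ (c : NB t2 (Rd L2 b n))
  rw [← hc0] at hk hcσ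
  obtain ⟨ρ, hρ, hc⟩ := exists_lift_cent H.R_three (a := ⟨ψ sg, H.A_NN (H.mem sg)⟩) (g := c0) (H.cube _) hcσ
  set g' := (c0 : G) * ρ with hg'
  have hgN : g' ∈ NN t2 (Rd L2 b n) := mul_mem c0.2 (H.Rd_NN hρ)
  have hsame : pn _ _ ⟨g', hgN⟩ = pn _ _ c0 := QuotientGroup.eq.2 (mem_subgroupOf.2 (by
    show g'⁻¹ * (c0 : G) ∈ Rd L2 b n
    rw [hg', show ((c0 : G) * ρ)⁻¹ * (c0 : G) = ρ⁻¹ by group]; exact inv_mem hρ))
  rw [← hsame] at hk
  unfold qv at hk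
  rw [← map_inv, ← map_mul, ← map_mul] at hk
  have h1 := pn_eq hk
  push_cast at h1
  rw [H.neg, inv_inv, H.crd.z_eq] at h1
  -- `z` times a conjugate of `z` by `g'`
  have hcg : Commute g' (ψ sg) := hc
  have hcz : Commute z (ψ sg) := H.duo.data.A_comm H.z_A (H.mem sg)
  have hfix := H.rad.fix sg (by decide) _ h1
    ((hcz.mul_left ((hcg.mul_left hcz).mul_left hcg.inv_left)).eq)
  set w := g' * z * g'⁻¹ with hw
  obtain ⟨j, hj⟩ := mem_zpowers_iff.1 hfix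
  have ew : w = z⁻¹ * t2 ^ j := by rw [hj, inv_mul_cancel_left]
  have hzt : Commute z⁻¹ (t2 ^ j) :=
    ((show Commute z t2 from mem_centralizer_singleton_iff.1 (mem_inf.1 H.z_A).2).inv_left).zpow_right j
  have h3 : (t2 ^ j) ^ 3 = 1 := by
    have : w ^ 3 = 1 := by rw [hw, conj_pow, H.duo.data.A_exp H.z_A, mul_one, mul_inv_cancel]
    rw [ew, hzt.mul_pow, inv_pow, H.duo.data.A_exp H.z_A, inv_one, one_mul] at this
    exact this
  have h2 : (t2 ^ j) ^ 2 = 1 := by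
    rw [← zpow_natCast, ← zpow_mul, mul_comm, zpow_mul, zpow_natCast, pow_two t2, H.duo.data.t2_sq, one_zpow]
  have ht : t2 ^ j = 1 := by
    rw [pow_succ, h2, one_mul] at h3
    exact h3
  rw [ht, mul_one] at ew
  -- no inverter of `z` centralises `σ`
  have hgZ : g' ∈ normalizer (Z : Set G) := by
    refine Subgroup.mem_normalizer_fintype fun u hu => ?_
    obtain ⟨j, rfl⟩ := mem_zpowers_iff.1
      ((zpowers_eq_of_prime H.setting.Z_card H.duo.data.z_mem H.duo.data.z_ne).ge hu)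
    rw [SetLike.mem_coe, ← conj_zpow, ← hw, ew]
    exact zpow_mem (inv_mem H.duo.data.z_mem) j
  have hgt : g' * t2 = t2 * g' := mem_centralizer_singleton_iff.1 (mem_inf.1 hgN).1
  set e0 : Ex := sg - zt 0 with he0
  have hx : ψ e0 ∈ centralizer (Z : Set G) := H.duo.data.A_le_C (H.mem _)
  have hnt : ¬ Triv Z Q2 (ψ e0) := fun ht => absurd ((H.crd.triv2 _).1 ht) (by decide)
  have hconj : g' * ψ e0 * g'⁻¹ = ψ e0 * (z * z) := by
    have h0 : ψ e0 = ψ sg * z⁻¹ := by rw [he0, sub_eq_add_neg, H.crd.add, H.neg, H.crd.z_eq]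
    rw [h0, show g' * (ψ sg * z⁻¹) * g'⁻¹ = (g' * ψ sg * g'⁻¹) * (g' * z * g'⁻¹)⁻¹ by group, ← hw, ew, inv_inv,
      hcg.eq, mul_inv_cancel_right]
    group
  refine no_inverter H.frame.symm (H.frame.normalizer_le_normalizer_Q hgZ) H.duo.data.z_mem H.duo.data.z_ne ew hx
    H.duo.data.flag2.mem H.duo.data.flag2.notZ ?_ hnt ((H.crd.triv1 e0).2 (by decide)) fun u hu => ?_
  · exact H.duo.data.flag2.fix _ (H.duo.data.A_le_P (H.mem _))
  · have hzu : Commute (z * z) u := by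
      have := H.setting.comm_Z hu H.duo.data.z_mem
      exact (show Commute z u from this).mul_left this
    rw [hconj, show ψ e0 * (z * z) * u * (ψ e0 * (z * z))⁻¹ = ψ e0 * ((z * z) * u * (z * z)⁻¹) * (ψ e0)⁻¹ by group,
      hzu.eq, mul_inv_cancel_right, inv_mul_cancel]
    exact one_mem _

theorem exists_loc : ∃ φ, Loc (H.yv (zt 0)) H.RY H.JY false true φ := by
  classical
  obtain ⟨ci, cd, φ, L⟩ := exists_loc_of_data H.centData H.jData H.sigY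
  cases ci
  swap
  · exfalso
    obtain ⟨w, hw, hwn⟩ := real_w cd
    have h1 := L.act' (p := wM w) hw (1, 1, 1)
    rw [show (wM w : Mn).w = w from rfl, hwn, L.jneg, L.a_eq] at h1
    exact H.not_inverted _ h1
  cases cd
  swap
  · exact ⟨φ, L⟩
  exfalso
  obtain ⟨v, hv⟩ := (L.memJ _).1 (H.mem_JY.2 ⟨zt 1, rfl⟩)
  set nC : ↥(NN t2 (Rd L2 b n)) := ⟨n, mem_inf.2 ⟨mem_centralizer_singleton_iff.2 H.duo.n_t2,
    H.rad.norm_A (mem_inf.2 ⟨H.duo.n_A, mem_centralizer_singleton_iff.2 H.duo.n_t2⟩)⟩⟩ with hnC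
  have hact : ∀ v, pn _ _ nC * H.qv v * (pn _ _ nC)⁻¹ = H.qv (pm (Equiv.swap 0 1) v) := fun v => by
    unfold qv
    rw [← map_inv, ← map_mul, ← map_mul]
    exact congrArg _ (Subtype.ext (H.crd.n_act v))
  have hnσ : pn _ _ nC ∈ centralizer ({H.σb} : Set (NB t2 (Rd L2 b n))) :=
    mem_centralizer_singleton_iff.2 (mul_inv_eq_iff_eq_mul.1 (hact sg))
  have hn1 : pr H.σb ⟨_, hnσ⟩ * φ (jM (1, 1, 1)) * (pr H.σb ⟨_, hnσ⟩)⁻¹ = φ (jM v) := by
    rw [hv, L.a_eq]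
    unfold yv
    rw [← map_inv, ← map_mul, ← map_mul]
    refine congrArg _ (Subtype.ext ?_)
    have := hact (zt 0)
    rwa [pm_zt, Equiv.swap_apply_left] at this
  obtain ⟨p, hp, hpv⟩ := L.fus (1, 1, 1) v _ hn1
  rcases cd_false_fix false p.w hp with h | h <;> rw [← hpv, h] at hv
  · rw [L.a_eq] at hv
    obtain ⟨k, hk⟩ := H.yv_eq_yv hv
    exact (zt_one_line k).1 hk.symm
  · rw [L.jneg, L.a_eq, ← H.yv_neg] at hv
    obtain ⟨k, hk⟩ := H.yv_eq_yv hv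
    exact (zt_one_line k).2 hk.symm

/-- `C(σ)/⟨σ⟩` is `PSp₄(3)`. -/
theorem exists_psp : Nonempty (XX H.σb ≃* Cfsg.PSp 2 (ZMod 3)) := by
  haveI : Fact (Nat.Prime 3) := ⟨Nat.prime_three⟩
  obtain ⟨φ, L⟩ := H.exists_loc
  exact psp_of_four L (ZMod 3) (ZMod.card 3)

theorem card_XX : Nat.card (XX H.σb) = 25920 := by
  haveI : Fact (Nat.Prime 3) := ⟨Nat.prime_three⟩
  obtain ⟨e⟩ := H.exists_psp
  rw [Nat.card_congr e.toEquiv]
  have h := Subgroup.card_eq_card_quotient_mul_card_subgroup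
    (Subgroup.center (Matrix.symplecticGroup (Fin 2) (ZMod 3)))
  rw [Cfsg.Agent.Classical.Symplectic.natCard_sp, Cfsg.Agent.Classical.Symplectic.natCard_center (by norm_num),
    ZMod.card] at h
  norm_num [Finset.prod_range_succ] at h
  change Nat.card (Matrix.symplecticGroup (Fin 2) (ZMod 3) ⧸ Subgroup.center _) = 25920
  omega

theorem simple_XX : IsSimpleGroup (XX H.σb) := by
  haveI : Fact (Nat.Prime 3) := ⟨Nat.prime_three⟩
  obtain ⟨e⟩ := H.exists_psp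
  haveI : IsSimpleGroup (Cfsg.PSp 2 (ZMod 3)) :=
    Cfsg.Agent.Classical.Symplectic.isSimpleGroup_PSp le_rfl fun _ => ⟨2, by decide +revert, by decide +revert⟩
  haveI : Nontrivial (XX H.σb) := e.toEquiv.nontrivial
  exact IsSimpleGroup.isSimpleGroup_of_surjective e.symm.toMonoidHom e.symm.surjective

theorem card_CB : Nat.card ↥(centralizer ({H.σb} : Set (NB t2 (Rd L2 b n)))) = 77760 := by
  have hle : zpowers H.σb ≤ centralizer ({H.σb} : Set (NB t2 (Rd L2 b n))) :=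
    zpowers_le.2 (mem_centralizer_singleton_iff.2 rfl)
  rw [Subgroup.card_eq_card_quotient_mul_card_subgroup
    ((zpowers H.σb).subgroupOf (centralizer ({H.σb} : Set (NB t2 (Rd L2 b n))))), show
    Nat.card (↥(centralizer ({H.σb} : Set (NB t2 (Rd L2 b n)))) ⧸ _) = 25920 from H.card_XX,
    Nat.card_congr (subgroupOfEquivOfLe hle).toEquiv, Nat.card_zpowers, H.σb_order]

end Qd

end Cfsg.Agent.UThreeLocal.Big.Local
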