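import Cfsg.Agent.Lib.UThreeLocal.Big.Local.QuoFuse
import Cfsg.Agent.Lib.UThreeLocal.Big.Local.Form

/-!
# The image of `⟨σ⟩` is normal

The number of conjugates is congruent to one modulo `27` and divides `4480`, so it is `1` or `28`; with `28`
the group `PSp₄(3)` would act on nine points, where no element of order three has a centralizer of order
divisible by `648`.
-/

set_option autoImplicit false
set_option linter.unusedSectionVars false
set_option linter.style.haveILetI false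
set_option maxRecDepth 100000
set_option synthInstance.maxSize 10000

namespace Cfsg.Agent.UThreeLocal.Big.Local

open Subgroup MulAction
open Cfsg.Agent.UThreeLocal.Cand (NN NB pn pn_eq_one XX pr pr_eq_one pr_surj zp_cases)

universe u

/-- The points other than a fixed one lie in orbits of length divisible by `m`. -/
theorem dvd_card_sub_one {S X : Type*} [Group S] [MulAction S X] [Finite X] {m : ℕ} {x0 : X}
    (h0 : ∀ s : S, s • x0 = x0) (h : ∀ x, x ≠ x0 → m ∣ Nat.card ↥(orbit S x)) : m ∣ Nat.card X - 1 := by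
  classical
  let o : Quotient (orbitRel S X) := Quotient.mk _ x0
  haveI : Fintype (Quotient (orbitRel S X)) := Fintype.ofFinite _
  have hout : ∀ ω : Quotient (orbitRel S X), ω ≠ o → ω.out ≠ x0 := fun ω hω e =>
    hω (by rw [← Quotient.out_eq ω, e])
  have ho : Nat.card ↥(orbit S o.out) = 1 := by
    obtain ⟨s, hs⟩ : o.out ∈ orbit S x0 := (Quotient.mk_out (s := orbitRel S X) x0 :)
    have he : o.out = x0 := hs.symm.trans (h0 s)
    rw [he]
    haveI : Subsingleton ↥(orbit S x0) := ⟨fun a c => by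
      obtain ⟨s, hs⟩ := a.2
      obtain ⟨t, ht⟩ := c.2
      exact Subtype.ext ((hs.symm.trans (h0 s)).trans (ht.symm.trans (h0 t)).symm)⟩
    exact Nat.card_of_subsingleton (⟨x0, mem_orbit_self x0⟩ : ↥(orbit S x0))
  rw [Nat.card_congr (selfEquivSigmaOrbits S X), Nat.card_sigma,
    ← Finset.add_sum_erase _ _ (Finset.mem_univ o), ho, Nat.add_sub_cancel_left]
  exact Finset.dvd_sum fun ω hω => h _ (hout ω (Finset.ne_of_mem_erase hω))

theorem index_cases : ∀ n ∈ Nat.divisors 4480, n % 27 = 1 → n = 1 ∨ n = 28 := by decide +kernel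

/-- An element of odd order inverting an element of order three does not exist. -/
theorem cent_of_odd {G : Type*} [Group G] {s x : G} (hs : s ^ 243 = 1) (hx : x ^ 3 = 1)
    (h : s * x * s⁻¹ = x ∨ s * x * s⁻¹ = x⁻¹) : Commute s x := by
  rcases h with h | h
  · exact mul_inv_eq_iff_eq_mul.1 h
  have h2 : Commute (s * s) x := mul_inv_eq_iff_eq_mul.1 (by
    calc s * s * x * (s * s)⁻¹ = s * (s * x * s⁻¹) * s⁻¹ := by group
      _ = s * x⁻¹ * s⁻¹ := by rw [h]
      _ = (s * x * s⁻¹)⁻¹ := by group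
      _ = x := by rw [h, inv_inv])
  have e : s = ((s * s) ^ 121)⁻¹ := by
    refine eq_inv_of_mul_eq_one_left ?_
    rw [← pow_two, ← pow_mul, ← pow_succ']
    exact hs
  exact e ▸ (h2.pow_left 121).inv_left

variable {G : Type u} [Group G] [Finite G]

/-- No element of order three of a group of degree nine has a centralizer of order divisible by `648`. -/
theorem no_centralizer {α : Type*} [Fintype α] [DecidableEq α] (hα : Fintype.card α = 9) {g : Equiv.Perm α}
    (hg : orderOf g = 3) : ¬ 648 ∣ Nat.card ↥(centralizer ({g} : Set (Equiv.Perm α))) := by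
  obtain ⟨k, hk⟩ := Equiv.Perm.cycleType_prime_order (σ := g) (hg.symm ▸ Nat.prime_three)
  rw [hg] at hk
  have hsum := g.sum_cycleType_le
  rw [hk, Multiset.sum_replicate, hα, smul_eq_mul] at hsum
  rw [Equiv.Perm.nat_card_centralizer, hk, hα]
  have hk' : k ≤ 2 := by omega
  interval_cases k <;> decide

namespace Qd

variable {Z Q Q1 Q2 L1 L2 P W : Subgroup G} {t1 t2 z y g d a n b : G} {ψ : Ex → G}
  (H : Qd Z Q Q1 Q2 L1 L2 P W t1 t2 z y g d a n b ψ)
include H

theorem card_NB_dvd : Nat.card (NB t2 (Rd L2 b n)) ∣ 348364800 := by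
  choose x y hxx hyy hxy hgen using H.rad.quat
  have hmx : ∀ i, x i ∈ Lv L2 b n i := fun i => (hgen i).ge (subset_closure (Set.mem_insert _ _))
  have hmy : ∀ i, y i ∈ Lv L2 b n i := fun i => (hgen i).ge (subset_closure (Set.mem_insert_of_mem _ rfl))
  have hR : closure (Set.range x ∪ Set.range y) = Rd L2 b n := by
    refine le_antisymm ((closure_le _).2 ?_) ?_
    · rintro _ (⟨i, rfl⟩ | ⟨i, rfl⟩)
      · exact H.rad.Lv_le i (hmx i)
      · exact H.rad.Lv_le i (hmy i)
    · have hi : ∀ i, Lv L2 b n i ≤ closure (Set.range x ∪ Set.range y) := fun i => by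
        rw [hgen i, closure_le]
        rintro w (rfl | rfl)
        · exact subset_closure (Or.inl ⟨i, rfl⟩)
        · exact subset_closure (Or.inr ⟨i, rfl⟩)
      exact sup_le (sup_le (sup_le (hi 0) (hi 1)) (hi 2)) (hi 3)
  exact card_quot_dvd H.frame.t2_two (Rd L2 b n) (NN t2 (Rd L2 b n)) x y hxx hyy hxy
    (fun i j hij => ⟨H.rad.comm i j hij _ (hmx i) _ (hmx j), H.rad.comm i j hij _ (hmx i) _ (hmy j),
      H.rad.comm i j hij _ (hmy i) _ (hmy j)⟩)
    hR H.rad.card H.nrm.cent_R H.Rd_NN (inf_comm (centralizer ({t2} : Set G)) _).le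

/-- The normalizer of the image of `⟨σ⟩`. -/
def Nσ : Subgroup (NB t2 (Rd L2 b n)) := normalizer (zpowers H.σb : Set (NB t2 (Rd L2 b n)))

theorem mem_Nσ {x : NB t2 (Rd L2 b n)} :
    x ∈ H.Nσ ↔ x * H.σb * x⁻¹ = H.σb ∨ x * H.σb * x⁻¹ = H.σb⁻¹ := by
  constructor
  · intro hx
    rcases zp_cases (by rw [Nat.card_zpowers, H.σb_order]) (mem_zpowers _) H.σb_ne
      ((mem_normalizer_iff.1 hx _).1 (mem_zpowers _)) with e | e | e
    · exact absurd (conj_eq_one_iff.1 e) H.σb_ne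
    · exact Or.inl e
    · exact Or.inr e
  · intro hx
    refine Subgroup.mem_normalizer_fintype fun w hw => ?_
    obtain ⟨i, rfl⟩ := mem_zpowers_iff.1 hw
    rw [SetLike.mem_coe, ← conj_zpow]
    rcases hx with e | e <;> rw [e]
    · exact zpow_mem (mem_zpowers _) i
    · exact zpow_mem (inv_mem (mem_zpowers _)) i

theorem CB_le : centralizer ({H.σb} : Set (NB t2 (Rd L2 b n))) ≤ H.Nσ := fun x hx =>
  H.mem_Nσ.2 (Or.inl (by rw [mem_centralizer_singleton_iff.1 hx, mul_inv_cancel_right]))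

theorem qS_pow {s : NB t2 (Rd L2 b n)} (hs : s ∈ H.qS) : s ^ 243 = 1 := by
  have := pow_card_eq_one' (x := (⟨s, hs⟩ : ↥H.qS))
  rw [H.card_qS] at this
  simpa using congrArg Subtype.val this

theorem fixed_point {s c : NB t2 (Rd L2 b n)} (hs : s ^ 243 = 1)
    (h : (↑(s * c) : NB t2 (Rd L2 b n) ⧸ H.Nσ) = ↑c) : Commute s (c * H.σb * c⁻¹) := by
  have h1 : c⁻¹ * s * c ∈ H.Nσ := by
    simpa [mul_assoc] using QuotientGroup.eq.1 h.symm
  have h2 : Commute (c⁻¹ * s * c) H.σb := cent_of_odd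
    (by rw [show c⁻¹ * s * c = c⁻¹ * s * c⁻¹⁻¹ by group, conj_pow, hs, mul_one, mul_inv_cancel])
    (H.qv_cube sg) (H.mem_Nσ.1 h1)
  simpa [mul_assoc] using h2.conj c

theorem orbit_qS (c : NB t2 (Rd L2 b n)) (hc : (↑c : NB t2 (Rd L2 b n) ⧸ H.Nσ) ≠ ↑(1 : NB t2 (Rd L2 b n))) :
    27 ∣ Nat.card ↥(orbit ↥H.qS (↑c : NB t2 (Rd L2 b n) ⧸ H.Nσ)) := by
  classical
  have hne : ¬ (c * H.σb * c⁻¹ = H.σb ∨ c * H.σb * c⁻¹ = H.σb⁻¹) := fun h => hc <| by
    refine QuotientGroup.eq.2 ?_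
    rw [mul_one, inv_mem_iff]
    exact H.mem_Nσ.2 h
  set U := stabilizer ↥H.qS (↑c : NB t2 (Rd L2 b n) ⧸ H.Nσ) with hU
  have hle : Nat.card ↥U ≤ 9 := by
    refine le_trans ?_ (H.card_stab ⟨c, rfl⟩ hne)
    refine Nat.card_le_card_of_injective (fun s : ↥U => (⟨((s : ↥H.qS) : NB t2 (Rd L2 b n)), mem_inf.2
      ⟨s.1.2, mem_centralizer_singleton_iff.2 (H.fixed_point (H.qS_pow s.1.2) ?_).eq⟩⟩ :
      ↥(H.qS ⊓ centralizer ({c * H.σb * c⁻¹} : Set (NB t2 (Rd L2 b n)))))) fun s t e => ?_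
    · exact s.2
    · exact Subtype.ext (Subtype.ext (congrArg (fun q => q.1) e :))
  have hmul := U.card_mul_index
  rw [H.card_qS] at hmul
  obtain ⟨k, hk, ek⟩ := (Nat.dvd_prime_pow Nat.prime_three).1
    (show Nat.card ↥U ∣ 3 ^ 5 from Dvd.intro _ (hmul.trans (by norm_num)))
  have hidx : Nat.card ↥(orbit ↥H.qS (↑c : NB t2 (Rd L2 b n) ⧸ H.Nσ)) = U.index := by
    rw [hU, index_stabilizer]; exact Nat.card_coe_set_eq _
  rw [hidx]
  rw [ek] at hle hmul
  interval_cases k <;> omega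

theorem index_dvd : H.Nσ.index ∣ 4480 := by
  have h1 : 77760 ∣ Nat.card ↥H.Nσ := H.card_CB ▸ card_dvd_of_le H.CB_le
  have h2 := H.Nσ.card_mul_index
  have h3 : 77760 * H.Nσ.index ∣ 77760 * 4480 :=
    (Nat.mul_dvd_mul_right h1 _).trans (by rw [h2]; exact H.card_NB_dvd)
  exact Nat.dvd_of_mul_dvd_mul_left (by norm_num) h3

theorem index_mod : H.Nσ.index % 27 = 1 := by
  classical
  have h := dvd_card_sub_one (S := ↥H.qS) (X := NB t2 (Rd L2 b n) ⧸ H.Nσ) (m := 27)
    (x0 := ↑(1 : NB t2 (Rd L2 b n))) (fun s => QuotientGroup.eq.2 (by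
      show ((s : NB t2 (Rd L2 b n)) * 1)⁻¹ * 1 ∈ H.Nσ
      rw [mul_one, mul_one]
      exact inv_mem (H.CB_le (H.qS_cent s.2)))) fun ω hω => by
      obtain ⟨c, rfl⟩ := QuotientGroup.mk_surjective ω
      exact H.orbit_qS c hω
  rw [← Subgroup.index_eq_card] at h
  have hpos : H.Nσ.index ≠ 0 := Subgroup.index_ne_zero_of_finite
  omega

theorem not_twenty_eight : H.Nσ.index ≠ 28 := by
  classical
  intro h28
  set CB := centralizer ({H.σb} : Set (NB t2 (Rd L2 b n))) with hCB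
  set x0 : NB t2 (Rd L2 b n) ⧸ H.Nσ := ↑(1 : NB t2 (Rd L2 b n)) with hx0
  obtain ⟨ω, hω⟩ : ∃ ω : NB t2 (Rd L2 b n) ⧸ H.Nσ, ω ≠ x0 := by
    by_contra hc
    push Not at hc
    haveI : Subsingleton (NB t2 (Rd L2 b n) ⧸ H.Nσ) := ⟨fun p q => (hc p).trans (hc q).symm⟩
    have := Nat.card_of_subsingleton x0
    rw [← Subgroup.index_eq_card, h28] at this
    omega
  have hfix : ∀ s : ↥CB, s • x0 = x0 := fun s => QuotientGroup.eq.2 (by
    show ((s : NB t2 (Rd L2 b n)) * 1)⁻¹ * 1 ∈ H.Nσ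
    rw [mul_one, mul_one]
    exact inv_mem (H.CB_le s.2))
  set U := stabilizer ↥CB ω with hU
  have hidx : U.index = 27 := by
    have hup : U.index ≤ 27 := by
      rw [hU, index_stabilizer]
      have hs : orbit ↥CB ω ⊆ {x0}ᶜ := by
        rintro _ ⟨s, rfl⟩ hs
        refine hω ?_
        have : s⁻¹ • (s • ω) = s⁻¹ • x0 := congrArg (s⁻¹ • ·) hs
        rwa [inv_smul_smul, hfix] at this
      refine (Set.ncard_le_ncard hs).trans ?_
      rw [Set.ncard_compl, Set.ncard_singleton, ← Subgroup.index_eq_card, h28]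
    have hlow : 27 ≤ U.index := by
      rw [hU, index_stabilizer]
      obtain ⟨c, rfl⟩ := QuotientGroup.mk_surjective ω
      have hsub : orbit ↥H.qS (↑c : NB t2 (Rd L2 b n) ⧸ H.Nσ) ⊆ orbit ↥CB ↑c := by
        rintro _ ⟨s, rfl⟩
        exact ⟨⟨s.1, H.qS_cent s.2⟩, rfl⟩
      have h27 := H.orbit_qS c hω
      rw [show Nat.card ↥(orbit ↥H.qS (↑c : NB t2 (Rd L2 b n) ⧸ H.Nσ)) = _ from Nat.card_coe_set_eq _] at h27
      exact (Nat.le_of_dvd ((Set.ncard_pos).2 ⟨_, mem_orbit_self _⟩) h27).trans (Set.ncard_le_ncard hsub)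
    omega
  set s : ↥CB := ⟨H.σb, mem_centralizer_singleton_iff.2 rfl⟩ with hs
  have hsU : s ∉ U := by
    intro hm
    obtain ⟨c, rfl⟩ := QuotientGroup.mk_surjective ω
    have hc : Commute H.σb (c * H.σb * c⁻¹) := H.fixed_point (H.qS_pow (mem_sup_left (H.qA_qv sg))) hm
    exact hω (QuotientGroup.eq.2 (by
      rw [mul_one, inv_mem_iff]
      exact H.mem_Nσ.2 (H.conj_CB ⟨c, rfl⟩ (mem_centralizer_singleton_iff.2 hc.symm.eq))))
  set K := (zpowers H.σb).subgroupOf CB with hK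
  have hK3 : Nat.card ↥K = 3 := by
    rw [hK, Nat.card_congr (subgroupOfEquivOfLe (zpowers_le.2 (mem_centralizer_singleton_iff.2 rfl) :
      zpowers H.σb ≤ CB)).toEquiv, Nat.card_zpowers, H.σb_order]
  have hKU : K ⊓ U = ⊥ := by
    rcases (Nat.dvd_prime Nat.prime_three).1 (hK3 ▸ card_dvd_of_le (inf_le_left : K ⊓ U ≤ K)) with e | e
    · exact Subgroup.card_eq_one.1 e
    · exact absurd ((Subgroup.eq_of_le_of_card_ge (inf_le_left : K ⊓ U ≤ K) (by rw [hK3, e])).ge
        (mem_subgroupOf.2 (mem_zpowers H.σb) : s ∈ K)).2 hsU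
  have hidx' : (K ⊔ U).index = 9 := by
    have h1 := card_sup_mul_inf (A := K) (B := U) (by rw [Subgroup.normalizer_eq_top]; exact le_top)
    rw [hKU, card_bot, mul_one, hK3] at h1
    have h2 := (K ⊔ U).card_mul_index
    have h3 := U.card_mul_index
    rw [hidx, H.card_CB] at h3
    rw [h1, H.card_CB] at h2
    have hUc : Nat.card ↥U = 2880 := by omega
    rw [hUc] at h2
    omega
  set H' := (K ⊔ U).map (pr H.σb) with hH'
  have hH9 : H'.index = 9 := by
    rw [hH', Subgroup.index_map_eq _ (pr_surj H.σb) (by rw [QuotientGroup.ker_mk']; exact le_sup_left), hidx']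
  haveI := H.simple_XX
  let f : XX H.σb →* Equiv.Perm (XX H.σb ⧸ H') := MulAction.toPermHom _ _
  have hinj : Function.Injective f := by
    refine (MonoidHom.ker_eq_bot_iff f).1 ((IsSimpleGroup.eq_bot_or_eq_top_of_normal f.ker inferInstance).resolve_right
      fun htop => ?_)
    have : H' = ⊤ := by
      refine eq_top_iff.2 fun x _ => ?_
      have h1 : f x = 1 := MonoidHom.mem_ker.1 (htop.ge (mem_top x))
      have h2 : ((x * 1 : XX H.σb) : XX H.σb ⧸ H') = ↑(1 : XX H.σb) :=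
        congrArg (fun e : Equiv.Perm (XX H.σb ⧸ H') => e ↑(1 : XX H.σb)) h1
      have h3 := QuotientGroup.eq.1 h2
      rwa [mul_one, mul_one, inv_mem_iff] at h3
    rw [this, Subgroup.index_top] at hH9
    omega
  haveI : Fintype (XX H.σb ⧸ H') := Fintype.ofFinite _
  have hcard : Fintype.card (XX H.σb ⧸ H') = 9 := by
    rw [← Nat.card_eq_fintype_card, ← Subgroup.index_eq_card, hH9]
  have hCD := H.centData
  have ho : orderOf (f (H.yv (zt 0))) = 3 := by rw [orderOf_injective f hinj, hCD.order]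
  refine no_centralizer hcard ho ?_
  have hdvd : Nat.card ↥((centralizer ({H.yv (zt 0)} : Set (XX H.σb))).map f) ∣
      Nat.card ↥(centralizer ({f (H.yv (zt 0))} : Set (Equiv.Perm (XX H.σb ⧸ H')))) := by
    refine card_dvd_of_le ?_
    rintro _ ⟨w, hw, rfl⟩
    exact mem_centralizer_singleton_iff.2
      (((show Commute w (H.yv (zt 0)) from mem_centralizer_singleton_iff.1 hw).map f).eq)
  rw [card_map_of_injective hinj, hCD.card] at hdvd
  exact hdvd

/-- The image of `⟨σ⟩` is normal. -/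
theorem σb_normal (x : NB t2 (Rd L2 b n)) : x * H.σb * x⁻¹ = H.σb ∨ x * H.σb * x⁻¹ = H.σb⁻¹ := by
  rcases index_cases _ (Nat.mem_divisors.2 ⟨H.index_dvd, by norm_num⟩) H.index_mod with e | e
  · exact H.mem_Nσ.1 ((Subgroup.index_eq_one.1 e).ge (mem_top x))
  · exact absurd e H.not_twenty_eight

end Qd

end Cfsg.Agent.UThreeLocal.Big.Local
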