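import Cfsg.Agent.Lib.UThreeLocal.Big.Local.QuoSplit

/-!
# Conjugates of the image of `σ`

In the image of `Q₁A` the only conjugates of the image of `σ` are itself and its inverse, and another
conjugate is centralised there by at most nine elements.
-/

set_option autoImplicit false
set_option linter.unusedSectionVars false
set_option linter.style.haveILetI false
set_option maxRecDepth 100000
set_option synthInstance.maxSize 10000

namespace Cfsg.Agent.UThreeLocal.Big.Local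

open Subgroup
open Cfsg.Agent.UThreeLocal.Cand (NN NB pn pn_eq_one pn_eq zp_cases)

universe u

theorem cyc_orbit : ∀ i : Fin 3, i ≠ 0 →
    (1 : Fin 4) ≠ (cyc ^ (i : ℕ)) 1 ∧ (1 : Fin 4) ≠ (cyc ^ (i : ℕ)) ((cyc ^ (i : ℕ)) 1) ∧
    (cyc ^ (i : ℕ)) 1 ≠ (cyc ^ (i : ℕ)) ((cyc ^ (i : ℕ)) 1) ∧
    (cyc ^ (i : ℕ)) ((cyc ^ (i : ℕ)) ((cyc ^ (i : ℕ)) 1)) = 1 := by decide +kernel

theorem ex_basis : ∀ v : Ex, v = v 0 • (![1, 0, 0, 0] : Ex) + v 1 • (![0, 1, 0, 0] : Ex) +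
    v 2 • (![0, 0, 1, 0] : Ex) + v 3 • (![0, 0, 0, 1] : Ex) := by decide +kernel

theorem W_dec : ∀ v : Ex, v 0 = 0 → v 1 = 0 →
    v = v 2 • (![0, 0, 1, 0] : Ex) + v 3 • (![0, 0, 0, 1] : Ex) := by decide +kernel

theorem sg_zero : ∀ (π : Equiv.Perm (Fin 4)) (ε : ZMod 3) (v : Ex), (ε = 1 ∨ ε = -1) → ε • pm π v = sg →
    v = sg ∨ v = -sg := by
  intro π ε v hε h
  have h' : pm π v = ε • sg := by
    rw [← h, smul_smul]
    rcases hε with e | e <;> rw [e] <;> norm_num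
  have hv : v = ε • sg := by
    have := congrArg (pm π⁻¹) h'
    rwa [← pm_comp, inv_mul_cancel, pm_smul, pm_sg] at this
  rcases hε with e | e <;> rw [hv, e]
  · exact Or.inl (one_smul _ _)
  · exact Or.inr (neg_one_smul _ _)

variable {G : Type u} [Group G] [Finite G]

namespace Qd

variable {Z Q Q1 Q2 L1 L2 P W : Subgroup G} {t1 t2 z y g d a n b : G} {ψ : Ex → G}
  (H : Qd Z Q Q1 Q2 L1 L2 P W t1 t2 z y g d a n b ψ)
include H

theorem b_pow_act (i : ℕ) (v : Ex) : b ^ i * ψ v * (b ^ i)⁻¹ = ψ (pm (cyc ^ i) v) := by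
  induction i generalizing v with
  | zero => simp [show pm 1 v = v from rfl]
  | succ i ih =>
    rw [pow_succ, pow_succ, pm_comp, ← ih, ← H.crd.b_act]
    group

/-- A conjugate of the image of `σ` in the image of `Q₁A`. -/
theorem conj_S {x : NB t2 (Rd L2 b n)} (hc : ∃ c, c * H.σb * c⁻¹ = x) (hx : x ∈ H.qS) :
    x = H.σb ∨ x = H.σb⁻¹ := by
  classical
  obtain ⟨c, hc⟩ := hc
  by_cases hxA : x ∈ H.qA
  · obtain ⟨v, rfl⟩ := H.mem_qA.1 hxA
    set T := H.qA.map (MulAut.conj c⁻¹).toMonoidHom with hT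
    have hTC : T ≤ centralizer ({H.σb} : Set (NB t2 (Rd L2 b n))) := by
      rintro _ ⟨w, hw, rfl⟩
      obtain ⟨u, rfl⟩ := H.mem_qA.1 hw
      refine mem_centralizer_singleton_iff.2 ?_
      have h1 := (show Commute (H.qv u) (H.qv v) from H.qv_comm u v).conj c⁻¹
      rw [← hc, show c⁻¹ * (c * H.σb * c⁻¹) * c⁻¹⁻¹ = H.σb by group] at h1
      exact h1.eq
    have hT81 : Nat.card ↥T = 81 := by
      rw [hT, card_map_of_injective (MulAut.conj c⁻¹).injective, H.card_qA]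
    obtain ⟨e, he, heS⟩ := conj_into H.qS_cent hTC (IsPGroup.of_card (p := 3) (n := 4) (by rw [hT81]; norm_num))
      H.card_qS H.card_CB.dvd
    have hEq : T.map (MulAut.conj e).toMonoidHom = H.qA := by
      refine H.abelian_unique ?_ ?_ (by rw [card_map_of_injective (MulAut.conj e).injective, hT81])
      · rintro _ ⟨w, hw, rfl⟩; exact heS w hw
      · rintro _ ⟨_, ⟨p, hp, rfl⟩, rfl⟩ _ ⟨_, ⟨q, hq, rfl⟩, rfl⟩
        obtain ⟨p', rfl⟩ := H.mem_qA.1 hp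
        obtain ⟨q', rfl⟩ := H.mem_qA.1 hq
        exact (((show Commute (H.qv p') (H.qv q') from H.qv_comm p' q').map
          (MulAut.conj c⁻¹).toMonoidHom).map (MulAut.conj e).toMonoidHom).eq
    have hN : e * c⁻¹ ∈ normalizer (H.qA : Set (NB t2 (Rd L2 b n))) := by
      refine Subgroup.mem_normalizer_fintype fun w hw => ?_
      rw [← hEq]
      exact ⟨_, ⟨w, hw, rfl⟩, show e * (c⁻¹ * w * c⁻¹⁻¹) * e⁻¹ = e * c⁻¹ * w * (e * c⁻¹)⁻¹ by group⟩
    obtain ⟨e', he', heA⟩ := H.lift_norm hN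
    obtain ⟨ε, π, hε, -, hact⟩ := H.exists_act heA
    have hv : H.qv (ε • pm π v) = H.qv sg := by
      rw [← hact, he', show e * c⁻¹ * H.qv v * (e * c⁻¹)⁻¹ = e * (c⁻¹ * H.qv v * c) * e⁻¹ by group, ← hc,
        show c⁻¹ * (c * H.σb * c⁻¹) * c = H.σb by group, mem_centralizer_singleton_iff.1 he, mul_inv_cancel_right]
      rfl
    rcases sg_zero π ε v hε (H.qv_inj hv) with e1 | e1 <;> rw [e1]
    · exact Or.inl rfl
    · exact Or.inr (H.qv_neg sg)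
  exfalso
  obtain ⟨v, i, rfl⟩ := H.mem_qS hx
  have hi : i ≠ 0 := fun e => hxA (by rw [e]; simpa using H.qA_qv v)
  set π := cyc ^ (i : ℕ) with hπ
  set X : G := ψ v * b ^ (i : ℕ) with hX
  have hbN : b ^ (i : ℕ) ∈ NN t2 (Rd L2 b n) := pow_mem (H.Q1_NN H.crd.b_mem) _
  have hXN : X ∈ NN t2 (Rd L2 b n) := mul_mem (H.A_NN (H.mem v)) hbN
  have hXim : pn _ _ ⟨X, hXN⟩ = H.qv v * H.qb ^ (i : ℕ) := by
    unfold qv qb
    rw [← map_pow, ← map_mul]
    exact congrArg _ (Subtype.ext (by push_cast; rfl))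
  have hXact : ∀ w, X * ψ w * X⁻¹ = ψ (pm π w) := fun w => by
    rw [hX, show ψ v * b ^ (i : ℕ) * ψ w * (ψ v * b ^ (i : ℕ))⁻¹ =
      ψ v * (b ^ (i : ℕ) * ψ w * (b ^ (i : ℕ))⁻¹) * (ψ v)⁻¹ by group, H.b_pow_act, H.comm, mul_inv_cancel_right]
  have hX3 : X ^ 3 = 1 := by
    have hb3 : b ^ (i : ℕ) * b ^ (i : ℕ) * b ^ (i : ℕ) = 1 := by
      rw [← pow_add, ← pow_add, show (i : ℕ) + i + i = 3 * i by ring, pow_mul, H.b_cube, one_pow]
    have hA : X ^ 3 = ψ (v + pm π v + pm π (pm π v)) := by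
      rw [H.crd.add, H.crd.add, ← H.b_pow_act, ← H.b_pow_act, ← H.b_pow_act, pow_succ, pow_two, hX]
      calc _ = ψ v * (b ^ (i : ℕ) * ψ v * (b ^ (i : ℕ))⁻¹) *
              (b ^ (i : ℕ) * (b ^ (i : ℕ) * ψ v * (b ^ (i : ℕ))⁻¹) * (b ^ (i : ℕ))⁻¹) *
              (b ^ (i : ℕ) * b ^ (i : ℕ) * b ^ (i : ℕ)) := by group
        _ = _ := by rw [hb3, mul_one]
    refine H.eq_one_of_A_R (hA ▸ H.mem _) ?_
    have h1 : pn t2 (Rd L2 b n) (⟨X, hXN⟩ ^ 3) = 1 := by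
      rw [map_pow, hXim, ← hc, conj_pow, show H.σb ^ 3 = 1 from H.qv_cube sg, mul_one, mul_inv_cancel]
    simpa using pn_eq_one.1 h1
  have hXt : X * t2 = t2 * X := mem_centralizer_singleton_iff.1 (mem_inf.1 hXN).1
  -- the fixed element
  have hLv : ∀ j w, w ∈ Lv L2 b n j → X * w * X⁻¹ ∈ Lv L2 b n (π j) := fun j w hw => by
    rw [← H.rad.perm X j (π j) hXt (by rw [Cand.cj_zpowers, hXact, pm_zt])]
    exact ⟨w, hw, rfl⟩
  obtain ⟨x1, y1, hxx, hyy, hxy, hgen⟩ := H.rad.quat 1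
  obtain ⟨n12, n13, n23, n31⟩ := cyc_orbit i hi
  have h1 : x1 ∈ Lv L2 b n 1 := hgen ▸ subset_closure (Set.mem_insert _ _)
  have hy1 : y1 ∈ Lv L2 b n 1 := hgen ▸ subset_closure (Set.mem_insert_of_mem _ rfl)
  set w2 := X * x1 * X⁻¹ with hw2
  set w3 := X * w2 * X⁻¹ with hw3
  have h2 : w2 ∈ Lv L2 b n (π 1) := hLv 1 x1 h1
  have h3 : w3 ∈ Lv L2 b n (π (π 1)) := hLv _ w2 h2
  have hw31 : X * w3 * X⁻¹ = x1 := by
    calc X * w3 * X⁻¹ = X ^ 3 * x1 * (X ^ 3)⁻¹ := by rw [hw3, hw2, pow_succ, pow_two]; group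
      _ = x1 := by rw [hX3]; group
  set w := x1 * w2 * w3 with hw
  have hwR : w ∈ Rd L2 b n := mul_mem (mul_mem (H.rad.Lv_le _ h1) (H.rad.Lv_le _ h2)) (H.rad.Lv_le _ h3)
  have hc1 : Commute x1 (w2 * w3) :=
    (show Commute x1 w2 from H.rad.comm _ _ n12 _ h1 _ h2).mul_right (H.rad.comm _ _ n13 _ h1 _ h3)
  have hfix : X * w * X⁻¹ = w := by
    calc X * w * X⁻¹ = (X * x1 * X⁻¹) * (X * w2 * X⁻¹) * (X * w3 * X⁻¹) := by rw [hw]; group
      _ = w2 * w3 * x1 := by rw [← hw2, ← hw3, hw31]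
      _ = w := by rw [← hc1.eq, hw, mul_assoc x1 w2 w3]
  have hne : w ∉ zpowers t2 := by
    intro hm
    have hcy : Commute y1 (w2 * w3) :=
      (show Commute y1 w2 from H.rad.comm _ _ n12 _ hy1 _ h2).mul_right (H.rad.comm _ _ n13 _ hy1 _ h3)
    obtain ⟨k, hk⟩ := mem_zpowers_iff.1 hm
    have hrc : Commute y1 (t2 ^ k) :=
      (show Commute y1 t2 from mem_centralizer_singleton_iff.1 (H.rad.le (H.rad.Lv_le _ hy1))).zpow_right k
    have e1 : x1 = t2 ^ k * (w2 * w3)⁻¹ := by rw [hk, hw]; group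
    have h4 : Commute y1 x1 := e1 ▸ hrc.mul_right hcy.inv_right
    rw [h4.eq, eq_comm, mul_eq_right] at hxy
    exact H.duo.data.t2_ne hxy
  obtain ⟨c0, hc0⟩ := QuotientGroup.mk'_surjective _ c
  rw [← hc0, ← hXim] at hc
  have hc' : pn t2 (Rd L2 b n) (c0 * ⟨ψ sg, H.A_NN (H.mem sg)⟩ * c0⁻¹) = pn _ _ ⟨X, hXN⟩ := by
    rw [← hc, map_mul, map_mul, map_inv]; rfl
  have h4 := pn_eq hc'.symm
  push_cast at h4
  obtain ⟨ρ, hρ, he⟩ := conj_of_coset H.R_three (mem_inf.1 hXN).2 hX3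
    (by rw [conj_pow, H.cube, mul_one, mul_inv_cancel]) h4
  have h5 : Commute ((c0 : G)⁻¹ * (ρ * w * ρ⁻¹) * (c0 : G)) (ψ sg) := by
    have hwX : Commute w X := (mul_inv_eq_iff_eq_mul.1 hfix).symm
    have := (hwX.conj ρ).conj (c0 : G)⁻¹
    rw [he] at this
    simpa [mul_assoc] using this
  have h6 := H.rad.fix sg (by decide) _ ((mem_normalizer_iff''.1 (mem_inf.1 c0.2).2 _).1
    (mul_mem (mul_mem hρ hwR) (inv_mem hρ))) h5.eq
  refine hne ?_
  obtain ⟨k, hk⟩ := mem_zpowers_iff.1 h6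
  have hcr : Commute (c0 : G) (t2 ^ k) :=
    (show Commute (c0 : G) t2 from mem_centralizer_singleton_iff.1 (mem_inf.1 c0.2).1).zpow_right k
  have hρr : Commute ρ⁻¹ (t2 ^ k) :=
    ((show Commute ρ t2 from mem_centralizer_singleton_iff.1 (H.rad.le hρ)).inv_left).zpow_right k
  have e2 : ρ * w * ρ⁻¹ = t2 ^ k := by
    calc ρ * w * ρ⁻¹ = (c0 : G) * t2 ^ k * (c0 : G)⁻¹ := by rw [hk]; group
      _ = t2 ^ k := by rw [hcr.eq, mul_inv_cancel_right]
  have e3 : w = t2 ^ k := by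
    calc w = ρ⁻¹ * (ρ * w * ρ⁻¹) * ρ := by group
      _ = t2 ^ k := by rw [e2, hρr.eq, inv_mul_cancel_right]
  exact e3 ▸ zpow_mem (mem_zpowers _) k

/-- A conjugate of the image of `σ` in its centralizer. -/
theorem conj_CB {x : NB t2 (Rd L2 b n)} (hc : ∃ c, c * H.σb * c⁻¹ = x)
    (hx : x ∈ centralizer ({H.σb} : Set (NB t2 (Rd L2 b n)))) : x = H.σb ∨ x = H.σb⁻¹ := by
  haveI : Fact (Nat.Prime 3) := ⟨Nat.prime_three⟩
  obtain ⟨c, rfl⟩ := hc
  have h3 : (c * H.σb * c⁻¹) ^ 3 = 1 := by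
    rw [conj_pow, show H.σb ^ 3 = 1 from H.qv_cube sg, mul_one, mul_inv_cancel]
  have hT : IsPGroup 3 ↥(zpowers (c * H.σb * c⁻¹)) := by
    refine IsPGroup.of_card (n := 1) ?_
    rw [Nat.card_zpowers, pow_one, orderOf_eq_prime h3 fun e => H.σb_ne (conj_eq_one_iff.1 e)]
  obtain ⟨e, he, heS⟩ := conj_into H.qS_cent (zpowers_le.2 hx) hT H.card_qS H.card_CB.dvd
  have hcom : Commute e H.σb := mem_centralizer_singleton_iff.1 he
  rcases H.conj_S ⟨e * c, by group⟩ (heS _ (mem_zpowers _)) with h | h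
  · left
    calc c * H.σb * c⁻¹ = e⁻¹ * (e * (c * H.σb * c⁻¹) * e⁻¹) * e := by group
      _ = e⁻¹ * H.σb * e := by rw [h]
      _ = H.σb := by rw [hcom.inv_left.eq, inv_mul_cancel_right]
  · right
    calc c * H.σb * c⁻¹ = e⁻¹ * (e * (c * H.σb * c⁻¹) * e⁻¹) * e := by group
      _ = e⁻¹ * H.σb⁻¹ * e := by rw [h]
      _ = H.σb⁻¹ := by rw [hcom.inv_inv.eq, inv_mul_cancel_right]

/-- A permutation induced by `N(A) ∩ C(r)` with trivial sign. -/
def Real (_ : Qd Z Q Q1 Q2 L1 L2 P W t1 t2 z y g d a n b ψ) (π : Equiv.Perm (Fin 4)) : Prop :=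
  ∃ h : G, h ∈ normalizer (AA P y t2 : Set G) ⊓ centralizer ({t2} : Set G) ∧
    ∀ v, h * ψ v * h⁻¹ = ψ (pm π v)

theorem real_mul {π ρ : Equiv.Perm (Fin 4)} (h1 : H.Real π) (h2 : H.Real ρ) : H.Real (π * ρ) := by
  obtain ⟨p, hp, hp'⟩ := h1
  obtain ⟨q, hq, hq'⟩ := h2
  refine ⟨p * q, mul_mem hp hq, fun v => ?_⟩
  rw [pm_comp, ← hp', ← hq']
  group

theorem real_mv (k : Fin 9) : H.Real (qmv k) := by
  have h1 : H.Real 1 := ⟨1, one_mem _, fun v => by simp [show pm 1 v = v from rfl]⟩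
  have hc : H.Real cyc := ⟨b, mem_inf.2 ⟨Subgroup.mem_normalizer_fintype fun x hx => by
    obtain ⟨v, rfl⟩ := (H.crd.mem x).1 hx
    rw [SetLike.mem_coe, H.crd.b_act]
    exact H.mem _, mem_centralizer_singleton_iff.2 H.b_t2⟩, H.crd.b_act⟩
  have hs : H.Real (Equiv.swap 0 1) :=
    ⟨n, mem_inf.2 ⟨H.duo.n_A, mem_centralizer_singleton_iff.2 H.duo.n_t2⟩, H.crd.n_act⟩
  have hcc := H.real_mul hc hc
  fin_cases k
  exacts [h1, hs, H.real_mul hc hs, H.real_mul hcc hs, hc, hcc, H.real_mul hs hc, H.real_mul hs hcc,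
    H.real_mul hc (H.real_mul hs hc)]

theorem kill_z {x : NB t2 (Rd L2 b n)} (hc : ∃ c, c * H.σb * c⁻¹ = x) (h : x * H.qv (zt 0) = H.qv (zt 0) * x) :
    x = H.σb ∨ x = H.σb⁻¹ := H.conj_CB hc (H.cent_qz h)

theorem comm_of_basis {x : NB t2 (Rd L2 b n)} {u v : Ex} (hu : Commute x (H.qv u)) (hv : Commute x (H.qv v))
    (i j : ZMod 3) : Commute x (H.qv (i • u + j • v)) := by
  have h : ∀ (i : ZMod 3) (u : Ex), Commute x (H.qv u) → Commute x (H.qv (i • u)) := fun i u hu => by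
    obtain ⟨k, hk⟩ := mem_zpowers_iff.1 (H.qv_smul i u)
    exact hk ▸ hu.zpow_right k
  rw [H.qv_add]
  exact (h i u hu).mul_right (h j v hv)

theorem kill_W {x : NB t2 (Rd L2 b n)} (hc : ∃ c, c * H.σb * c⁻¹ = x)
    (h2 : Commute x (H.qv ![0, 0, 1, 0])) (h3 : Commute x (H.qv ![0, 0, 0, 1])) :
    x = H.σb ∨ x = H.σb⁻¹ := by
  classical
  refine H.conj_S hc (mem_sup_left ?_)
  obtain ⟨c, rfl⟩ := hc
  obtain ⟨x0, hx0⟩ := QuotientGroup.mk'_surjective _ (c * H.σb * c⁻¹)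
  haveI : Fact (Nat.Prime 3) := ⟨Nat.prime_three⟩
  haveI : IsMulCommutative ↥W :=
    ⟨⟨fun u w => Subtype.ext (H.duo.data.A_comm (H.duo.W_le u.2) (H.duo.W_le w.2))⟩⟩
  have hW3 : IsPGroup 3 ↥W := IsPGroup.of_card (n := 2) (by rw [H.duo.W_card]; norm_num)
  obtain ⟨ρ, hρ, hcent⟩ := lift_cent_group H.R_three (H.duo.W_le.trans H.A_NN) hW3 (g := x0) fun w hw => by
    obtain ⟨u, hu⟩ := (H.crd.mem _).1 (H.duo.W_le hw)
    obtain ⟨hu0, hu1⟩ := (H.crd.W_eq u).1 (hu ▸ hw)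
    have e : H.qv u = pn _ _ w := congrArg _ (Subtype.ext hu)
    rw [← e, hx0]
    rw [W_dec u hu0 hu1]
    exact (H.comm_of_basis h2 h3 _ _).eq
  have hgN : (x0 : G) * ρ ∈ NN t2 (Rd L2 b n) := mul_mem x0.2 (H.Rd_NN hρ)
  obtain ⟨s, hs, hsA⟩ := H.nrm.cent_W _ (mem_inf.2 ⟨hcent, (mem_inf.1 hgN).1⟩)
  set h := s⁻¹ * ((x0 : G) * ρ) with hh
  have hhN : h ∈ NN t2 (Rd L2 b n) := mul_mem (inv_mem (H.Rd_NN hs)) hgN
  have him : pn _ _ ⟨h, hhN⟩ = c * H.σb * c⁻¹ := by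
    rw [← hx0]
    show pn t2 (Rd L2 b n) (⟨s, H.Rd_NN hs⟩⁻¹ * (x0 * ⟨ρ, H.Rd_NN hρ⟩)) = _
    rw [map_mul, map_mul, map_inv, pn_eq_one.2 hs, (pn_eq_one (a := (⟨ρ, H.Rd_NN hρ⟩ : ↥(NN t2 (Rd L2 b n))))).2 hρ, inv_one, one_mul, mul_one]
  have hhA : h ∈ normalizer (AA P y t2 : Set G) ⊓ centralizer ({t2} : Set G) :=
    mem_inf.2 ⟨hsA, (mem_inf.1 hhN).1⟩
  obtain ⟨ε, π, -, hact, hqact⟩ := H.exists_act (c := ⟨h, hhN⟩) hhA
  have hfix : ∀ u : Ex, Commute (c * H.σb * c⁻¹) (H.qv u) → ε • pm π u = u := fun u hu =>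
    H.qv_inj (by rw [← hqact, him, hu.eq, mul_inv_cancel_right])
  have hcube : ∀ u : Ex, ε • pm π (ε • pm π (ε • pm π u)) = u := fun u => H.qv_inj (by
    rw [← hqact, ← hqact, ← hqact, him]
    calc _ = (c * H.σb * c⁻¹) ^ 3 * H.qv u * ((c * H.σb * c⁻¹) ^ 3)⁻¹ := by rw [pow_succ, pow_two]; group
      _ = H.qv u := by
        rw [conj_pow, show H.σb ^ 3 = 1 from H.qv_cube sg]; group)
  have hid := W_rigid ε π (hfix _ h2) (hfix _ h3) hcube
  have hcA : h ∈ centralizer (AA P y t2 : Set G) := mem_centralizer_iff.2 fun u hu => by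
    obtain ⟨w, rfl⟩ := (H.crd.mem u).1 hu
    have := hact w
    rw [hid] at this
    exact (mul_inv_eq_iff_eq_mul.1 this).symm
  have hAr := H.nrm.cent_A (mem_inf.2 ⟨hcA, (mem_inf.1 hhN).1⟩)
  have hle : AA P y t2 ⊔ zpowers t2 ≤ AA P y t2 ⊔ Rd L2 b n :=
    sup_le_sup_left (zpowers_le.2 (H.rad.Lv_le 0 (H.rad.r_mem 0))) _
  rw [← him]
  have hmap : (AA P y t2 ⊔ Rd L2 b n).subgroupOf (NN t2 (Rd L2 b n)) ≤ H.qA.comap (pn t2 (Rd L2 b n)) := by
    rw [subgroupOf_sup H.A_NN H.Rd_NN]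
    refine sup_le (fun w hw => ⟨w, hw, rfl⟩) fun w hw => ?_
    rw [mem_comap, pn_eq_one.2 hw]
    exact one_mem _
  exact hmap (show (⟨h, hhN⟩ : ↥(NN t2 (Rd L2 b n))) ∈ _ from hle hAr)

theorem kill_H {x : NB t2 (Rd L2 b n)} (hc : ∃ c, c * H.σb * c⁻¹ = x)
    (h1 : Commute x (H.qv sg)) : x = H.σb ∨ x = H.σb⁻¹ :=
  H.conj_CB hc (mem_centralizer_singleton_iff.2 h1.eq)

/-- Another conjugate is centralised by at most nine elements of the image of `Q₁A`. -/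
theorem card_stab {x : NB t2 (Rd L2 b n)} (hc : ∃ c, c * H.σb * c⁻¹ = x)
    (hne : ¬ (x = H.σb ∨ x = H.σb⁻¹)) :
    Nat.card ↥(H.qS ⊓ centralizer ({x} : Set (NB t2 (Rd L2 b n)))) ≤ 9 := by
  classical
  haveI : Fact (Nat.Prime 3) := ⟨Nat.prime_three⟩
  set T := H.qS ⊓ centralizer ({x} : Set (NB t2 (Rd L2 b n))) with hT
  by_contra hlt
  have h27 : 27 ≤ Nat.card ↥T := by
    have hd : Nat.card ↥T ∣ 3 ^ 5 := by
      rw [show (3 : ℕ) ^ 5 = 243 by norm_num, ← H.card_qS]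
      exact card_dvd_of_le inf_le_left
    obtain ⟨k, hk, ek⟩ := (Nat.dvd_prime_pow Nat.prime_three).1 hd
    rw [ek] at hlt ⊢
    interval_cases k <;> norm_num at *
  let U : AddSubgroup Ex :=
    { carrier := {v | Commute x (H.qv v)}
      zero_mem' := by show Commute x (H.qv 0); rw [H.qv_zero]; exact Commute.one_right x
      add_mem' := fun {v w} hv hw => by show Commute x (H.qv (v + w)); rw [H.qv_add]; exact hv.mul_right hw
      neg_mem' := fun {v} hv => by show Commute x (H.qv (-v)); rw [H.qv_neg]; exact hv.inv_right }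
  have hU : Nat.card ↥U = Nat.card ↥(H.qA ⊓ T) := by
    refine Nat.card_congr (Equiv.ofBijective (fun v : ↥U => (⟨H.qv v.1, mem_inf.2 ⟨H.qA_qv _, mem_inf.2
      ⟨mem_sup_left (H.qA_qv _), mem_centralizer_singleton_iff.2 v.2.symm.eq⟩⟩⟩ : ↥(H.qA ⊓ T))) ⟨?_, ?_⟩)
    · exact fun v w e => Subtype.ext (H.qv_inj (congrArg Subtype.val e))
    · rintro ⟨w, hwA, hwT⟩
      obtain ⟨v, rfl⟩ := H.mem_qA.1 hwA
      exact ⟨⟨v, (mem_centralizer_singleton_iff.1 (mem_inf.1 hwT).2).symm⟩, rfl⟩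
  by_cases hz : zt 0 ∈ U
  · exact hne (H.kill_z hc (show Commute x (H.qv (zt 0)) from hz).eq)
  by_cases hTA : T ≤ H.qA
  · -- a hyperplane of `A`
    rw [inf_eq_right.2 hTA] at hU
    have hUs : U ≠ ⊤ := fun e => hz (e ▸ AddSubgroup.mem_top _)
    set Us := AddSubgroup.toZModSubmodule 3 U with hUs'
    have hlt' : Us < ⊤ := lt_top_iff_ne_top.2 fun e => hUs (AddSubgroup.ext fun v =>
      ⟨fun _ => AddSubgroup.mem_top v, fun _ => (show v ∈ Us from e ▸ Submodule.mem_top)⟩)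
    obtain ⟨f, hf0, hfle⟩ := Submodule.exists_le_ker_of_lt_top Us hlt'
    set cc : Ex := ![f ![1, 0, 0, 0], f ![0, 1, 0, 0], f ![0, 0, 1, 0], f ![0, 0, 0, 1]] with hcc
    have hfd : ∀ v, f v = dot cc v := fun v => by
      conv_lhs => rw [ex_basis v]
      simp only [map_add, map_smul, smul_eq_mul, dot, hcc]
      simp
      ring
    have hcc0 : cc ≠ 0 := fun e => hf0 (LinearMap.ext fun v => by rw [hfd, e]; simp [dot])
    have hmem : ∀ v, dot cc v = 0 → v ∈ U := by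
      intro v hv
      have hinj : Function.Injective (fun w : ↥U =>
          (⟨w.1, Finset.mem_filter.2 ⟨Finset.mem_univ _, (hfd _).symm.trans (hfle (show w.1 ∈ Us from w.2))⟩⟩ :
            ↥(Finset.univ.filter fun v : Ex => dot cc v = 0))) :=
        fun w w' e => Subtype.ext (congrArg (fun q => q.1) e)
      have hs : Function.Surjective (fun w : ↥U =>
          (⟨w.1, Finset.mem_filter.2 ⟨Finset.mem_univ _, (hfd _).symm.trans (hfle (show w.1 ∈ Us from w.2))⟩⟩ :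
            ↥(Finset.univ.filter fun v : Ex => dot cc v = 0))) := by
        refine ((Nat.bijective_iff_injective_and_card _).2 ⟨hinj, le_antisymm
          (Nat.card_le_card_of_injective _ hinj) ?_⟩).2
        rw [Nat.card_eq_fintype_card, Fintype.card_coe, dot_card cc hcc0, hU]
        exact h27
      obtain ⟨w, hw⟩ := hs ⟨v, Finset.mem_filter.2 ⟨Finset.mem_univ _, hv⟩⟩
      exact (congrArg (fun q => q.1) hw : w.1 = v) ▸ w.2
    obtain ⟨k, hk⟩ := hyper_cases cc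
    obtain ⟨h, hh, hact⟩ := H.real_mv k
    set hN : ↥(NN t2 (Rd L2 b n)) := ⟨h, mem_inf.2 ⟨(mem_inf.1 hh).2, H.rad.norm_A hh⟩⟩
    set hb := pn _ _ hN with hhb
    have hbact : ∀ v, hb * H.qv v * hb⁻¹ = H.qv (pm (qmv k) v) := fun v => by
      rw [hhb]
      unfold qv
      rw [← map_inv, ← map_mul, ← map_mul]
      exact congrArg _ (Subtype.ext (hact v))
    have hbσ : Commute hb H.σb := by
      have := hbact sg
      rw [pm_sg] at this
      exact mul_inv_eq_iff_eq_mul.1 this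
    set x' := hb⁻¹ * x * hb with hx'
    have hc' : ∃ c, c * H.σb * c⁻¹ = x' := by
      obtain ⟨c, rfl⟩ := hc
      exact ⟨hb⁻¹ * c, by rw [hx']; group⟩
    have hmove : ∀ v, dot cc (pm (qmv k) v) = 0 → Commute x' (H.qv v) := fun v hv => by
      have h1 : Commute x (H.qv (pm (qmv k) v)) := hmem _ hv
      rw [← hbact] at h1
      have := h1.conj hb⁻¹
      simpa [hx', mul_assoc] using this
    have hne' : ¬ (x' = H.σb ∨ x' = H.σb⁻¹) := by
      have hx : x = hb * x' * hb⁻¹ := by rw [hx']; group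
      rintro (e | e) <;> refine hne ?_ <;> rw [hx, e]
      · exact Or.inl (by rw [hbσ.eq, mul_inv_cancel_right])
      · exact Or.inr (by rw [hbσ.inv_right.eq, mul_inv_cancel_right])
    rcases hk with hk | ⟨hk1, hk2⟩ | ⟨hk1, -, -⟩
    · exact hne' (H.kill_z hc' (hmove _ hk).eq)
    · exact hne' (H.kill_W hc' (hmove _ hk1) (hmove _ hk2))
    · exact hne' (H.kill_H hc' (hmove _ hk1))
  -- a plane of `A` stable under the three-cycle
  obtain ⟨t, htT, htA⟩ := SetLike.not_le_iff_exists.1 hTA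
  obtain ⟨v0, i, rfl⟩ := H.mem_qS (mem_inf.1 htT).1
  have hi : i ≠ 0 := fun e => htA (by rw [e]; simpa using H.qA_qv v0)
  have h9 : 9 ≤ Nat.card ↥U := by
    have h1 : Nat.card ↥(H.qA ⊔ T) * Nat.card ↥(H.qA ⊓ T) = Nat.card ↥H.qA * Nat.card ↥T :=
      card_sup_mul_inf ((inf_le_left : T ≤ H.qS).trans H.qA_norm)
    rw [H.card_qA] at h1
    have h2 : Nat.card ↥(H.qA ⊔ T) ≤ 243 :=
      H.card_qS ▸ Subgroup.card_le_of_le (sup_le le_sup_left inf_le_left)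
    have h3 := Nat.mul_le_mul_right (Nat.card ↥(H.qA ⊓ T)) h2
    rw [hU]
    omega
  have hst : ∀ v ∈ U, pm (cyc ^ (i : ℕ)) v ∈ U := by
    intro v hv
    have ht : Commute x (H.qv v0 * H.qb ^ (i : ℕ)) :=
      (show Commute (H.qv v0 * H.qb ^ (i : ℕ)) x from mem_centralizer_singleton_iff.1 (mem_inf.1 htT).2).symm
    have h1 := (ht.mul_right (show Commute x (H.qv v) from hv)).mul_right ht.inv_right
    have e : H.qv v0 * H.qb ^ (i : ℕ) * H.qv v * (H.qv v0 * H.qb ^ (i : ℕ))⁻¹ = H.qv (pm (cyc ^ (i : ℕ)) v) := by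
      rw [show H.qv v0 * H.qb ^ (i : ℕ) * H.qv v * (H.qv v0 * H.qb ^ (i : ℕ))⁻¹ =
        H.qv v0 * (H.qb ^ (i : ℕ) * H.qv v * (H.qb ^ (i : ℕ))⁻¹) * (H.qv v0)⁻¹ by group, H.qb_pow_act,
        H.qv_comm, mul_inv_cancel_right]
    show Commute x (H.qv _)
    rw [← e]
    exact h1
  refine hz (cyc_stable (by omega) fun v hv => ?_)
  fin_cases i
  · exact absurd rfl hi
  · simpa using hst v hv
  · have h2 := hst _ (hst v hv)
    simpa [pow_two, two_step] using h2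

end Qd

end Cfsg.Agent.UThreeLocal.Big.Local
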