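import Cfsg.Agent.Lib.UThreeLocal.Big.Local.QuoCent

/-!
# `C(σ) = ⟨σ⟩ × D₀`

The transfer to the sum of the exponents on the image of `Q₁A` does not vanish at `σ`; its kernel `D₀` meets
the image of `A` in the exponents of sum zero, contains the image of `L₁` and is invariant under the
normalizer of `⟨σ⟩`.
-/

set_option autoImplicit false
set_option linter.unusedSectionVars false
set_option linter.style.haveILetI false
set_option maxRecDepth 100000
set_option synthInstance.maxSize 10000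

namespace Cfsg.Agent.UThreeLocal.Big.Local

open Subgroup
open Cfsg.Agent.UThreeLocal.Cand (NN NB pn pn_eq_one pn_eq XX pr pr_eq_one pr_eq pr_surj)

universe u

/-- The sum of the exponents. -/
def sm (v : Ex) : ZMod 3 := ∑ i, v i

theorem sm_pm (π : Equiv.Perm (Fin 4)) (v : Ex) : sm (pm π v) = sm v := Equiv.sum_comp π.symm v

theorem sm_add (v w : Ex) : sm (v + w) = sm v + sm w := Finset.sum_add_distrib

theorem sm_facts : sm sg = 1 ∧ pm cyc dv - dv = -zt 0 ∧ pm cyc (zt 1) = zt 2 ∧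
    (∀ v, sm v = v 0 + v 1 + v 2 + v 3) ∧ ∀ v, sm (v - sm v • sg) = 0 := by
  refine ⟨by decide, by decide, by decide, fun v => Fin.sum_univ_four v, ?_⟩
  decide +kernel

variable {G : Type u} [Group G] [Finite G]

namespace Qd

variable {Z Q Q1 Q2 L1 L2 P W : Subgroup G} {t1 t2 z y g d a n b : G} {ψ : Ex → G}
  (H : Qd Z Q Q1 Q2 L1 L2 P W t1 t2 z y g d a n b ψ)
include H

theorem qv_unique {v w : Ex} {s s' : NB t2 (Rd L2 b n)} (hs : s ∈ zpowers H.qb) (hs' : s' ∈ zpowers H.qb)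
    (e : H.qv v * s = H.qv w * s') : v = w := by
  haveI : Fact (Nat.Prime 3) := ⟨Nat.prime_three⟩
  have hm : (H.qv w)⁻¹ * H.qv v = s' * s⁻¹ := by
    calc _ = (H.qv w)⁻¹ * (H.qv v * s) * s⁻¹ := by group
      _ = _ := by rw [e]; group
  have h1 : s' * s⁻¹ = 1 := by
    by_contra hne
    refine H.qb_notA ((zpowers_le.2 (hm ▸ mul_mem (inv_mem (H.qA_qv w)) (H.qA_qv v) : s' * s⁻¹ ∈ H.qA)) ?_)
    have hc : Nat.card ↥(zpowers H.qb) = 3 := by
      rw [Nat.card_zpowers, orderOf_eq_prime H.qb_cube fun e => H.qb_notA (e ▸ one_mem _)]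
    rw [zpowers_eq_of_prime hc (mul_mem hs' (inv_mem hs)) hne]
    exact mem_zpowers _
  rw [h1, inv_mul_eq_one] at hm
  exact (H.qv_inj hm).symm

theorem qS_cent : H.qS ≤ centralizer ({H.σb} : Set (NB t2 (Rd L2 b n))) := by
  refine sup_le (fun x hx => ?_) (zpowers_le.2 (mem_centralizer_singleton_iff.2 ?_))
  · obtain ⟨v, rfl⟩ := H.mem_qA.1 hx
    exact H.qv_cent v
  · exact mul_inv_eq_iff_eq_mul.1 (H.qb_act sg)

/-- The image of `n`. -/
def qn : NB t2 (Rd L2 b n) := pn t2 (Rd L2 b n)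
  ⟨n, mem_inf.2 ⟨mem_centralizer_singleton_iff.2 H.duo.n_t2,
    H.rad.norm_A (mem_inf.2 ⟨H.duo.n_A, mem_centralizer_singleton_iff.2 H.duo.n_t2⟩)⟩⟩

theorem qn_act (v : Ex) : H.qn * H.qv v * H.qn⁻¹ = H.qv (pm (Equiv.swap 0 1) v) := by
  unfold qn qv
  rw [← map_inv, ← map_mul, ← map_mul]
  exact congrArg _ (Subtype.ext (H.crd.n_act v))

theorem qn_cent : H.qn ∈ centralizer ({H.σb} : Set (NB t2 (Rd L2 b n))) :=
  mem_centralizer_singleton_iff.2 (mul_inv_eq_iff_eq_mul.1 (H.qn_act sg))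

theorem L1_cent {l : G} (hl : l ∈ L1) :
    pn t2 (Rd L2 b n) ⟨l, H.L1_NN hl⟩ ∈ centralizer ({H.σb} : Set (NB t2 (Rd L2 b n))) :=
  mem_centralizer_singleton_iff.2 (H.kim_sg ⟨l, H.L1_KK hl⟩)

theorem exists_tau : ∃ τ : ↥(centralizer ({H.σb} : Set (NB t2 (Rd L2 b n)))) →* Multiplicative (ZMod 3),
    τ ⟨H.σb, mem_centralizer_singleton_iff.2 rfl⟩ ≠ 1 := by
  classical
  set CB := centralizer ({H.σb} : Set (NB t2 (Rd L2 b n))) with hCB
  set S := H.qS.subgroupOf CB with hS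
  have hpow : ∀ i : Fin 3, H.qb ^ (i : ℕ) ∈ zpowers H.qb := fun i => pow_mem (mem_zpowers _) _
  have hdec : ∀ x : ↥S, ∃ v, ∃ i : Fin 3, ((x : ↥CB) : NB t2 (Rd L2 b n)) = H.qv v * H.qb ^ (i : ℕ) :=
    fun x => H.mem_qS x.2
  choose f gi hf using hdec
  let χ : ↥S →* Multiplicative (ZMod 3) := MonoidHom.mk' (fun x => Multiplicative.ofAdd (sm (f x))) fun x w => by
    rw [← ofAdd_add]
    refine congrArg _ ?_
    have e : H.qv (f (x * w)) * H.qb ^ (gi (x * w) : ℕ) =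
        H.qv (f x + pm (cyc ^ (gi x : ℕ)) (f w)) * (H.qb ^ (gi x : ℕ) * H.qb ^ (gi w : ℕ)) := by
      rw [← hf (x * w), H.qv_add, ← H.qb_pow_act]
      show ((x : ↥CB) : NB t2 (Rd L2 b n)) * ((w : ↥CB) : NB t2 (Rd L2 b n)) = _
      rw [hf x, hf w]
      group
    rw [H.qv_unique (hpow _) (mul_mem (hpow _) (hpow _)) e, sm_add, sm_pm]
  refine ⟨MonoidHom.transfer χ, ?_⟩
  set s : ↥CB := ⟨H.σb, mem_centralizer_singleton_iff.2 rfl⟩ with hs
  have key : ∀ (k : ℕ) (g₀ : ↥CB), g₀⁻¹ * s ^ k * g₀ ∈ S → g₀⁻¹ * s ^ k * g₀ = s ^ k := by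
    intro k g₀ _
    have hc : Commute s g₀ := Subtype.ext (mem_centralizer_singleton_iff.1 g₀.2).symm
    rw [mul_assoc, (hc.pow_left k).eq, inv_mul_cancel_left]
  rw [MonoidHom.transfer_eq_pow χ s key]
  have hidx : S.index = 320 := by
    have h1 := S.card_mul_index
    have h2 : Nat.card ↥S = 243 := by rw [hS, Nat.card_congr (subgroupOfEquivOfLe H.qS_cent).toEquiv, H.card_qS]
    have h3 : Nat.card ↥CB = 77760 := H.card_CB
    rw [h2, h3] at h1
    omega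
  intro h1
  set x : ↥S := ⟨s ^ S.index, MonoidHom.transfer_eq_pow_aux s key⟩
  have hσ2 : ((x : ↥CB) : NB t2 (Rd L2 b n)) = H.qv (sg + sg) := by
    show ((s ^ S.index : ↥CB) : NB t2 (Rd L2 b n)) = _
    rw [SubgroupClass.coe_pow, hidx, show 320 = 3 * 106 + 2 by norm_num, pow_add, pow_mul, hs,
      show H.σb ^ 3 = 1 from H.qv_cube sg, one_pow, one_mul, pow_two, H.qv_add]
    rfl
  have hfx : f x = sg + sg := H.qv_unique (hpow (gi x)) (one_mem _) (by rw [← hf x, mul_one, hσ2])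
  have h0 : sm (f x) = 0 := Multiplicative.ofAdd.injective (h1.trans ofAdd_zero.symm)
  rw [hfx, sm_add, sm_facts.1] at h0
  exact absurd h0 (by decide)

/-- The complement to `⟨σ⟩` in its centralizer. -/
theorem exists_split : ∃ D0 : Subgroup (NB t2 (Rd L2 b n)),
    D0 ≤ centralizer ({H.σb} : Set (NB t2 (Rd L2 b n))) ∧
    (∀ v, H.qv v ∈ D0 ↔ sm v = 0) ∧
    (∀ l (hl : l ∈ L1), pn t2 (Rd L2 b n) ⟨l, H.L1_NN hl⟩ ∈ D0) ∧
    (∀ x, (x * H.σb * x⁻¹ = H.σb ∨ x * H.σb * x⁻¹ = H.σb⁻¹) → ∀ w ∈ D0, x * w * x⁻¹ ∈ D0) ∧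
    ∃ θ : ↥D0 →* Cfsg.PSp 2 (ZMod 3), Function.Bijective θ := by
  classical
  set CB := centralizer ({H.σb} : Set (NB t2 (Rd L2 b n))) with hCB
  obtain ⟨τ, hτ⟩ : ∃ τ : ↥CB →* Multiplicative (ZMod 3), τ ⟨H.σb, mem_centralizer_singleton_iff.2 rfl⟩ ≠ 1 :=
    H.exists_tau
  set s : ↥CB := ⟨H.σb, mem_centralizer_singleton_iff.2 rfl⟩ with hs
  set D0 := τ.ker.map CB.subtype with hD0
  have hD0le : D0 ≤ CB := map_subtype_le _
  have hmem : ∀ {x : NB t2 (Rd L2 b n)} (hx : x ∈ CB), x ∈ D0 ↔ τ ⟨x, hx⟩ = 1 := fun {x} hx =>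
    ⟨fun ⟨c, hc, e⟩ => (show c = ⟨x, hx⟩ from Subtype.ext e) ▸ hc, fun h => ⟨⟨x, hx⟩, h, rfl⟩⟩
  have hsurj : Function.Surjective τ := by
    have hr : τ.range = ⊤ := by
      refine Subgroup.eq_top_of_card_eq _ ?_
      have hd := card_subgroup_dvd_card τ.range
      rw [show Nat.card (Multiplicative (ZMod 3)) = 3 by rw [Nat.card_congr Multiplicative.toAdd, Nat.card_zmod]]
        at hd ⊢
      refine ((Nat.dvd_prime Nat.prime_three).1 hd).resolve_left fun h => hτ ?_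
      exact mem_bot.1 ((Subgroup.card_eq_one.1 h).le ⟨s, rfl⟩)
    exact MonoidHom.range_eq_top.1 hr
  have hker : Nat.card ↥D0 = 25920 := by
    have := τ.ker.card_mul_index
    rw [Subgroup.index_ker, MonoidHom.range_eq_top.2 hsurj, card_top, H.card_CB,
      Nat.card_congr Multiplicative.toAdd, Nat.card_zmod] at this
    rw [hD0, card_map_of_injective (Subgroup.subtype_injective _)]
    omega
  -- the isomorphism with the quotient
  let θ0 : ↥D0 →* XX H.σb := (pr H.σb).comp (Subgroup.inclusion hD0le)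
  have hθinj : Function.Injective θ0 := (injective_iff_map_eq_one θ0).2 fun x hx => by
    obtain ⟨k, hk0⟩ := H.zp_σb (pr_eq_one.1 hx : (x : NB t2 (Rd L2 b n)) ∈ zpowers H.σb)
    have hk : H.qv (k • sg) = (x : NB t2 (Rd L2 b n)) := hk0
    clear hk0
    rcases zmod3 k with rfl | rfl | rfl
    · refine Subtype.ext ?_
      rw [← hk, zero_smul, H.qv_zero]; rfl
    · exact absurd ((hmem (hD0le x.2)).1 x.2)
        (by rw [show (⟨(x : NB t2 (Rd L2 b n)), hD0le x.2⟩ : ↥CB) = s from Subtype.ext (by rw [← hk, one_smul]; rfl)]; exact hτ)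
    · exfalso
      have h1 := (hmem (hD0le x.2)).1 x.2
      rw [show (⟨(x : NB t2 (Rd L2 b n)), hD0le x.2⟩ : ↥CB) = s⁻¹ from
        Subtype.ext (by rw [← hk, neg_one_smul, H.qv_neg]; rfl), map_inv, inv_eq_one] at h1
      exact hτ h1
  have hθ : Function.Bijective θ0 :=
    (Nat.bijective_iff_injective_and_card _).2 ⟨hθinj, by rw [hker, H.card_XX]⟩
  haveI := H.simple_XX
  haveI : Nontrivial ↥D0 := (MulEquiv.ofBijective θ0 hθ).toEquiv.nontrivial
  haveI : IsSimpleGroup ↥D0 :=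
    IsSimpleGroup.isSimpleGroup_of_surjective (MulEquiv.ofBijective θ0 hθ).symm.toMonoidHom
      (MulEquiv.ofBijective θ0 hθ).symm.surjective
  have hinv : ∀ x : NB t2 (Rd L2 b n), (x * H.σb * x⁻¹ = H.σb ∨ x * H.σb * x⁻¹ = H.σb⁻¹) →
      ∀ w ∈ D0, x * w * x⁻¹ ∈ D0 := by
    intro x hx
    have hcj : ∀ w ∈ D0, x * w * x⁻¹ ∈ CB := fun w hw => by
      have hc : Commute (x * w * x⁻¹) (x * H.σb * x⁻¹) :=
        (show Commute w H.σb from mem_centralizer_singleton_iff.1 (hD0le hw)).conj x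
      refine mem_centralizer_singleton_iff.2 ?_
      rcases hx with e | e <;> rw [e] at hc
      · exact hc.eq
      · exact (Commute.inv_right_iff.1 hc).eq
    let χ : ↥D0 →* Multiplicative (ZMod 3) :=
      τ.comp (((MulAut.conj x).toMonoidHom.comp D0.subtype).codRestrict CB fun w => hcj w w.2)
    intro w hw
    refine (hmem (hcj w hw)).2 ?_
    rcases IsSimpleGroup.eq_bot_or_eq_top_of_normal χ.ker inferInstance with h | h
    · exfalso
      have hle := Nat.card_le_card_of_injective χ ((χ.ker_eq_bot_iff).1 h)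
      rw [hker, Nat.card_congr Multiplicative.toAdd, Nat.card_zmod] at hle
      omega
    · exact h.ge (mem_top (⟨w, hw⟩ : ↥D0))
  -- the image of `A`
  have hsig : ∀ {x : NB t2 (Rd L2 b n)}, x ∈ CB → x * H.σb * x⁻¹ = H.σb := fun hx => by
    rw [mem_centralizer_singleton_iff.1 hx, mul_inv_cancel_right]
  have hbCB : H.qb ∈ CB := H.qS_cent (mem_sup_right (mem_zpowers _))
  have hz0 : H.qv (zt 0) ∈ D0 := by
    have h1 : H.qb * H.qv dv * H.qb⁻¹ * (H.qv dv)⁻¹ ∈ D0 := by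
      refine (hmem (mul_mem (mul_mem (mul_mem hbCB (H.qv_cent _)) (inv_mem hbCB)) (inv_mem (H.qv_cent _)))).2 ?_
      show τ (⟨H.qb, hbCB⟩ * (⟨H.qv dv, H.qv_cent dv⟩ : ↥CB) * (⟨H.qb, hbCB⟩ : ↥CB)⁻¹ *
        (⟨H.qv dv, H.qv_cent dv⟩ : ↥CB)⁻¹) = 1
      rw [map_mul, map_mul, map_mul, map_inv, map_inv, mul_comm (τ ⟨H.qb, hbCB⟩), mul_inv_cancel_right,
        mul_inv_cancel]
    rw [H.qb_act, ← H.qv_neg, ← H.qv_add, ← sub_eq_add_neg, sm_facts.2.1, H.qv_neg] at h1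
    exact inv_mem_iff.1 h1
  have hz1 : H.qv (zt 1) ∈ D0 := by
    have := hinv _ (Or.inl (hsig H.qn_cent)) _ hz0
    rwa [H.qn_act, pm_zt, Equiv.swap_apply_left] at this
  have hz2 : H.qv (zt 2) ∈ D0 := by
    have := hinv _ (Or.inl (hsig hbCB)) _ hz1
    rwa [H.qb_act, sm_facts.2.2.1] at this
  have hzero : ∀ v, sm v = 0 → H.qv v ∈ D0 := fun v hv => by
    obtain ⟨i, j, k, rfl⟩ := sum_span v (by rw [← sm_facts.2.2.2.1]; exact hv)
    rw [H.qv_add, H.qv_add]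
    exact mul_mem (mul_mem ((zpowers_le.2 hz0) (H.qv_smul i _)) ((zpowers_le.2 hz1) (H.qv_smul j _)))
      ((zpowers_le.2 hz2) (H.qv_smul k _))
  have hA : ∀ v, H.qv v ∈ D0 ↔ sm v = 0 := fun v => by
    refine ⟨fun hv => by_contra fun hne => hτ ?_, hzero v⟩
    have hmul : H.qv (sm v • sg) ∈ D0 := by
      have h1 := mul_mem (inv_mem (hzero _ (sm_facts.2.2.2.2 v))) hv
      rwa [← H.qv_neg, ← H.qv_add, show -(v - sm v • sg) + v = sm v • sg by abel] at h1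
    rcases zmod3 (sm v) with e | e | e
    · exact absurd e hne
    · rw [e, one_smul] at hmul
      exact (hmem _).1 hmul
    · rw [e, neg_one_smul, H.qv_neg, inv_mem_iff] at hmul
      exact (hmem _).1 hmul
  refine ⟨D0, hD0le, hA, fun l hl => (hmem (H.L1_cent hl)).2 ?_, hinv, ?_⟩
  · have h8 : l ^ 8 = 1 := by
      have := pow_card_eq_one' (x := (⟨l, hl⟩ : ↥L1))
      rw [H.frame.L1_card] at this
      simpa using congrArg Subtype.val this
    have h1 : (⟨pn t2 (Rd L2 b n) ⟨l, H.L1_NN hl⟩, H.L1_cent hl⟩ : ↥CB) ^ 8 = 1 := Subtype.ext (by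
      rw [SubgroupClass.coe_pow, ← map_pow,
        show (⟨l, H.L1_NN hl⟩ : ↥(NN t2 (Rd L2 b n))) ^ 8 = 1 from Subtype.ext h8, map_one]; rfl)
    have e8 := congrArg τ h1
    rw [map_pow, map_one] at e8
    have e3 : τ ⟨pn t2 (Rd L2 b n) ⟨l, H.L1_NN hl⟩, H.L1_cent hl⟩ ^ 3 = 1 := by
      have := pow_card_eq_one' (x := τ ⟨pn t2 (Rd L2 b n) ⟨l, H.L1_NN hl⟩, H.L1_cent hl⟩)
      rwa [Nat.card_congr Multiplicative.toAdd, Nat.card_zmod] at this
    have := pow_gcd_eq_one.2 ⟨e8, e3⟩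
    rwa [show Nat.gcd 8 3 = 1 from rfl, pow_one] at this
  · obtain ⟨e⟩ := H.exists_psp
    exact ⟨e.toMonoidHom.comp θ0, e.bijective.comp hθ⟩

end Qd

end Cfsg.Agent.UThreeLocal.Big.Local
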