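import Cfsg.Agent.Lib.UThreeLocal.Big.Local.Radical
import Cfsg.Agent.Lib.UThreeLocal.Big.Local.Hyper
import Cfsg.Agent.Lib.UThreeLocal.Big.Local.CentZ
import Cfsg.Agent.Lib.UThreeLocal.Big.Local.L1Norm

/-!
# The signalizers of `A` in `C(r)` lie in the product of the quaternion groups

Coprime generation in two planes reduces an `A`-invariant subgroup of order prime to three to the centralizers
of a point, of `W` and its translates, and of `H` and its translates.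
-/

set_option autoImplicit false
set_option linter.unusedSectionVars false
set_option linter.style.haveILetI false
set_option maxRecDepth 100000

namespace Cfsg.Agent.UThreeLocal.Big.Local

open Subgroup
open scoped commutatorElement

universe u

theorem sig_lines : ∀ i j : ZMod 3, (i ≠ 0 ∨ j ≠ 0) → ∃ k : ZMod 3,
    (k * i = 1 ∧ k * j = 0) ∨ (k * i = 0 ∧ k * j = 1) ∨ (k * i = 1 ∧ k * j = 1) ∨ (k * i = 1 ∧ k * j = -1) := by
  decide

theorem sig_ind01 : ∀ i j : ZMod 3, i • zt 0 + j • zt 1 = 0 → i = 0 ∧ j = 0 := by decide +kernel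

theorem sig_ind02 : ∀ i j : ZMod 3, i • zt 0 + j • zt 2 = 0 → i = 0 ∧ j = 0 := by decide +kernel

theorem sig_ind3 : ∀ i j : ZMod 3, i • sg + j • (![0, 0, 1, 0] : Ex) = 0 → i = 0 ∧ j = 0 := by decide +kernel

theorem sig_span3 : (![0, 0, 0, 1] : Ex) = (1 : ZMod 3) • ![0, 0, 1, 0] + (-1 : ZMod 3) • ![0, 0, 1, -1] + (0 : ZMod 3) • ![1, -1, 0, 0] ∧
    zt 2 = (1 : ZMod 3) • (sg - ![0, 0, 1, 0]) + (0 : ZMod 3) • ![0, 0, 1, -1] + (0 : ZMod 3) • ![1, -1, 0, 0] ∧
    (![1, 0, 0, 0] : Ex) = (-1 : ZMod 3) • (sg + ![0, 0, 1, 0]) + (-1 : ZMod 3) • ![0, 0, 1, -1] + (-1 : ZMod 3) • ![1, -1, 0, 0] ∧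
    (![0, 1, 0, 0] : Ex) = (-1 : ZMod 3) • (sg + ![0, 0, 1, 0]) + (-1 : ZMod 3) • ![0, 0, 1, -1] + (1 : ZMod 3) • ![1, -1, 0, 0] := by
  decide +kernel

theorem sig_span2 : (![1, -1, 0, 0] : Ex) = (-1 : ZMod 3) • (zt 0 - zt 1) + (0 : ZMod 3) • (zt 0 + zt 2) ∧
    (![0, 0, 1, -1] : Ex) = (1 : ZMod 3) • (zt 0 - zt 1) + (1 : ZMod 3) • (zt 0 + zt 2) ∧
    zt 3 = (1 : ZMod 3) • (zt 0 - zt 1) + (1 : ZMod 3) • (zt 0 - zt 2) ∧
    pm cyc ![1, -1, 0, 0] = (0 : ZMod 3) • (zt 0 + zt 1) + (-1 : ZMod 3) • (zt 0 - zt 2) ∧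
    pm cyc ![0, 0, 1, -1] = (-1 : ZMod 3) • (zt 0 + zt 1) + (-1 : ZMod 3) • (zt 0 - zt 2) ∧
    pm cyc (pm cyc ![1, -1, 0, 0]) = (-1 : ZMod 3) • (zt 0 + zt 1) + (-1 : ZMod 3) • (zt 0 + zt 2) ∧
    pm cyc (pm cyc ![0, 0, 1, -1]) = (-1 : ZMod 3) • (zt 0 + zt 1) + (1 : ZMod 3) • (zt 0 + zt 2) := by
  decide +kernel

theorem sig_move : pm cyc (pm cyc (pm (Equiv.swap 0 1) (pm cyc.symm ![0, 0, 1, 0]))) = ![1, 0, 0, 0] ∧
    pm cyc (pm cyc (pm (Equiv.swap 0 1) (pm cyc.symm ![0, 0, 0, 1]))) = ![0, 1, 0, 0] := by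
  decide +kernel

theorem cyc_symm_act : ∀ v : Ex, pm cyc (pm cyc.symm v) = v := by decide +kernel

theorem zero_one_split : ∀ v : Ex, v 0 = 0 → v 1 = 0 → v = v 2 • ![0, 0, 1, 0] + v 3 • ![0, 0, 0, 1] := by
  decide +kernel

variable {G : Type u} [Group G]

/-- The `A`-invariant subgroups of order prime to three centralising the listed exponents lie in `R`. -/
def Bel (A R : Subgroup G) (r : G) (ψ : Ex → G) (S : List Ex) : Prop :=
  ∀ K : Subgroup G, K ≤ centralizer ({r} : Set G) → (Nat.card ↥K).Coprime 3 → A ≤ normalizer (K : Set G) →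
    (∀ x ∈ K, ∀ s ∈ S, Commute x (ψ s)) → K ≤ R

variable [Finite G] {A R : Subgroup G} {r : G} {ψ : Ex → G}

/-- Transport by an element of `C(r) ∩ N(R)` acting on the exponents. -/
theorem Bel.move {S : List Ex} (h : Bel A R r ψ S) (hA : ∀ x, x ∈ A ↔ ∃ v, ψ v = x) {g : G}
    (hgr : g * r = r * g) (hgR : g ∈ normalizer (R : Set G)) {f : Ex → Ex}
    (hf : ∀ v, g * ψ v * g⁻¹ = ψ (f v)) : Bel A R r ψ (S.map f) := by
  intro K hKr hK hKA hKS x hx
  have hmem : ∀ v, ψ v ∈ A := fun v => (hA _).2 ⟨v, rfl⟩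
  have h1 : cj g⁻¹ K ≤ R := by
    refine h _ (fun w hw => ?_) (by rwa [card_cj]) (fun u hu => ?_) fun w hw s hs => ?_
    · rw [mem_cj, inv_inv] at hw
      have h2 : Commute (g * w * g⁻¹) r := mem_centralizer_singleton_iff.1 (hKr hw)
      have h3 : Commute g r := hgr
      have h4 := (h3.inv_left.mul_left h2).mul_left h3
      rw [show g⁻¹ * (g * w * g⁻¹) * g = w by group] at h4
      exact mem_centralizer_singleton_iff.2 h4.eq
    · obtain ⟨v, rfl⟩ := (hA u).1 hu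
      refine Subgroup.mem_normalizer_fintype fun w hw => ?_
      rw [SetLike.mem_coe, mem_cj, inv_inv] at hw ⊢
      rw [show g * (ψ v * w * (ψ v)⁻¹) * g⁻¹ = (g * ψ v * g⁻¹) * (g * w * g⁻¹) * (g * ψ v * g⁻¹)⁻¹ by group, hf]
      exact (mem_normalizer_iff.1 (hKA (hmem _)) _).1 hw
    · rw [mem_cj, inv_inv] at hw
      have h2 := hKS _ hw (f s) (List.mem_map.2 ⟨s, hs, rfl⟩)
      rw [← hf] at h2
      have h3 := h2.map (MulAut.conj g⁻¹).toMonoidHom
      simpa [mul_assoc] using h3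
  have h2 : g⁻¹ * x * g ∈ R := h1 (by rw [mem_cj, inv_inv]; simpa [mul_assoc] using hx)
  have h3 := (mem_normalizer_iff.1 hgR _).1 h2
  rwa [show g * (g⁻¹ * x * g) * g⁻¹ = x by group] at h3

section Span

variable (hadd : ∀ v w, ψ (v + w) = ψ v * ψ w)
include hadd

theorem sig_smul (k : ZMod 3) (v : Ex) : ψ (k • v) ∈ zpowers (ψ v) := by
  have h0 : ψ 0 = 1 := by
    have := hadd 0 0
    rw [add_zero] at this
    exact left_eq_mul.1 this
  rcases z3_dec k with rfl | rfl | rfl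
  · rw [zero_smul, h0]; exact one_mem _
  · rw [one_smul]; exact mem_zpowers _
  · rw [neg_one_smul, show ψ (-v) = (ψ v)⁻¹ from
      eq_inv_of_mul_eq_one_left (by rw [← hadd, neg_add_cancel, h0])]
    exact inv_mem (mem_zpowers _)

theorem sig_comm {x : G} (k : ZMod 3) {v : Ex} (h : Commute x (ψ v)) : Commute x (ψ (k • v)) := by
  obtain ⟨m, hm⟩ := mem_zpowers_iff.1 (sig_smul hadd k v)
  rw [← hm]
  exact h.zpow_right m

theorem Bel.of_two {S T : List Ex} (h : Bel A R r ψ T) {u w : Ex} (hu : u ∈ S) (hw : w ∈ S)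
    (hT : ∀ t ∈ T, ∃ a c : ZMod 3, t = a • u + c • w) : Bel A R r ψ S := fun K hKr hK hKA hKS =>
  h K hKr hK hKA fun x hx t ht => by
    obtain ⟨a, c, rfl⟩ := hT t ht
    rw [hadd]
    exact (sig_comm hadd a (hKS x hx u hu)).mul_right (sig_comm hadd c (hKS x hx w hw))

theorem Bel.of_three {S T : List Ex} (h : Bel A R r ψ T) {u w v : Ex} (hu : u ∈ S) (hw : w ∈ S) (hv : v ∈ S)
    (hT : ∀ t ∈ T, ∃ a c e : ZMod 3, t = a • u + c • w + e • v) : Bel A R r ψ S := fun K hKr hK hKA hKS =>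
  h K hKr hK hKA fun x hx t ht => by
    obtain ⟨a, c, e, rfl⟩ := hT t ht
    rw [hadd, hadd]
    exact ((sig_comm hadd a (hKS x hx u hu)).mul_right (sig_comm hadd c (hKS x hx w hw))).mul_right
      (sig_comm hadd e (hKS x hx v hv))

/-- One application of coprime generation. -/
theorem Bel.step (hA : ∀ x, x ∈ A ↔ ∃ v, ψ v = x) (hinj : Function.Injective ψ) (hexp : ∀ x ∈ A, x ^ 3 = 1)
    {S : List Ex} (v w : Ex) (hind : ∀ i j : ZMod 3, i • v + j • w = 0 → i = 0 ∧ j = 0)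
    (h1 : Bel A R r ψ (v :: S)) (h2 : Bel A R r ψ (w :: S)) (h3 : Bel A R r ψ ((v + w) :: S))
    (h4 : Bel A R r ψ ((v - w) :: S)) : Bel A R r ψ S := by
  intro K hKr hK hKA hKS
  have hmem : ∀ v, ψ v ∈ A := fun v => (hA _).2 ⟨v, rfl⟩
  have hcomm : ∀ {a c : G}, a ∈ A → c ∈ A → Commute a c := by
    intro a c ha hc
    obtain ⟨v, rfl⟩ := (hA a).1 ha
    obtain ⟨w, rfl⟩ := (hA c).1 hc
    show ψ v * ψ w = ψ w * ψ v
    rw [← hadd, ← hadd, add_comm]
  refine le_of_fixed (A := A) hmem hadd hinj hexp v w hind hK (fun i j => hKA (hmem _)) fun i j hij => ?_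
  set u := i • v + j • w with hu
  set K1 := K ⊓ centralizer ({ψ u} : Set G) with hK1
  have hK1A : A ≤ normalizer (K1 : Set G) := fun a ha => Subgroup.mem_normalizer_fintype fun k hk => by
    refine mem_inf.2 ⟨(mem_normalizer_iff.1 (hKA ha) k).1 (mem_inf.1 hk).1, mem_centralizer_singleton_iff.2 ?_⟩
    have hau : Commute a (ψ u) := hcomm ha (hmem u)
    have hku : Commute k (ψ u) := mem_centralizer_singleton_iff.1 (mem_inf.1 hk).2
    exact ((hau.mul_left hku).mul_left hau.inv_left).eq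
  have hK1c : (Nat.card ↥K1).Coprime 3 := hK.coprime_dvd_left (card_dvd_of_le inf_le_left)
  have key : ∀ {t : Ex}, Bel A R r ψ (t :: S) → (∃ k : ZMod 3, t = k • u) → K1 ≤ R := by
    intro t ht hk
    obtain ⟨k, rfl⟩ := hk
    refine ht K1 (inf_le_left.trans hKr) hK1c hK1A fun x hx s hs => ?_
    rcases List.mem_cons.1 hs with rfl | hs
    · exact sig_comm hadd k (mem_centralizer_singleton_iff.1 (mem_inf.1 hx).2)
    · exact hKS x (mem_inf.1 hx).1 s hs
  obtain ⟨k, hk | hk | hk | hk⟩ := sig_lines i j hij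
  · exact key h1 ⟨k, by rw [hu, smul_add, smul_smul, smul_smul, hk.1, hk.2]; simp⟩
  · exact key h2 ⟨k, by rw [hu, smul_add, smul_smul, smul_smul, hk.1, hk.2]; simp⟩
  · exact key h3 ⟨k, by rw [hu, smul_add, smul_smul, smul_smul, hk.1, hk.2]; simp⟩
  · exact key h4 ⟨k, by rw [hu, smul_add, smul_smul, smul_smul, hk.1, hk.2]; simp [sub_eq_add_neg]⟩

end Span

variable {Z Q Q1 Q2 L1 L2 P W : Subgroup G} {t1 t2 z y g d a n b : G}

/-- A subgroup of order prime to three of `C(z) ∩ C(r)` normalised by `A` lies in `L₂`. -/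
theorem sig_point (U : Duo Z Q Q1 Q2 L1 L2 P W t1 t2 z y g d a n)
    (C : Crd Z Q1 Q2 W (AA P y t2) t2 z y d n b ψ) : Bel (AA P y t2) L2 t2 ψ [zt 0] := by
  classical
  intro K hKr hK hKA hKS k hk
  have D := U.data
  have F := D.frame
  have h := D.set
  have hKC : ∀ x ∈ K, x ∈ centralizer (Z : Set G) := fun x hx => D.mem_CZ (by
    have := hKS x hx (zt 0) (List.mem_singleton_self _)
    rw [C.z_eq] at this
    exact this.eq)
  have hdQ := F.pair.le1 D.flag1.mem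
  have hkd : k * d = d * k := by
    have h1 : d * k * d⁻¹ * k⁻¹ ∈ K := mul_mem ((mem_normalizer_iff.1 (hKA D.d_A) k).1 hk) (inv_mem hk)
    have h2 : d * k * d⁻¹ * k⁻¹ ∈ Q := by
      rw [show d * k * d⁻¹ * k⁻¹ = d * (k * d⁻¹ * k⁻¹) by group]
      exact mul_mem hdQ (h.conj_mem (hKC k hk) (inv_mem hdQ))
    have h3 : (d * k * d⁻¹ * k⁻¹) ^ Nat.card ↥K = 1 :=
      congrArg Subtype.val (pow_card_eq_one' (x := (⟨_, h1⟩ : ↥K)))
    have h4 := pow_gcd_eq_one.2 ⟨h3, F.cube _ h2⟩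
    rw [hK.gcd_eq_one, pow_one] at h4
    exact (mul_inv_eq_iff_eq_mul.1 (mul_inv_eq_one.1 h4)).symm
  obtain ⟨q, hq, l, hl, m, hm, x, hx, e⟩ := cent_z U k (mem_inf.2 ⟨hKC k hk, hKr hk⟩)
  -- the first factor is trivial
  have hl1 : l = 1 := by
    have hmd : Commute m d := (mem_centralizer_iff.1 (F.L2_cent hm) d D.flag1.mem).symm
    have hxd : Commute x d := D.A_comm hx D.d_A
    have e1 : q * (l * d * l⁻¹) * q⁻¹ = d := by
      have h1 : k * d * k⁻¹ = d := by rw [hkd, mul_inv_cancel_right]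
      rw [e, show q * l * m * x * d * (q * l * m * x)⁻¹ = q * (l * ((m * x) * d * (m * x)⁻¹) * l⁻¹) * q⁻¹ by group,
        (hmd.mul_left hxd).eq, mul_inv_cancel_right] at h1
      exact h1
    have hd1 : d⁻¹ * (l * d * l⁻¹) ∈ Z := by
      rw [show l * d * l⁻¹ = q⁻¹ * (q * (l * d * l⁻¹) * q⁻¹) * q by group, e1,
        show d⁻¹ * (q⁻¹ * d * q) = ⁅d⁻¹, q⁻¹⁆ by rw [commutatorElement_def]; group]
      exact h.comm_mem (inv_mem hdQ) (inv_mem (F.pair.le1 hq))
    have hlP : l ∈ P := D.mem_P (F.L1_le hl) hd1 (by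
      rw [← mem_centralizer_iff.1 (F.L1_cent hl) a D.flag2.mem, mul_inv_cancel_right, inv_mul_cancel]
      exact one_mem _)
    have h1 : l ^ 8 = 1 := by
      have := pow_card_eq_one' (x := (⟨l, hl⟩ : ↥L1))
      rw [F.L1_card] at this
      simpa using congrArg Subtype.val this
    have h2 : l ^ 2187 = 1 := by
      have := pow_card_eq_one' (x := (⟨l, hlP⟩ : ↥P))
      rw [D.P_card] at this
      simpa using congrArg Subtype.val this
    have h3 := pow_gcd_eq_one.2 ⟨h1, h2⟩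
    rwa [show Nat.gcd 8 2187 = 1 from rfl, pow_one] at h3
  rw [hl1, mul_one] at e
  -- the rest
  have hnorm : ∀ c : G, c ∈ centralizer (Z : Set G) → c * t2 = t2 * c → c ∈ normalizer (L2 : Set G) :=
    fun c hc hct => norm_L2_of_fix F D.z_mem D.z_ne (centralizer_le_normalizer _ hc) hct
  have hqC := h.Q_le (F.pair.le1 hq)
  have hqt : q * t2 = t2 * q := (D.t2_fix hq).symm
  set t := q * x with ht
  set s := q * m * q⁻¹ with hs
  have hsL : s ∈ L2 := (mem_normalizer_iff.1 (hnorm q hqC hqt) m).1 hm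
  have est : k = s * t := by rw [e, hs, ht]; group
  have htC : t ∈ centralizer (Z : Set G) := mul_mem hqC (D.A_le_C hx)
  have htt : Commute t t2 := (show Commute q t2 from hqt).mul_left (show Commute x t2 from D.A_t2 hx)
  have htn := hnorm t htC htt.eq
  have hpow : ∀ j : ℕ, ∃ s' ∈ L2, (s * t) ^ j = s' * t ^ j := by
    intro j
    induction j with
    | zero => exact ⟨1, one_mem _, by simp⟩
    | succ j ih =>
      obtain ⟨s', hs', e'⟩ := ih
      refine ⟨s' * (t ^ j * s * (t ^ j)⁻¹), mul_mem hs'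
        ((mem_normalizer_iff.1 (pow_mem htn j) s).1 hsL), ?_⟩
      rw [pow_succ, e', pow_succ]; group
  have htP : t ∈ P := mul_mem (D.Q_le_P (F.pair.le1 hq)) (D.A_le_P hx)
  obtain ⟨s', hs', e'⟩ := hpow (Nat.card ↥K)
  have hkN : k ^ Nat.card ↥K = 1 := congrArg Subtype.val (pow_card_eq_one' (x := (⟨k, hk⟩ : ↥K)))
  rw [← est, hkN] at e'
  have hP' : ∀ w ∈ P, w ^ 2187 = 1 := fun w hw => by
    have := pow_card_eq_one' (x := (⟨w, hw⟩ : ↥P))
    rw [D.P_card] at this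
    simpa using congrArg Subtype.val this
  have htL : t ^ Nat.card ↥K ∈ L2 := by
    rw [eq_inv_of_mul_eq_one_right e'.symm]
    exact inv_mem hs'
  have ht8 : (t ^ Nat.card ↥K) ^ 8 = 1 := by
    have := pow_card_eq_one' (x := (⟨_, htL⟩ : ↥L2))
    rw [F.L2_card] at this
    simpa using congrArg Subtype.val this
  have ht0 := pow_gcd_eq_one.2 ⟨ht8, hP' _ (pow_mem htP _)⟩
  rw [show Nat.gcd 8 2187 = 1 from rfl, pow_one] at ht0
  have ht1 := pow_gcd_eq_one.2 ⟨ht0, hP' t htP⟩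
  rw [show (2187 : ℕ) = 3 ^ 7 by norm_num, (Nat.Coprime.pow_right 7 hK).gcd_eq_one, pow_one] at ht1
  rw [est, ht1, mul_one]
  exact hsL

/-- THEOREM: the signalizers of `A` in `C(r)` lie in `Rd`. -/
theorem sig_Rd (U : Duo Z Q Q1 Q2 L1 L2 P W t1 t2 z y g d a n)
    (C : Crd Z Q1 Q2 W (AA P y t2) t2 z y d n b ψ) (Ra : Rad Q1 L2 (AA P y t2) t2 b n ψ) :
    ∀ K : Subgroup G, K ≤ centralizer ({t2} : Set G) → (Nat.card ↥K).Coprime 3 →
      AA P y t2 ≤ normalizer (K : Set G) → K ≤ Rd L2 b n := by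
  classical
  haveI : Fact (Nat.Prime 3) := ⟨Nat.prime_three⟩
  have D := U.data
  have hadd := C.add
  have hexp : ∀ x ∈ AA P y t2, x ^ 3 = 1 := fun x hx => D.A_exp hx
  let R := Rd L2 b n
  have hL2R : L2 ≤ R := (Lv_zero (b := b) (n := n)).symm.le.trans (Ra.Lv_le 0)
  have hbR : b ∈ normalizer (R : Set G) := Ra.Q1_norm C.b_mem
  have hnR : n ∈ normalizer (R : Set G) :=
    Ra.norm_A (mem_inf.2 ⟨U.n_A, mem_centralizer_singleton_iff.2 U.n_t2⟩)
  have cb : Commute b t2 := (D.t2_fix C.b_mem).symm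
  have cn : Commute n t2 := U.n_t2
  -- the points
  have hpt0 : Bel (AA P y t2) R t2 ψ [zt 0] := fun K h1 h2 h3 h4 => (sig_point U C K h1 h2 h3 h4).trans hL2R
  have hgR : ∀ i, gv b n i ∈ normalizer (R : Set G) := fun i => by
    fin_cases i
    exacts [one_mem _, hnR, mul_mem hbR hnR, mul_mem (mul_mem hbR hbR) hnR]
  have hpt : ∀ i, Bel (AA P y t2) R t2 ψ [zt i] := fun i => by
    have h1 := hpt0.move C.mem (gv_commute U C i) (hgR i) (gv_act C i)
    rwa [List.map_singleton, zt_perm, (gP_facts i).1] at h1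
  -- the plane `W` and a translate
  have hW : Bel (AA P y t2) R t2 ψ [![0, 0, 1, 0], ![0, 0, 0, 1]] := by
    intro K hKr hK hKA hKS
    have hnR' : cj n L2 ≤ R := Ra.Lv_le 1
    refine (U.sig K hK (le_inf (fun x hx => mem_centralizer_iff.2 fun w hw => ?_) hKr) (hKA D.z_A)).trans
      (sup_le hL2R hnR')
    obtain ⟨v, rfl⟩ := (C.mem w).1 (U.W_le hw)
    obtain ⟨h0, h1⟩ := (C.W_eq v).1 hw
    rw [zero_one_split v h0 h1, hadd]
    exact ((sig_comm hadd _ (hKS x hx _ (by simp))).mul_right (sig_comm hadd _ (hKS x hx _ (by simp)))).eq.symm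
  have hW' : Bel (AA P y t2) R t2 ψ [![1, 0, 0, 0], ![0, 1, 0, 0]] := by
    have hact : ∀ v, b * b * n * b⁻¹ * ψ v * (b * b * n * b⁻¹)⁻¹ =
        ψ (pm cyc (pm cyc (pm (Equiv.swap 0 1) (pm cyc.symm v)))) := fun v => by
      have h1 : b⁻¹ * ψ v * b = ψ (pm cyc.symm v) := by
        conv_lhs => rw [← cyc_symm_act v, ← C.b_act]
        group
      rw [← C.b_act, ← C.b_act, ← C.n_act, ← h1]; group
    have h := hW.move C.mem (((cb.mul_left cb).mul_left cn).mul_left cb.inv_left).eq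
      (mul_mem (mul_mem (mul_mem hbR hbR) hnR) (inv_mem hbR)) hact
    rwa [List.map_cons, List.map_singleton, sig_move.1, sig_move.2] at h
  -- the hyperplane `H`
  have hH : Bel (AA P y t2) R t2 ψ [sg, ![1, -1, 0, 0], ![0, 0, 1, -1]] := by
    intro K hKr hK hKA hKS k hk
    have h1 := cent_H U C k (hKr hk) (hKS k hk _ (by simp)).eq (hKS k hk _ (by simp)).eq (hKS k hk _ (by simp)).eq
    have hn : zpowers t2 ≤ normalizer (AA P y t2 : Set G) := zpowers_le.2 (centralizer_le_normalizer _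
      (mem_centralizer_iff.2 fun u hu => D.A_t2 hu))
    rw [← SetLike.mem_coe, Subgroup.coe_mul_of_right_le_normalizer_left _ _ hn, Set.mem_mul] at h1
    obtain ⟨x, hx, w, hw, rfl⟩ := h1
    obtain ⟨j, rfl⟩ := mem_zpowers_iff.1 hw
    have hrR : t2 ∈ R := Ra.Lv_le 0 (Ra.r_mem 0)
    have hcx : Commute x (t2 ^ j) := (show Commute x t2 from D.A_t2 hx).zpow_right j
    set N := Nat.card ↥K with hN
    have hkN : (x * t2 ^ j) ^ N = 1 := congrArg Subtype.val (pow_card_eq_one' (x := (⟨_, hk⟩ : ↥K)))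
    rw [hcx.mul_pow] at hkN
    have hxN2 : (x ^ N) ^ 2 = 1 := by
      rw [eq_inv_of_mul_eq_one_left hkN, inv_pow, ← pow_mul, mul_comm, pow_mul,
        show (t2 ^ j) ^ 2 = 1 by rw [← zpow_natCast, ← zpow_mul, mul_comm, zpow_mul, zpow_natCast, pow_two, D.t2_sq,
          one_zpow], one_pow, inv_one]
    have h2 := pow_gcd_eq_one.2 ⟨hxN2, hexp _ (pow_mem hx N)⟩
    rw [show Nat.gcd 2 3 = 1 from rfl, pow_one] at h2
    have h3 := pow_gcd_eq_one.2 ⟨h2, hexp x hx⟩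
    rw [hK.gcd_eq_one, pow_one] at h3
    rw [h3, one_mul]
    exact zpow_mem hrR j
  -- the external line
  have hE : Bel (AA P y t2) R t2 ψ [![1, -1, 0, 0], ![0, 0, 1, -1]] := by
    obtain ⟨e3, ez, f0, f1⟩ := sig_span3
    refine Bel.step hadd C.mem C.inj hexp sg ![0, 0, 1, 0] sig_ind3 hH ?_ ?_ ?_
    · refine hW.of_three hadd (u := ![0, 0, 1, 0]) (w := ![0, 0, 1, -1]) (v := ![1, -1, 0, 0])
        (by simp) (by simp) (by simp) fun t ht => ?_
      rcases List.mem_cons.1 ht with rfl | ht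
      · exact ⟨1, 0, 0, by simp⟩
      · rw [List.mem_singleton.1 ht]; exact ⟨_, _, _, e3⟩
    · refine hW'.of_three hadd (u := sg + ![0, 0, 1, 0]) (w := ![0, 0, 1, -1]) (v := ![1, -1, 0, 0])
        (by simp) (by simp) (by simp) fun t ht => ?_
      rcases List.mem_cons.1 ht with rfl | ht
      · exact ⟨_, _, _, f0⟩
      · rw [List.mem_singleton.1 ht]; exact ⟨_, _, _, f1⟩
    · refine (hpt 2).of_three hadd (u := sg - ![0, 0, 1, 0]) (w := ![0, 0, 1, -1]) (v := ![1, -1, 0, 0])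
        (by simp) (by simp) (by simp) fun t ht => ?_
      rw [List.mem_singleton.1 ht]; exact ⟨_, _, _, ez⟩
  have hE1 : Bel (AA P y t2) R t2 ψ [pm cyc ![1, -1, 0, 0], pm cyc ![0, 0, 1, -1]] :=
    hE.move C.mem cb.eq hbR C.b_act
  have hE2 : Bel (AA P y t2) R t2 ψ [pm cyc (pm cyc ![1, -1, 0, 0]), pm cyc (pm cyc ![0, 0, 1, -1])] :=
    hE1.move C.mem cb.eq hbR C.b_act
  obtain ⟨a1, a2, p3, c1, c2, d1, d2⟩ := sig_span2
  have htwo : ∀ {u s : Ex} {i : Fin 4}, u = zt i → Bel (AA P y t2) R t2 ψ [u, s] := fun {u s i} e =>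
    (hpt i).of_two hadd (u := u) (w := s) (by simp) (by simp) fun t ht => ⟨1, 0, by
      rw [List.mem_singleton.1 ht, e]; simp⟩
  have hmain : Bel (AA P y t2) R t2 ψ [] := by
    refine Bel.step hadd C.mem C.inj hexp (zt 0) (zt 1) sig_ind01 (hpt 0) (hpt 1) ?_ ?_
    · refine Bel.step hadd C.mem C.inj hexp (zt 0) (zt 2) sig_ind02 (htwo rfl) (htwo rfl) ?_ ?_
      · refine hE2.of_two hadd (u := zt 0 + zt 1) (w := zt 0 + zt 2) (by simp) (by simp) fun t ht => ?_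
        rcases List.mem_cons.1 ht with rfl | ht
        · exact ⟨_, _, d1⟩
        · rw [List.mem_singleton.1 ht]; exact ⟨_, _, d2⟩
      · refine hE1.of_two hadd (u := zt 0 + zt 1) (w := zt 0 - zt 2) (by simp) (by simp) fun t ht => ?_
        rcases List.mem_cons.1 ht with rfl | ht
        · exact ⟨_, _, c1⟩
        · rw [List.mem_singleton.1 ht]; exact ⟨_, _, c2⟩
    · refine Bel.step hadd C.mem C.inj hexp (zt 0) (zt 2) sig_ind02 (htwo rfl) (htwo rfl) ?_ ?_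
      · refine hE.of_two hadd (u := zt 0 - zt 1) (w := zt 0 + zt 2) (by simp) (by simp) fun t ht => ?_
        rcases List.mem_cons.1 ht with rfl | ht
        · exact ⟨_, _, a1⟩
        · rw [List.mem_singleton.1 ht]; exact ⟨_, _, a2⟩
      · refine (hpt 3).of_two hadd (u := zt 0 - zt 1) (w := zt 0 - zt 2) (by simp) (by simp) fun t ht => ?_
        rw [List.mem_singleton.1 ht]; exact ⟨_, _, p3⟩
  exact fun K hKr hK hKA => hmain K hKr hK hKA fun x _ s hs => absurd hs (List.not_mem_nil)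

end Cfsg.Agent.UThreeLocal.Big.Local
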